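import Mathlib
import Cfsg.Agent.PermutationGroups.OrderBound.Defs
set_option linter.all false

-- part: PermutationGroups/OrderBound/NumLarge
section
/-!
# Order bound for primitive groups (S0725): numerics for `n ≥ 2 ^ 23`
-/

set_option autoImplicit false

namespace Cfsg.Agent.PermutationGroups.OrderBound.NumLarge

open Cfsg.Agent.PermutationGroups.OrderBound.Defs

/-! ### General facts about `vseq` -/

theorem vseq_nonneg {n : ℕ} {v0 : ℝ} {A : ℕ → ℝ} (h0 : 0 ≤ v0) (hA : ∀ t, 0 ≤ A t) :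
    ∀ t, 0 ≤ vseq n v0 A t := by
  intro t
  induction t with
  | zero => rw [vseq_zero]; exact h0
  | succ t ih => rw [vseq_succ]; exact div_nonneg (mul_nonneg ih (hA t)) (Nat.cast_nonneg _)

theorem vseq_step {n : ℕ} {v0 : ℝ} {A : ℕ → ℝ} (h0 : 0 ≤ v0) (hA : ∀ t, 0 ≤ A t) (t : ℕ) (ρ : ℝ)
    (hρ : 0 ≤ ρ) (h : A t ≤ ρ * ((n - t - 1 : ℕ) : ℝ)) :
    vseq n v0 A (t + 1) ≤ ρ * vseq n v0 A t := by
  rw [vseq_succ]
  have hv := vseq_nonneg (n := n) h0 hA t
  rcases Nat.eq_zero_or_pos (n - t - 1) with hz | hpos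
  · rw [hz, Nat.cast_zero, div_zero]
    exact mul_nonneg hρ hv
  · have hpos' : (0 : ℝ) < ((n - t - 1 : ℕ) : ℝ) := by exact_mod_cast hpos
    rw [div_le_iff₀ hpos']
    calc vseq n v0 A t * A t ≤ vseq n v0 A t * (ρ * ((n - t - 1 : ℕ) : ℝ)) :=
          mul_le_mul_of_nonneg_left h hv
      _ = ρ * vseq n v0 A t * ((n - t - 1 : ℕ) : ℝ) := by ring

/-- `(1 - 1/e)^e ≤ 1/2`. -/
theorem one_sub_inv_pow_le (e : ℕ) (he : 1 ≤ e) : (1 - 1 / (e : ℝ)) ^ e ≤ 1 / 2 := by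
  have h1 : (1 - 1 / (e : ℝ)) ^ e ≤ Real.exp (-1) :=
    Real.one_sub_div_pow_le_exp_neg (n := e) (t := 1) (by exact_mod_cast he)
  have h2 : (2 : ℝ) ≤ Real.exp 1 := by
    have := Real.add_one_le_exp (1 : ℝ)
    linarith
  have h3 : Real.exp (-1) ≤ 1 / 2 := by
    rw [Real.exp_neg, inv_eq_one_div]
    exact one_div_le_one_div_of_le (by norm_num) h2
  exact h1.trans h3

theorem decay {v : ℕ → ℝ} (e t0 : ℕ) (B : ℝ) (he : 1 ≤ e) (hB0 : 0 ≤ B)
    (hstep : ∀ t, t0 ≤ t → v (t + 1) ≤ (1 - 1 / (e : ℝ)) * v t) (hB : v t0 ≤ B) (K : ℕ) :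
    ∀ t, t0 + e * K ≤ t → v t ≤ B / 2 ^ K := by
  have he' : (1 : ℝ) ≤ e := by exact_mod_cast he
  have hq0 : (0 : ℝ) ≤ 1 - 1 / (e : ℝ) := by
    rw [sub_nonneg]
    rw [div_le_one (by linarith)]
    exact he'
  have hq1 : 1 - 1 / (e : ℝ) ≤ 1 := by
    have : (0 : ℝ) ≤ 1 / (e : ℝ) := by positivity
    linarith
  have h1 : ∀ s, v (t0 + s) ≤ (1 - 1 / (e : ℝ)) ^ s * B := by
    intro s
    induction s with
    | zero => simpa using hB
    | succ s ih =>
      calc v (t0 + (s + 1)) = v (t0 + s + 1) := by rw [add_assoc]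
        _ ≤ (1 - 1 / (e : ℝ)) * v (t0 + s) := hstep _ (Nat.le_add_right _ _)
        _ ≤ (1 - 1 / (e : ℝ)) * ((1 - 1 / (e : ℝ)) ^ s * B) := mul_le_mul_of_nonneg_left ih hq0
        _ = (1 - 1 / (e : ℝ)) ^ (s + 1) * B := by rw [pow_succ]; ring
  intro t ht
  obtain ⟨s, rfl⟩ : ∃ s, t = t0 + s := ⟨t - t0, by omega⟩
  have hs : e * K ≤ s := by omega
  calc v (t0 + s) ≤ (1 - 1 / (e : ℝ)) ^ s * B := h1 s
    _ ≤ (1 - 1 / (e : ℝ)) ^ (e * K) * B :=
        mul_le_mul_of_nonneg_right (pow_le_pow_of_le_one hq0 hq1 hs) hB0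
    _ = ((1 - 1 / (e : ℝ)) ^ e) ^ K * B := by rw [pow_mul]
    _ ≤ (1 / 2) ^ K * B :=
        mul_le_mul_of_nonneg_right
          (pow_le_pow_left₀ (pow_nonneg hq0 _) (one_sub_inv_pow_le e he) K) hB0
    _ = B / 2 ^ K := by rw [one_div, inv_pow]; ring

/-- product bound: factors `≤ B` for `t < T`, then `≤ 1 + 1/M`. -/
theorem prod_bound (M T : ℕ) (hM : 1 ≤ M) (v : ℕ → ℝ) (B : ℝ) (hB : 1 ≤ B) (hv : ∀ t, 0 ≤ v t)
    (h1 : ∀ t, 1 + v t ≤ B) (h2 : ∀ t, T ≤ t → v t ≤ 1 / (M : ℝ)) :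
    ∏ t ∈ Finset.range M, (1 + v t) ≤ 4 * B ^ T := by
  have hM' : (0 : ℝ) < M := by exact_mod_cast hM
  have hle : ∏ t ∈ Finset.range M, (1 + v t) ≤
      ∏ t ∈ Finset.range M, ((if t < T then B else 1) * (1 + 1 / (M : ℝ))) := by
    apply Finset.prod_le_prod
    · intro t _; have := hv t; linarith
    · intro t _
      have hpos : (0 : ℝ) ≤ 1 / (M : ℝ) := by positivity
      by_cases ht : t < T
      · rw [if_pos ht]
        calc 1 + v t ≤ B := h1 t
          _ ≤ B * (1 + 1 / (M : ℝ)) := by nlinarith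
      · rw [if_neg ht, one_mul]
        have := h2 t (not_lt.mp ht)
        linarith
  rw [Finset.prod_mul_distrib, Finset.prod_const, Finset.card_range] at hle
  have hexp : (1 + 1 / (M : ℝ)) ^ M ≤ 4 := by
    have h3 : (1 + 1 / (M : ℝ)) ^ M ≤ Real.exp 1 := by
      have h4 : 1 + 1 / (M : ℝ) ≤ Real.exp (1 / (M : ℝ)) := by
        have := Real.add_one_le_exp (1 / (M : ℝ))
        linarith
      calc (1 + 1 / (M : ℝ)) ^ M ≤ (Real.exp (1 / (M : ℝ))) ^ M :=
            pow_le_pow_left₀ (by positivity) h4 M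
        _ = Real.exp 1 := by
            rw [← Real.exp_nat_mul]
            congr 1
            field_simp
    have h5 := Real.exp_one_lt_d9
    linarith
  have hprod : ∏ t ∈ Finset.range M, (if t < T then B else 1) ≤ B ^ T := by
    rw [Finset.prod_ite, Finset.prod_const_one, mul_one, Finset.prod_const]
    apply pow_le_pow_right₀ hB
    calc (Finset.filter (fun t => t < T) (Finset.range M)).card ≤ (Finset.range T).card := by
          apply Finset.card_le_card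
          intro t ht
          rw [Finset.mem_filter] at ht
          exact Finset.mem_range.mpr ht.2
      _ = T := Finset.card_range T
  have hprod0 : (0 : ℝ) ≤ ∏ t ∈ Finset.range M, (if t < T then B else 1) := by
    apply Finset.prod_nonneg
    intro t _
    split_ifs <;> linarith
  calc ∏ t ∈ Finset.range M, (1 + v t)
      ≤ (∏ t ∈ Finset.range M, (if t < T then B else 1)) * (1 + 1 / (M : ℝ)) ^ M := hle
    _ ≤ B ^ T * 4 := mul_le_mul hprod hexp (by positivity) (by positivity)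
    _ = 4 * B ^ T := by ring

/-! ### The bound for `UB` -/

theorem dmin_spec (m : ℕ) (hm : 1 ≤ m) : m - 1 ≤ dmin m * (dmin m - 1) ∧ 1 ≤ dmin m := by
  have hdef : dmin m = (Nat.sqrt (4 * m - 4) + 3) / 2 := rfl
  set y := Nat.sqrt (4 * m - 4) with hy
  have h1 : 4 * m - 4 < (y + 1) * (y + 1) := Nat.lt_succ_sqrt _
  have h2 : y + 2 ≤ 2 * dmin m := by rw [hdef]; omega
  have h3 : 1 ≤ dmin m := by omega
  refine ⟨?_, h3⟩
  obtain ⟨d, hd⟩ : ∃ d, dmin m = d + 1 := ⟨dmin m - 1, by omega⟩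
  rw [hd] at h2 ⊢
  rw [Nat.add_sub_cancel]
  have h4 : y ≤ 2 * d := by omega
  have h5 : (y + 1) * (y + 1) ≤ (2 * d + 1) * (2 * d + 1) := Nat.mul_self_le_mul_self (by omega)
  have h6 : (2 * d + 1) * (2 * d + 1) = 4 * ((d + 1) * d) + 1 := by ring
  omega

theorem dmin_le (m n : ℕ) (h : m ≤ n) : dmin m ≤ Nat.sqrt n + 2 := by
  have hdef : dmin m = (Nat.sqrt (4 * m - 4) + 3) / 2 := rfl
  set y := Nat.sqrt (4 * m - 4) with hy
  have h1 : y * y ≤ 4 * m - 4 := Nat.sqrt_le _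
  have h2 : n < (Nat.sqrt n + 1) * (Nat.sqrt n + 1) := Nat.lt_succ_sqrt _
  have h3 : y < 2 * (Nat.sqrt n + 1) := by
    by_contra hcon
    push Not at hcon
    have h4 : (2 * (Nat.sqrt n + 1)) * (2 * (Nat.sqrt n + 1)) ≤ y * y :=
      Nat.mul_self_le_mul_self hcon
    have h5 : (2 * (Nat.sqrt n + 1)) * (2 * (Nat.sqrt n + 1)) =
      4 * ((Nat.sqrt n + 1) * (Nat.sqrt n + 1)) := by ring
    omega
  rw [hdef]
  omega

theorem UB_le (M d P : ℕ) (hM : 1 ≤ M) (hd : 1 ≤ d) (hdM : M - 1 ≤ d * (d - 1)) (hP : M ≤ 2 ^ P) :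
    UB M d ≤ 4 * (M : ℝ) ^ (d * (2 * P)) := by
  have hM1 : (1 : ℝ) ≤ M := by exact_mod_cast hM
  have hd1 : (1 : ℝ) ≤ d := by exact_mod_cast hd
  have h0 : (0 : ℝ) ≤ (M : ℝ) - 1 := by linarith
  have hA : ∀ t, (0 : ℝ) ≤ (fun t => ((M - t - d : ℕ) : ℝ)) t := fun t => Nat.cast_nonneg _
  have hq0 : (0 : ℝ) ≤ 1 - 1 / (d : ℝ) := by
    rw [sub_nonneg, div_le_one (by linarith)]; exact hd1
  have hq1 : 1 - 1 / (d : ℝ) ≤ 1 := by
    have : (0 : ℝ) ≤ 1 / (d : ℝ) := by positivity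
    linarith
  have hstep : ∀ t, vseq M ((M : ℝ) - 1) (fun t => ((M - t - d : ℕ) : ℝ)) (t + 1) ≤
      (1 - 1 / (d : ℝ)) * vseq M ((M : ℝ) - 1) (fun t => ((M - t - d : ℕ) : ℝ)) t := by
    intro t
    apply vseq_step h0 hA t _ hq0
    -- `(M - t - d) * d ≤ (d - 1) * (M - t - 1)`
    have hnat : (M - t - d) * d ≤ (d - 1) * (M - t - 1) := by
      rcases Nat.lt_or_ge (M - t) d with h | h
      · rw [Nat.sub_eq_zero_of_le h.le, zero_mul]; exact Nat.zero_le _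
      · obtain ⟨u, hu⟩ : ∃ u, M - t = d + u := ⟨M - t - d, by omega⟩
        obtain ⟨c, rfl⟩ : ∃ c, d = c + 1 := ⟨d - 1, by omega⟩
        have e1 : M - t - (c + 1) = u := by omega
        have e2 : M - t - 1 = c + u := by omega
        rw [e1, e2, Nat.add_sub_cancel]
        rw [Nat.add_sub_cancel] at hdM
        have h3 : c + u ≤ M - 1 := by omega
        have h4 : c + u ≤ (c + 1) * c := h3.trans hdM
        nlinarith
    have hdpos : (0 : ℝ) < d := by linarith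
    have hreal : ((M - t - d : ℕ) : ℝ) * d ≤ ((d : ℝ) - 1) * ((M - t - 1 : ℕ) : ℝ) := by
      have : (((M - t - d) * d : ℕ) : ℝ) ≤ (((d - 1) * (M - t - 1) : ℕ) : ℝ) := by
        exact_mod_cast hnat
      rw [Nat.cast_mul, Nat.cast_mul, Nat.cast_sub hd, Nat.cast_one] at this
      exact this
    show ((M - t - d : ℕ) : ℝ) ≤ _
    have e3 : (1 - 1 / (d : ℝ)) * ((M - t - 1 : ℕ) : ℝ) =
        (((d : ℝ) - 1) * ((M - t - 1 : ℕ) : ℝ)) / d := by
      field_simp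
    rw [e3, le_div_iff₀ hdpos]
    exact hreal
  set v := vseq M ((M : ℝ) - 1) (fun t => ((M - t - d : ℕ) : ℝ)) with hv
  have hnn : ∀ t, 0 ≤ v t := vseq_nonneg h0 hA
  have hle : ∀ t, v t ≤ (M : ℝ) - 1 := by
    intro t
    induction t with
    | zero => exact le_refl _
    | succ t ih =>
      refine (hstep t).trans ?_
      calc (1 - 1 / (d : ℝ)) * v t ≤ 1 * v t := mul_le_mul_of_nonneg_right hq1 (hnn t)
        _ = v t := one_mul _
        _ ≤ _ := ih
  have hdec := decay (v := v) d 0 ((M : ℝ) - 1) hd h0 (fun t _ => hstep t) (hle 0) (2 * P)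
  have hfin := prod_bound M (d * (2 * P)) hM v (M : ℝ) hM1 hnn
    (fun t => by have := hle t; linarith) (fun t ht => by
      refine (hdec t (by omega)).trans ?_
      have hMpos : (0 : ℝ) < M := by linarith
      have h2P : (M : ℝ) * M ≤ 2 ^ (2 * P) := by
        have hP' : (M : ℝ) ≤ 2 ^ P := by exact_mod_cast hP
        calc (M : ℝ) * M ≤ 2 ^ P * 2 ^ P := mul_le_mul hP' hP' hMpos.le (by positivity)
          _ = 2 ^ (2 * P) := by rw [two_mul, pow_add]
      rw [div_le_div_iff₀ (by positivity) hMpos]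
      nlinarith)
  exact hfin

/-! ### The bound for `IB` -/

theorem IB_le (M b e P : ℕ) (hM : 1 ≤ M) (he : 4 ≤ e) (heM : M ≤ e * e) (hb : 2 ≤ b)
    (hb2 : 2 * b ≤ M - 1) (hP : M ≤ 2 ^ P) :
    IB M b 2 ≤ 4 * (2 * (M : ℝ)) ^ (2 * e + e * (2 * P + 1)) := by
  have hM1 : (1 : ℝ) ≤ M := by exact_mod_cast hM
  have he1 : (4 : ℝ) ≤ e := by exact_mod_cast he
  have hepos : (0 : ℝ) < e := by linarith
  have h0 : (0 : ℝ) ≤ ((2 : ℕ) : ℝ) * ((M : ℝ) - 1) := by
    have : (0 : ℝ) ≤ (M : ℝ) - 1 := by linarith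
    positivity
  -- real second branch
  have hsecond : ∀ t, t < b → ((b - 1 - t : ℕ) : ℝ) + ((M - 1 - b : ℕ) : ℝ) / ((2 : ℕ) : ℝ) ≤
      (3 / 4) * ((M - t - 1 : ℕ) : ℝ) := by
    intro t ht
    have hnat : 4 * (b - 1 - t) + 2 * (M - 1 - b) ≤ 3 * (M - t - 1) := by omega
    have hreal : 4 * ((b - 1 - t : ℕ) : ℝ) + 2 * ((M - 1 - b : ℕ) : ℝ) ≤
        3 * ((M - t - 1 : ℕ) : ℝ) := by exact_mod_cast hnat
    push_cast
    linarith
  have hA : ∀ t, (0 : ℝ) ≤ AI M b 2 t := by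
    intro t
    rw [AI]
    split_ifs with ht
    · exact le_max_of_le_left (Nat.cast_nonneg _)
    · exact Nat.cast_nonneg _
  have hle1 : ∀ t, AI M b 2 t ≤ 1 * ((M - t - 1 : ℕ) : ℝ) := by
    intro t
    have hfirst : ((M - t - max (2 * b) (t + 3 - b) : ℕ) : ℝ) ≤ ((M - t - 1 : ℕ) : ℝ) := by
      have : M - t - max (2 * b) (t + 3 - b) ≤ M - t - 1 := by
        have := le_max_left (2 * b) (t + 3 - b)
        omega
      exact_mod_cast this
    rw [AI, one_mul]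
    split_ifs with ht
    · apply max_le hfirst
      refine (hsecond t ht).trans ?_
      have : (0 : ℝ) ≤ ((M - t - 1 : ℕ) : ℝ) := Nat.cast_nonneg _
      linarith
    · exact hfirst
  have hle2 : ∀ t, 2 * e ≤ t → AI M b 2 t ≤ (1 - 1 / (e : ℝ)) * ((M - t - 1 : ℕ) : ℝ) := by
    intro t ht
    have hXe : ((M - t - 1 : ℕ) : ℝ) / e ≤ e := by
      rw [div_le_iff₀ hepos]
      have : M - t - 1 ≤ e * e := by omega
      exact_mod_cast this
    have hX0 : (0 : ℝ) ≤ ((M - t - 1 : ℕ) : ℝ) := Nat.cast_nonneg _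
    have hrw : (1 - 1 / (e : ℝ)) * ((M - t - 1 : ℕ) : ℝ) =
        ((M - t - 1 : ℕ) : ℝ) - ((M - t - 1 : ℕ) : ℝ) / e := by ring
    have hfirst : ((M - t - max (2 * b) (t + 3 - b) : ℕ) : ℝ) ≤
        (1 - 1 / (e : ℝ)) * ((M - t - 1 : ℕ) : ℝ) := by
      have hmax : 2 * (t + 3) ≤ 3 * max (2 * b) (t + 3 - b) := by
        have h1 := le_max_left (2 * b) (t + 3 - b)
        have h2 := le_max_right (2 * b) (t + 3 - b)
        omega
      rcases Nat.lt_or_ge (M - t) (max (2 * b) (t + 3 - b)) with h | h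
      · rw [Nat.sub_eq_zero_of_le h.le, Nat.cast_zero]
        apply mul_nonneg _ hX0
        rw [sub_nonneg, div_le_one hepos]; linarith
      · have hnat : (M - t - max (2 * b) (t + 3 - b)) + e ≤ M - t - 1 := by omega
        have hreal : ((M - t - max (2 * b) (t + 3 - b) : ℕ) : ℝ) + e ≤ ((M - t - 1 : ℕ) : ℝ) := by
          exact_mod_cast hnat
        rw [hrw]
        linarith
    rw [AI]
    split_ifs with htb
    · apply max_le hfirst
      refine (hsecond t htb).trans ?_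
      apply mul_le_mul_of_nonneg_right _ hX0
      have : 1 / (e : ℝ) ≤ 1 / 4 := one_div_le_one_div_of_le (by norm_num) he1
      linarith
    · exact hfirst
  set v := vseq M (((2 : ℕ) : ℝ) * ((M : ℝ) - 1)) (AI M b 2) with hv
  have hnn : ∀ t, 0 ≤ v t := vseq_nonneg h0 hA
  have hstep1 : ∀ t, v (t + 1) ≤ 1 * v t := fun t =>
    vseq_step h0 hA t 1 (by norm_num) (hle1 t)
  have hq0 : (0 : ℝ) ≤ 1 - 1 / (e : ℝ) := by
    rw [sub_nonneg, div_le_one hepos]; linarith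
  have hstep2 : ∀ t, 2 * e ≤ t → v (t + 1) ≤ (1 - 1 / (e : ℝ)) * v t := fun t ht =>
    vseq_step h0 hA t _ hq0 (hle2 t ht)
  have hle : ∀ t, v t ≤ 2 * (M : ℝ) - 2 := by
    intro t
    induction t with
    | zero =>
      rw [hv, vseq_zero]
      push_cast
      linarith
    | succ t ih =>
      refine (hstep1 t).trans ?_
      rw [one_mul]; exact ih
  have hdec := decay (v := v) e (2 * e) (2 * (M : ℝ)) (by omega) (by linarith) hstep2
    (by have := hle (2 * e); linarith) (2 * P + 1)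
  have hfin := prod_bound M (2 * e + e * (2 * P + 1)) hM v (2 * (M : ℝ)) (by linarith) hnn
    (fun t => by have := hle t; linarith) (fun t ht => by
      refine (hdec t ht).trans ?_
      have hMpos : (0 : ℝ) < M := by linarith
      have h2P : (M : ℝ) * M ≤ 2 ^ (2 * P) := by
        have hP' : (M : ℝ) ≤ 2 ^ P := by exact_mod_cast hP
        calc (M : ℝ) * M ≤ 2 ^ P * 2 ^ P := mul_le_mul hP' hP' hMpos.le (by positivity)
          _ = 2 ^ (2 * P) := by rw [two_mul, pow_add]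
      rw [div_le_div_iff₀ (by positivity) hMpos, pow_succ]
      nlinarith)
  exact hfin

/-! ### The degree of transitivity -/

theorem pow_bound1 (J : ℕ) (hJ : 23 ≤ J) : 18 * (J + 1) ^ 5 ≤ 25 * 2 ^ J := by
  induction J, hJ using Nat.le_induction with
  | base => norm_num
  | succ J hJ ih =>
    have h1 : (J + 1 + 1) ^ 5 ≤ 2 * (J + 1) ^ 5 := by
      obtain ⟨k, rfl⟩ : ∃ k, J = k + 23 := ⟨J - 23, by omega⟩
      ring_nf
      nlinarith [Nat.zero_le k, Nat.zero_le (k ^ 2), Nat.zero_le (k ^ 3), Nat.zero_le (k ^ 4),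
        Nat.zero_le (k ^ 5)]
    rw [pow_succ 2 J]
    nlinarith

theorem pow_bound2 (J : ℕ) (hJ : 23 ≤ J) : (2 * J ^ 2 + 9 * J + 13) ^ 2 ≤ 2 ^ J := by
  induction J, hJ using Nat.le_induction with
  | base => norm_num
  | succ J hJ ih =>
    have h1 : (2 * (J + 1) ^ 2 + 9 * (J + 1) + 13) ^ 2 ≤ 2 * (2 * J ^ 2 + 9 * J + 13) ^ 2 := by
      obtain ⟨k, rfl⟩ : ∃ k, J = k + 23 := ⟨J - 23, by omega⟩
      ring_nf
      nlinarith [Nat.zero_le k, Nat.zero_le (k ^ 2), Nat.zero_le (k ^ 3), Nat.zero_le (k ^ 4)]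
    rw [pow_succ 2 J]
    linarith

theorem two_pow_le_centralBinom (m : ℕ) (hm : 1 ≤ m) : 2 ^ m ≤ Nat.centralBinom m := by
  have h1 : 4 ^ m ≤ 2 * m * Nat.centralBinom m := Nat.four_pow_le_two_mul_self_mul_centralBinom m hm
  have h2 : 2 * m ≤ 2 ^ m := by
    induction m, hm using Nat.le_induction with
    | base => norm_num
    | succ m hm ih =>
      have := ih (Nat.four_pow_le_two_mul_self_mul_centralBinom m hm)
      rw [pow_succ]
      omega
  have h3 : (4 : ℕ) ^ m = 2 ^ m * 2 ^ m := by rw [← mul_pow]; norm_num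
  have h4 : 2 ^ m * 2 ^ m ≤ 2 ^ m * Nat.centralBinom m := by
    rw [← h3]
    exact h1.trans (Nat.mul_le_mul_right _ h2)
  exact Nat.le_of_mul_le_mul_left h4 (by positivity)

theorem degree_bound (n j J : ℕ) (hJ : 23 ≤ J) (hJn : 2 ^ J ≤ n) (hnJ : n < 2 ^ (J + 1))
    (hW : Wcond n j) : (J + 1) * j ≤ n := by
  set P := J + 1 with hP
  set m := Nat.sqrt (n / (2 * P)) with hm
  have hPpos : 0 < 2 * P := by omega
  have h1 : m * m ≤ n / (2 * P) := Nat.sqrt_le _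
  have h2 : n / (2 * P) < (m + 1) * (m + 1) := Nat.lt_succ_sqrt _
  have h3 : m * m * (2 * P) ≤ n := (Nat.le_div_iff_mul_le hPpos).mp h1
  have h4 : n < (m + 1) * (m + 1) * (2 * P) := (Nat.div_lt_iff_lt_mul hPpos).mp h2
  have h5 := pow_bound1 J hJ
  rw [← hP] at h5
  -- `3 P² < 5 (m+1)`
  have h6 : 3 * P ^ 2 < 5 * (m + 1) := by
    by_contra hcon
    push Not at hcon
    have h7 : (5 * (m + 1)) * (5 * (m + 1)) ≤ (3 * P ^ 2) * (3 * P ^ 2) :=
      Nat.mul_self_le_mul_self hcon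
    have h8 : 25 * n < 25 * ((m + 1) * (m + 1) * (2 * P)) := by omega
    have h9 : 25 * ((m + 1) * (m + 1) * (2 * P)) = (5 * (m + 1)) * (5 * (m + 1)) * (2 * P) := by
      ring
    have h10 : (5 * (m + 1)) * (5 * (m + 1)) * (2 * P) ≤ (3 * P ^ 2) * (3 * P ^ 2) * (2 * P) :=
      Nat.mul_le_mul_right _ h7
    have h11 : (3 * P ^ 2) * (3 * P ^ 2) * (2 * P) = 18 * P ^ 5 := by ring
    omega
  have hP24 : 24 ≤ P := by omega
  have hPP : 24 * 24 ≤ P ^ 2 := by rw [sq]; exact Nat.mul_le_mul hP24 hP24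
  have hm17 : 17 ≤ m := by omega
  -- the main inequality
  have h12 : P * n ≤ m * (4 * m ^ 2 - 2) := by
    have h13 : P * n ≤ P * ((m + 1) * (m + 1) * (2 * P)) := Nat.mul_le_mul_left _ h4.le
    have h14 : 3 * (P * ((m + 1) * (m + 1) * (2 * P))) = 2 * ((m + 1) * (m + 1)) * (3 * P ^ 2) := by
      ring
    have h15 : 2 * ((m + 1) * (m + 1)) * (3 * P ^ 2) ≤ 2 * ((m + 1) * (m + 1)) * (5 * (m + 1)) :=
      Nat.mul_le_mul_left _ h6.le
    have h16 : 2 * ((m + 1) * (m + 1)) * (5 * (m + 1)) ≤ 3 * (m * (4 * m ^ 2 - 2)) := by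
      obtain ⟨k, hk⟩ : ∃ k, m = k + 17 := ⟨m - 17, by omega⟩
      rw [hk]
      have e1 : 4 * (k + 17) ^ 2 - 2 = 4 * k ^ 2 + 136 * k + 1154 := by
        have : 4 * (k + 17) ^ 2 = 4 * k ^ 2 + 136 * k + 1154 + 2 := by ring
        omega
      rw [e1]
      ring_nf
      nlinarith [Nat.zero_le k, Nat.zero_le (k ^ 2), Nat.zero_le (k ^ 3)]
    omega
  by_contra hcon
  push Not at hcon
  have hj : 2 * m ^ 2 ≤ j := by
    by_contra hcon2
    push Not at hcon2
    have : P * j ≤ P * (2 * m ^ 2) := Nat.mul_le_mul_left _ hcon2.le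
    have e2 : P * (2 * m ^ 2) = m * m * (2 * P) := by ring
    omega
  have hWm := hW m (by omega) hj
  have h17 : (2 ^ m) ^ (4 * m ^ 2 - 2) ≤ Nat.centralBinom m ^ (4 * m ^ 2 - 2) :=
    Nat.pow_le_pow_left (two_pow_le_centralBinom m (by omega)) _
  have h18 : n ^ n < (2 ^ P) ^ n := Nat.pow_lt_pow_left hnJ (by
    have : 0 < 2 ^ J := by positivity
    omega)
  have h19 : (2 ^ P) ^ n ≤ (2 ^ m) ^ (4 * m ^ 2 - 2) := by
    rw [← pow_mul, ← pow_mul]
    exact Nat.pow_le_pow_right (by norm_num) h12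
  exact absurd (h18.trans_le (h19.trans (h17.trans hWm))) (lt_irrefl _)

/-! ### The final statement -/

theorem good_large (n j : ℕ) (hn : 2 ^ 23 ≤ n) (hj : 1 ≤ j) (hjn : j ≤ n) (hW : Wcond n j) :
    Good n j := by
  set J := Nat.log 2 n with hJdef
  have hn0 : n ≠ 0 := by
    have : 0 < 2 ^ 23 := by norm_num
    omega
  have hJ : 23 ≤ J := (Nat.le_log_iff_pow_le (by norm_num) hn0).mpr hn
  have hJn : 2 ^ J ≤ n := Nat.pow_log_le_self 2 hn0
  have hnJ : n < 2 ^ (J + 1) := Nat.lt_pow_succ_log_self (by norm_num) n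
  have hdeg := degree_bound n j J hJ hJn hnJ hW
  set r := Nat.sqrt n with hr
  have hr1 : 2 * J ^ 2 + 9 * J + 13 ≤ r := by
    rw [hr, Nat.le_sqrt, ← sq]
    exact (pow_bound2 J hJ).trans hJn
  have hr2 : r * r ≤ n := Nat.sqrt_le n
  have hr3 : n < (r + 1) * (r + 1) := Nat.lt_succ_sqrt n
  have hkey : (2 * J ^ 2 + 9 * J + 10) * (r + 2) + 2 ≤ n := by
    refine le_trans ?_ hr2
    obtain ⟨k, hk⟩ : ∃ k, r = 2 * J ^ 2 + 9 * J + 13 + k := ⟨r - (2 * J ^ 2 + 9 * J + 13), by omega⟩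
    set C := 2 * J ^ 2 + 9 * J + 10 with hC
    have hk' : r = C + 3 + k := by omega
    rw [hk']
    nlinarith [Nat.zero_le k, Nat.zero_le C, Nat.zero_le (k * C), Nat.zero_le (k * k)]
  have h4n : (4 : ℝ) ^ n = 2 ^ (2 * n) := by
    rw [pow_mul]; norm_num
  have hnR : (n : ℝ) ≤ 2 ^ (J + 1) := by exact_mod_cast hnJ.le
  refine ⟨?_, ?_⟩
  · -- uniprimitive part
    have hM1 : 1 ≤ n - j + 1 := by omega
    have hMn : n - j + 1 ≤ n := by omega
    obtain ⟨hd1, hd2⟩ := dmin_spec (n - j + 1) hM1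
    have hd3 := dmin_le (n - j + 1) n hMn
    rw [← hr] at hd3
    set M := n - j + 1 with hM
    set d := dmin M with hd
    have hMP : M ≤ 2 ^ (J + 1) := hMn.trans hnJ.le
    have hMR : (M : ℝ) ≤ 2 ^ (J + 1) := by exact_mod_cast hMP
    have h1 := UB_le M d (J + 1) hM1 hd2 hd1 hMP
    have h2 : (n.descFactorial (j - 1) : ℝ) ≤ (2 ^ (J + 1)) ^ (j - 1) := by
      calc (n.descFactorial (j - 1) : ℝ) ≤ ((n ^ (j - 1) : ℕ) : ℝ) := by
            exact_mod_cast Nat.descFactorial_le_pow n (j - 1)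
        _ = (n : ℝ) ^ (j - 1) := by push_cast; ring
        _ ≤ _ := pow_le_pow_left₀ (Nat.cast_nonneg _) hnR _
    have hUB0 : (0 : ℝ) ≤ 4 * (M : ℝ) ^ (d * (2 * (J + 1))) := by positivity
    calc (n.descFactorial (j - 1) : ℝ) * UB M d
        ≤ (n.descFactorial (j - 1) : ℝ) * (4 * (M : ℝ) ^ (d * (2 * (J + 1)))) :=
          mul_le_mul_of_nonneg_left h1 (Nat.cast_nonneg _)
      _ ≤ (2 ^ (J + 1)) ^ (j - 1) * (4 * (M : ℝ) ^ (d * (2 * (J + 1)))) :=
          mul_le_mul_of_nonneg_right h2 hUB0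
      _ ≤ (2 ^ (J + 1)) ^ (j - 1) * (4 * (2 ^ (J + 1)) ^ (d * (2 * (J + 1)))) := by
          gcongr
      _ = 2 ^ ((J + 1) * (j - 1) + 2 + (J + 1) * (d * (2 * (J + 1)))) := by
          rw [← pow_mul, ← pow_mul, pow_add, pow_add]; norm_num; ring
      _ ≤ 2 ^ (2 * n) := by
          apply pow_le_pow_right₀ (by norm_num)
          have e1 : (J + 1) * (j - 1) ≤ (J + 1) * j := Nat.mul_le_mul_left _ (Nat.sub_le _ _)
          have e2 : (J + 1) * (d * (2 * (J + 1))) ≤ (J + 1) * ((r + 2) * (2 * (J + 1))) :=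
            Nat.mul_le_mul_left _ (Nat.mul_le_mul_right _ hd3)
          have e3 : (J + 1) * ((r + 2) * (2 * (J + 1))) = (2 * J ^ 2 + 4 * J + 2) * (r + 2) := by
            ring
          have e4 : (2 * J ^ 2 + 4 * J + 2) * (r + 2) ≤ (2 * J ^ 2 + 9 * J + 10) * (r + 2) :=
            Nat.mul_le_mul_right _ (by omega)
          omega
      _ = 4 ^ n := h4n.symm
  · -- imprimitive part
    intro hj2 b hb hb2 _
    refine ⟨2, by norm_num, ?_⟩
    have hM1 : 1 ≤ n - j + 2 := by omega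
    have hMn : n - j + 2 ≤ n := by omega
    set M := n - j + 2 with hM
    have hMP : M ≤ 2 ^ (J + 1) := hMn.trans hnJ.le
    have hMR : (M : ℝ) ≤ 2 ^ (J + 1) := by exact_mod_cast hMP
    have h1 := IB_le M b (r + 1) (J + 1) hM1 (by omega) (hMn.trans hr3.le) hb (by omega) hMP
    have h2 : (n.descFactorial (j - 2) : ℝ) ≤ (2 ^ (J + 1)) ^ (j - 2) := by
      calc (n.descFactorial (j - 2) : ℝ) ≤ ((n ^ (j - 2) : ℕ) : ℝ) := by
            exact_mod_cast Nat.descFactorial_le_pow n (j - 2)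
        _ = (n : ℝ) ^ (j - 2) := by push_cast; ring
        _ ≤ _ := pow_le_pow_left₀ (Nat.cast_nonneg _) hnR _
    have hIB0 : (0 : ℝ) ≤ 4 * (2 * (M : ℝ)) ^ (2 * (r + 1) + (r + 1) * (2 * (J + 1) + 1)) := by
      positivity
    calc (n.descFactorial (j - 2) : ℝ) * IB M b 2
        ≤ (n.descFactorial (j - 2) : ℝ) *
          (4 * (2 * (M : ℝ)) ^ (2 * (r + 1) + (r + 1) * (2 * (J + 1) + 1))) :=
          mul_le_mul_of_nonneg_left h1 (Nat.cast_nonneg _)
      _ ≤ (2 ^ (J + 1)) ^ (j - 2) *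
          (4 * (2 * (M : ℝ)) ^ (2 * (r + 1) + (r + 1) * (2 * (J + 1) + 1))) :=
          mul_le_mul_of_nonneg_right h2 hIB0
      _ ≤ (2 ^ (J + 1)) ^ (j - 2) *
          (4 * (2 ^ (J + 2)) ^ (2 * (r + 1) + (r + 1) * (2 * (J + 1) + 1))) := by
          have hM2 : 2 * (M : ℝ) ≤ 2 ^ (J + 2) := by
            rw [pow_succ 2 (J + 1)]; linarith
          gcongr
      _ = 2 ^ ((J + 1) * (j - 2) + 2 +
            (J + 2) * (2 * (r + 1) + (r + 1) * (2 * (J + 1) + 1))) := by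
          rw [← pow_mul, ← pow_mul, pow_add, pow_add]; norm_num; ring
      _ ≤ 2 ^ (2 * n) := by
          apply pow_le_pow_right₀ (by norm_num)
          have e1 : (J + 1) * (j - 2) ≤ (J + 1) * j := Nat.mul_le_mul_left _ (Nat.sub_le _ _)
          have e3 : (J + 2) * (2 * (r + 1) + (r + 1) * (2 * (J + 1) + 1)) =
              (2 * J ^ 2 + 9 * J + 10) * (r + 1) := by ring
          have e4 : (2 * J ^ 2 + 9 * J + 10) * (r + 1) ≤ (2 * J ^ 2 + 9 * J + 10) * (r + 2) :=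
            Nat.mul_le_mul_left _ (by omega)
          omega
      _ = 4 ^ n := h4n.symm

end Cfsg.Agent.PermutationGroups.OrderBound.NumLarge
end

-- part: PermutationGroups/OrderBound/NumBlocks
section
/-!
# Order bound for primitive groups (S0725): block estimates for `UB` and `IB`

`UB_blocks`: for all `1 ≤ m ≤ n1`, `UB m (dmin m) ≤ 4 * ∏_{i < K} (1 + (n1-1)/2^i)^s`.
`IB_blocks`: for all `1 ≤ m ≤ n1`, `IB m b 2 ≤ 4 * ∏_{i < K} (1 + 2(n1-1)/2^(i(i-1)/2))^s`.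
-/

set_option autoImplicit false

namespace Cfsg.Agent.PermutationGroups.OrderBound.NumBlocks

open Cfsg.Agent.PermutationGroups.OrderBound.Defs
open Cfsg.Agent.PermutationGroups.OrderBound.NumLarge

theorem prod_range_blocks (s K : ℕ) (hs : 1 ≤ s) (F : ℕ → ℝ) :
    ∏ t ∈ Finset.range (s * K), F (t / s) = ∏ i ∈ Finset.range K, F i ^ s := by
  induction K with
  | zero => simp
  | succ K ih =>
    rw [Nat.mul_succ, Finset.prod_range_add, ih, Finset.prod_range_succ]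
    congr 1
    have : ∀ x ∈ Finset.range s, F ((s * K + x) / s) = F K := by
      intro x hx
      have hx' := Finset.mem_range.mp hx
      congr 1
      rw [Nat.mul_add_div (by omega), Nat.div_eq_of_lt hx', Nat.add_zero]
    rw [Finset.prod_congr rfl this, Finset.prod_const, Finset.card_range]

theorem prod_le_prod_add (F : ℕ → ℝ) (hF : ∀ t, 1 ≤ F t) (M k : ℕ) :
    ∏ t ∈ Finset.range M, F t ≤ ∏ t ∈ Finset.range (M + k), F t := by
  induction k with
  | zero => exact le_refl _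
  | succ k ih =>
    rw [← Nat.add_assoc, Finset.prod_range_succ]
    have h0 : (0 : ℝ) ≤ ∏ t ∈ Finset.range (M + k), F t :=
      Finset.prod_nonneg fun t _ => le_trans zero_le_one (hF t)
    have h1 := hF (M + k)
    nlinarith

theorem prod_blocks (M s K : ℕ) (hM : 1 ≤ M) (hs : 1 ≤ s) (v B : ℕ → ℝ) (hv : ∀ t, 0 ≤ v t)
    (hB : ∀ i, 0 ≤ B i) (h : ∀ i, i < K → ∀ t, s * i ≤ t → v t ≤ B i)
    (h2 : ∀ t, s * K ≤ t → v t ≤ 1 / (M : ℝ)) :
    ∏ t ∈ Finset.range M, (1 + v t) ≤ 4 * ∏ i ∈ Finset.range K, (1 + B i) ^ s := by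
  have hM' : (0 : ℝ) < M := by exact_mod_cast hM
  set F : ℕ → ℝ := fun t => if t < s * K then 1 + B (t / s) else 1 with hFdef
  have hF1 : ∀ t, 1 ≤ F t := by
    intro t
    simp only [hFdef]
    split_ifs
    · have := hB (t / s); linarith
    · exact le_refl _
  have hle : ∏ t ∈ Finset.range M, (1 + v t) ≤
      ∏ t ∈ Finset.range M, (F t * (1 + 1 / (M : ℝ))) := by
    apply Finset.prod_le_prod
    · intro t _; have := hv t; linarith
    · intro t _
      have hpos : (0 : ℝ) ≤ 1 / (M : ℝ) := by positivity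
      by_cases ht : t < s * K
      · have hi : t / s < K := Nat.div_lt_of_lt_mul ht
        have h3 := h (t / s) hi t (Nat.mul_div_le t s)
        have h4 : F t = 1 + B (t / s) := by simp only [hFdef]; rw [if_pos ht]
        rw [h4]
        have := hB (t / s)
        nlinarith
      · have h4 : F t = 1 := by simp only [hFdef]; rw [if_neg ht]
        rw [h4, one_mul]
        have := h2 t (not_lt.mp ht)
        linarith
  rw [Finset.prod_mul_distrib, Finset.prod_const, Finset.card_range] at hle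
  have hexp : (1 + 1 / (M : ℝ)) ^ M ≤ 4 := by
    have h3 : (1 + 1 / (M : ℝ)) ^ M ≤ Real.exp 1 := by
      have h4 : 1 + 1 / (M : ℝ) ≤ Real.exp (1 / (M : ℝ)) := by
        have := Real.add_one_le_exp (1 / (M : ℝ))
        linarith
      calc (1 + 1 / (M : ℝ)) ^ M ≤ (Real.exp (1 / (M : ℝ))) ^ M :=
            pow_le_pow_left₀ (by positivity) h4 M
        _ = Real.exp 1 := by
            rw [← Real.exp_nat_mul]
            congr 1
            field_simp
    have h5 := Real.exp_one_lt_d9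
    linarith
  have hprod : ∏ t ∈ Finset.range M, F t ≤ ∏ i ∈ Finset.range K, (1 + B i) ^ s := by
    have e1 : ∏ t ∈ Finset.range (s * K), F t = ∏ i ∈ Finset.range K, (1 + B i) ^ s := by
      rw [← prod_range_blocks s K hs (fun i => 1 + B i)]
      apply Finset.prod_congr rfl
      intro t ht
      simp only [hFdef]
      rw [if_pos (Finset.mem_range.mp ht)]
    rcases le_total M (s * K) with hle' | hle'
    · obtain ⟨k, hk⟩ := Nat.exists_eq_add_of_le hle'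
      rw [← e1, hk]
      exact prod_le_prod_add F hF1 M k
    · obtain ⟨k, hk⟩ := Nat.exists_eq_add_of_le hle'
      rw [hk, Finset.prod_range_add, e1]
      have : ∀ x ∈ Finset.range k, F (s * K + x) = 1 := by
        intro x _
        simp only [hFdef]
        rw [if_neg (by omega)]
      rw [Finset.prod_congr rfl this, Finset.prod_const_one, mul_one]
  have hprod0 : (0 : ℝ) ≤ ∏ i ∈ Finset.range K, (1 + B i) ^ s :=
    Finset.prod_nonneg fun i _ => pow_nonneg (by have := hB i; linarith) _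
  calc ∏ t ∈ Finset.range M, (1 + v t)
      ≤ (∏ t ∈ Finset.range M, F t) * (1 + 1 / (M : ℝ)) ^ M := hle
    _ ≤ (∏ i ∈ Finset.range K, (1 + B i) ^ s) * 4 :=
        mul_le_mul hprod hexp (by positivity) hprod0
    _ = 4 * ∏ i ∈ Finset.range K, (1 + B i) ^ s := by ring

theorem dmin_le_of (m D : ℕ) (hD : 1 ≤ D) (h : m - 1 ≤ D * (D - 1)) : dmin m ≤ D := by
  have hdef : dmin m = (Nat.sqrt (4 * m - 4) + 3) / 2 := rfl
  set y := Nat.sqrt (4 * m - 4) with hy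
  have h1 : y * y ≤ 4 * m - 4 := Nat.sqrt_le _
  obtain ⟨e, rfl⟩ : ∃ e, D = e + 1 := ⟨D - 1, by omega⟩
  rw [Nat.add_sub_cancel] at h
  have h3 : y < 2 * e + 1 := by
    by_contra hcon
    push Not at hcon
    have h4 : (2 * e + 1) * (2 * e + 1) ≤ y * y := Nat.mul_self_le_mul_self hcon
    have h5 : (2 * e + 1) * (2 * e + 1) = 4 * ((e + 1) * e) + 1 := by ring
    omega
  rw [hdef]
  omega

theorem pow_le_half {a b s : ℕ} (hb : 1 ≤ b) (h : 2 * a ^ s ≤ b ^ s) :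
    ((a : ℝ) / b) ^ s ≤ 1 / 2 := by
  have hb' : (0 : ℝ) < b := by exact_mod_cast hb
  have h' : 2 * (a : ℝ) ^ s ≤ (b : ℝ) ^ s := by exact_mod_cast h
  rw [div_pow, div_le_div_iff₀ (by positivity) (by norm_num)]
  linarith

theorem UB_blocks (m n1 D s K : ℕ) (hm : 1 ≤ m) (hmn : m ≤ n1) (hD : 1 ≤ D)
    (hD2 : n1 - 1 ≤ D * (D - 1)) (hs : 1 ≤ s) (hs2 : 2 * (D - 1) ^ s ≤ D ^ s)
    (hK : (n1 - 1) * n1 ≤ 2 ^ K) :
    UB m (dmin m) ≤ 4 * ∏ i ∈ Finset.range K, (1 + ((n1 - 1 : ℕ) : ℝ) / 2 ^ i) ^ s := by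
  have hM1 : (1 : ℝ) ≤ m := by exact_mod_cast hm
  have hdD : dmin m ≤ D := dmin_le_of m D hD (by omega)
  obtain ⟨hdM, hd⟩ := dmin_spec m hm
  set d := dmin m with hddef
  have hd1 : (1 : ℝ) ≤ d := by exact_mod_cast hd
  have hD1 : (1 : ℝ) ≤ D := by exact_mod_cast hD
  have h0 : (0 : ℝ) ≤ (m : ℝ) - 1 := by linarith
  have hA : ∀ t, (0 : ℝ) ≤ (fun t => ((m - t - d : ℕ) : ℝ)) t := fun t => Nat.cast_nonneg _
  have hqe : (((D - 1 : ℕ) : ℝ) / D) = 1 - 1 / (D : ℝ) := by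
    rw [Nat.cast_sub hD, Nat.cast_one]
    field_simp
  have hq0 : (0 : ℝ) ≤ 1 - 1 / (D : ℝ) := by rw [← hqe]; positivity
  have hq1 : 1 - 1 / (D : ℝ) ≤ 1 := by
    have : (0 : ℝ) ≤ 1 / (D : ℝ) := by positivity
    linarith
  have hstep : ∀ t, vseq m ((m : ℝ) - 1) (fun t => ((m - t - d : ℕ) : ℝ)) (t + 1) ≤
      (1 - 1 / (D : ℝ)) * vseq m ((m : ℝ) - 1) (fun t => ((m - t - d : ℕ) : ℝ)) t := by
    intro t
    apply vseq_step h0 hA t _ hq0
    have hnat : (m - t - d) * d ≤ (d - 1) * (m - t - 1) := by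
      rcases Nat.lt_or_ge (m - t) d with h | h
      · rw [Nat.sub_eq_zero_of_le h.le, zero_mul]; exact Nat.zero_le _
      · obtain ⟨u, hu⟩ : ∃ u, m - t = d + u := ⟨m - t - d, by omega⟩
        obtain ⟨c, hc⟩ : ∃ c, d = c + 1 := ⟨d - 1, by omega⟩
        rw [hc] at hdM hu ⊢
        have e1 : m - t - (c + 1) = u := by omega
        have e2 : m - t - 1 = c + u := by omega
        rw [e1, e2, Nat.add_sub_cancel]
        rw [Nat.add_sub_cancel] at hdM
        have h3 : c + u ≤ m - 1 := by omega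
        have h4 : c + u ≤ (c + 1) * c := h3.trans hdM
        nlinarith
    have hdpos : (0 : ℝ) < d := by linarith
    have hreal : ((m - t - d : ℕ) : ℝ) * d ≤ ((d : ℝ) - 1) * ((m - t - 1 : ℕ) : ℝ) := by
      have : (((m - t - d) * d : ℕ) : ℝ) ≤ (((d - 1) * (m - t - 1) : ℕ) : ℝ) := by
        exact_mod_cast hnat
      rw [Nat.cast_mul, Nat.cast_mul, Nat.cast_sub hd, Nat.cast_one] at this
      exact this
    show ((m - t - d : ℕ) : ℝ) ≤ _
    have e3 : ((m - t - d : ℕ) : ℝ) ≤ (1 - 1 / (d : ℝ)) * ((m - t - 1 : ℕ) : ℝ) := by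
      have e3 : (1 - 1 / (d : ℝ)) * ((m - t - 1 : ℕ) : ℝ) =
          (((d : ℝ) - 1) * ((m - t - 1 : ℕ) : ℝ)) / d := by
        field_simp
      rw [e3, le_div_iff₀ hdpos]
      exact hreal
    refine e3.trans (mul_le_mul_of_nonneg_right ?_ (Nat.cast_nonneg _))
    have : 1 / (D : ℝ) ≤ 1 / (d : ℝ) :=
      one_div_le_one_div_of_le hdpos (by exact_mod_cast hdD)
    linarith
  set v := vseq m ((m : ℝ) - 1) (fun t => ((m - t - d : ℕ) : ℝ)) with hv
  have hnn : ∀ t, 0 ≤ v t := vseq_nonneg h0 hA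
  have hN : (m : ℝ) - 1 ≤ ((n1 - 1 : ℕ) : ℝ) := by
    have : ((m - 1 : ℕ) : ℝ) ≤ ((n1 - 1 : ℕ) : ℝ) := by
      exact_mod_cast Nat.sub_le_sub_right hmn 1
    rwa [Nat.cast_sub hm, Nat.cast_one] at this
  have hgeo : ∀ t, v t ≤ (1 - 1 / (D : ℝ)) ^ t * ((n1 - 1 : ℕ) : ℝ) := by
    intro t
    induction t with
    | zero => rw [pow_zero, one_mul]; exact hN
    | succ t ih =>
      calc v (t + 1) ≤ (1 - 1 / (D : ℝ)) * v t := hstep t
        _ ≤ (1 - 1 / (D : ℝ)) * ((1 - 1 / (D : ℝ)) ^ t * ((n1 - 1 : ℕ) : ℝ)) :=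
          mul_le_mul_of_nonneg_left ih hq0
        _ = _ := by rw [pow_succ]; ring
  have hhalf : (1 - 1 / (D : ℝ)) ^ s ≤ 1 / 2 := by
    rw [← hqe]; exact pow_le_half hD hs2
  have hblock : ∀ i t, s * i ≤ t → v t ≤ ((n1 - 1 : ℕ) : ℝ) / 2 ^ i := by
    intro i t ht
    calc v t ≤ (1 - 1 / (D : ℝ)) ^ t * ((n1 - 1 : ℕ) : ℝ) := hgeo t
      _ ≤ (1 - 1 / (D : ℝ)) ^ (s * i) * ((n1 - 1 : ℕ) : ℝ) :=
        mul_le_mul_of_nonneg_right (pow_le_pow_of_le_one hq0 hq1 ht) (Nat.cast_nonneg _)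
      _ = ((1 - 1 / (D : ℝ)) ^ s) ^ i * ((n1 - 1 : ℕ) : ℝ) := by rw [pow_mul]
      _ ≤ (1 / 2) ^ i * ((n1 - 1 : ℕ) : ℝ) :=
        mul_le_mul_of_nonneg_right (pow_le_pow_left₀ (pow_nonneg hq0 _) hhalf i)
          (Nat.cast_nonneg _)
      _ = ((n1 - 1 : ℕ) : ℝ) / 2 ^ i := by rw [one_div, inv_pow]; ring
  refine prod_blocks m s K hm hs v (fun i => ((n1 - 1 : ℕ) : ℝ) / 2 ^ i) hnn
    (fun i => by positivity) (fun i _ t ht => hblock i t ht) (fun t ht => ?_)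
  refine (hblock K t ht).trans ?_
  have hmpos : (0 : ℝ) < m := by linarith
  rw [div_le_div_iff₀ (by positivity) hmpos, one_mul]
  have h6 : (n1 - 1) * m ≤ 2 ^ K := (Nat.mul_le_mul_left _ hmn).trans hK
  exact_mod_cast h6

/-- Bernoulli. -/
theorem one_sub_mul_le_pow (x : ℝ) (hx1 : x ≤ 1) (i : ℕ) :
    1 - i * x ≤ (1 - x) ^ i := by
  have := one_add_mul_le_pow (a := -x) (by linarith) i
  have e : 1 + (i : ℝ) * -x = 1 - i * x := by ring
  rw [e] at this
  have e2 : (1 + -x) = 1 - x := by ring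
  rwa [e2] at this

theorem tri_succ (i : ℕ) : (i + 1) * i / 2 = i * (i - 1) / 2 + i := by
  cases i with
  | zero => rfl
  | succ k =>
    rw [Nat.add_sub_cancel]
    have e : (k + 1 + 1) * (k + 1) = (k + 1) * k + 2 * (k + 1) := by ring
    rw [e, Nat.add_mul_div_left _ _ (by norm_num)]

theorem IB_blocks (m n1 b s K : ℕ) (hm : 1 ≤ m) (hmn : m ≤ n1) (hb : 2 ≤ b)
    (hb2 : 2 * b ≤ m - 1) (hs : 1 ≤ s)
    (hs2 : 2 * (3 * (n1 - 1) - 2 * s) ^ s ≤ (3 * (n1 - 1)) ^ s)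
    (hK1 : 8 * K * s ≤ 3 * (n1 - 1)) (hK2 : 2 * (n1 - 1) * n1 ≤ 2 ^ (K * (K - 1) / 2)) :
    IB m b 2 ≤
      4 * ∏ i ∈ Finset.range K, (1 + ((2 * (n1 - 1) : ℕ) : ℝ) / 2 ^ (i * (i - 1) / 2)) ^ s := by
  have hM1 : (1 : ℝ) ≤ m := by exact_mod_cast hm
  have h0 : (0 : ℝ) ≤ ((2 : ℕ) : ℝ) * ((m : ℝ) - 1) := by
    have : (0 : ℝ) ≤ (m : ℝ) - 1 := by linarith
    positivity
  have hN5 : 4 ≤ n1 - 1 := by omega
  set N := n1 - 1 with hNdef
  have hKpos : 1 ≤ K := by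
    rcases Nat.eq_zero_or_pos K with h | h
    · rw [h] at hK2
      have : 1 ≤ N := by omega
      have h2 : 1 * 1 ≤ N * n1 := Nat.mul_le_mul this (by omega)
      have h3 : 2 * N * n1 = 2 * (N * n1) := by ring
      simp only [Nat.zero_mul, Nat.zero_div, pow_zero] at hK2
      omega
    · exact h
  have hsN : 8 * s ≤ 3 * N := by
    have : 8 * 1 * s ≤ 8 * K * s := Nat.mul_le_mul_right _ (Nat.mul_le_mul_left _ hKpos)
    omega
  have hNR : (4 : ℝ) ≤ (N : ℝ) := by exact_mod_cast hN5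
  have hNpos : (0 : ℝ) < (N : ℝ) := by linarith
  -- x = 2s/(3N)
  set x : ℝ := 2 * (s : ℝ) / (3 * (N : ℝ)) with hx
  have hx0 : 0 ≤ x := by positivity
  have hx14 : (K : ℝ) * x ≤ 1 / 4 := by
    rw [hx]
    have : (8 : ℝ) * K * s ≤ 3 * N := by exact_mod_cast hK1
    rw [mul_div_assoc', div_le_div_iff₀ (by positivity) (by norm_num)]
    nlinarith
  have hx1 : x ≤ 1 := by
    have : (1 : ℝ) ≤ K := by exact_mod_cast hKpos
    nlinarith
  have hhalf : (1 - x) ^ s ≤ 1 / 2 := by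
    have h1 : ((3 * N - 2 * s : ℕ) : ℝ) / ((3 * N : ℕ) : ℝ) = 1 - x := by
      rw [Nat.cast_sub (by omega), hx]
      push_cast
      field_simp
    rw [← h1]
    exact pow_le_half (by omega) hs2
  have h1x0 : 0 ≤ 1 - x := by linarith
  have h1x1 : 1 - x ≤ 1 := by linarith
  -- real second branch
  have hsecond : ∀ t, t < b → ((b - 1 - t : ℕ) : ℝ) + ((m - 1 - b : ℕ) : ℝ) / ((2 : ℕ) : ℝ) ≤
      (3 / 4) * ((m - t - 1 : ℕ) : ℝ) := by
    intro t ht
    have hnat : 4 * (b - 1 - t) + 2 * (m - 1 - b) ≤ 3 * (m - t - 1) := by omega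
    have hreal : 4 * ((b - 1 - t : ℕ) : ℝ) + 2 * ((m - 1 - b : ℕ) : ℝ) ≤
        3 * ((m - t - 1 : ℕ) : ℝ) := by exact_mod_cast hnat
    push_cast
    linarith
  have hA : ∀ t, (0 : ℝ) ≤ AI m b 2 t := by
    intro t
    rw [AI]
    split_ifs with ht
    · exact le_max_of_le_left (Nat.cast_nonneg _)
    · exact Nat.cast_nonneg _
  have hstepA : ∀ i t, i ≤ K → s * i ≤ t →
      AI m b 2 t ≤ (1 - x) ^ i * ((m - t - 1 : ℕ) : ℝ) := by
    intro i t hi ht
    have hX0 : (0 : ℝ) ≤ ((m - t - 1 : ℕ) : ℝ) := Nat.cast_nonneg _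
    have hbern := one_sub_mul_le_pow x hx1 i
    have hi' : (i : ℝ) ≤ K := by exact_mod_cast hi
    have h34 : (3 : ℝ) / 4 ≤ (1 - x) ^ i := by
      refine le_trans ?_ hbern
      have : (i : ℝ) * x ≤ K * x := mul_le_mul_of_nonneg_right hi' hx0
      linarith
    have hfirst : ((m - t - max (2 * b) (t + 3 - b) : ℕ) : ℝ) ≤
        (1 - x) ^ i * ((m - t - 1 : ℕ) : ℝ) := by
      refine le_trans ?_ (mul_le_mul_of_nonneg_right hbern hX0)
      have hmax : 2 * (t + 3) ≤ 3 * max (2 * b) (t + 3 - b) := by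
        have h1 := le_max_left (2 * b) (t + 3 - b)
        have h2 := le_max_right (2 * b) (t + 3 - b)
        omega
      rcases Nat.lt_or_ge (m - t) (max (2 * b) (t + 3 - b)) with h | h
      · rw [Nat.sub_eq_zero_of_le h.le, Nat.cast_zero]
        apply mul_nonneg _ hX0
        have : (i : ℝ) * x ≤ K * x := mul_le_mul_of_nonneg_right hi' hx0
        linarith
      · -- `3 * (m - t - max) + 2 s i ≤ 3 (m - t - 1)`
        have hnat : 3 * (m - t - max (2 * b) (t + 3 - b)) + 2 * (s * i) ≤ 3 * (m - t - 1) := by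
          omega
        have hreal : 3 * ((m - t - max (2 * b) (t + 3 - b) : ℕ) : ℝ) + 2 * (s * i) ≤
            3 * ((m - t - 1 : ℕ) : ℝ) := by exact_mod_cast hnat
        have hXN : ((m - t - 1 : ℕ) : ℝ) ≤ (N : ℝ) := by
          have : m - t - 1 ≤ N := by omega
          exact_mod_cast this
        have hkey : (i : ℝ) * x * ((m - t - 1 : ℕ) : ℝ) ≤ 2 * (s * i) / 3 := by
          have e1 : (i : ℝ) * x * ((m - t - 1 : ℕ) : ℝ) ≤ (i : ℝ) * x * N :=
            mul_le_mul_of_nonneg_left hXN (by positivity)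
          have e2 : (i : ℝ) * x * N = 2 * (s * i) / 3 := by
            rw [hx]; field_simp
          linarith
        have e3 : (1 - (i : ℝ) * x) * ((m - t - 1 : ℕ) : ℝ) =
            ((m - t - 1 : ℕ) : ℝ) - (i : ℝ) * x * ((m - t - 1 : ℕ) : ℝ) := by ring
        rw [e3]
        linarith
    rw [AI]
    split_ifs with htb
    · apply max_le hfirst
      exact (hsecond t htb).trans (mul_le_mul_of_nonneg_right h34 hX0)
    · exact hfirst
  set v := vseq m (((2 : ℕ) : ℝ) * ((m : ℝ) - 1)) (AI m b 2) with hv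
  have hnn : ∀ t, 0 ≤ v t := vseq_nonneg h0 hA
  have hstep : ∀ i t, i ≤ K → s * i ≤ t → v (t + 1) ≤ (1 - x) ^ i * v t := fun i t hi ht =>
    vseq_step h0 hA t _ (pow_nonneg h1x0 _) (hstepA i t hi ht)
  have hmono : ∀ t r, v (t + r) ≤ v t := by
    intro t r
    induction r with
    | zero => exact le_refl _
    | succ r ih =>
      have := hstep 0 (t + r) (Nat.zero_le _) (by omega)
      rw [pow_zero, one_mul] at this
      exact this.trans ih
  have hgeo : ∀ i, i ≤ K → ∀ r, v (s * i + r) ≤ ((1 - x) ^ i) ^ r * v (s * i) := by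
    intro i hi r
    induction r with
    | zero => rw [pow_zero, one_mul, Nat.add_zero]
    | succ r ih =>
      calc v (s * i + (r + 1)) = v (s * i + r + 1) := by rw [Nat.add_assoc]
        _ ≤ (1 - x) ^ i * v (s * i + r) := hstep i _ hi (by omega)
        _ ≤ (1 - x) ^ i * (((1 - x) ^ i) ^ r * v (s * i)) :=
          mul_le_mul_of_nonneg_left ih (pow_nonneg h1x0 _)
        _ = _ := by rw [pow_succ]; ring
  have hN : (m : ℝ) - 1 ≤ (N : ℝ) := by
    have : ((m - 1 : ℕ) : ℝ) ≤ (N : ℝ) := by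
      exact_mod_cast Nat.sub_le_sub_right hmn 1
    rwa [Nat.cast_sub hm, Nat.cast_one] at this
  have hpt : ∀ i, i ≤ K → v (s * i) ≤ ((2 * N : ℕ) : ℝ) / 2 ^ (i * (i - 1) / 2) := by
    intro i
    induction i with
    | zero =>
      intro _
      rw [Nat.mul_zero, hv, vseq_zero]
      simp only [Nat.zero_mul, Nat.zero_div, pow_zero, div_one]
      push_cast
      linarith
    | succ i ih =>
      intro hi
      have ih' := ih (by omega)
      have h1 := hgeo i (by omega) s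
      have e1 : ((1 - x) ^ i) ^ s = ((1 - x) ^ s) ^ i := by rw [← pow_mul, ← pow_mul, mul_comm]
      have h2 : ((1 - x) ^ s) ^ i ≤ (1 / 2) ^ i :=
        pow_le_pow_left₀ (pow_nonneg h1x0 _) hhalf i
      rw [Nat.add_sub_cancel, tri_succ, Nat.mul_succ]
      calc v (s * i + s) ≤ ((1 - x) ^ i) ^ s * v (s * i) := h1
        _ ≤ (1 / 2) ^ i * (((2 * N : ℕ) : ℝ) / 2 ^ (i * (i - 1) / 2)) := by
          rw [e1]
          exact mul_le_mul h2 ih' (hnn _) (by positivity)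
        _ = ((2 * N : ℕ) : ℝ) / 2 ^ (i * (i - 1) / 2 + i) := by
          rw [pow_add, one_div, inv_pow]
          field_simp
  have hblock : ∀ i, i ≤ K → ∀ t, s * i ≤ t →
      v t ≤ ((2 * N : ℕ) : ℝ) / 2 ^ (i * (i - 1) / 2) := by
    intro i hi t ht
    obtain ⟨r, rfl⟩ := Nat.exists_eq_add_of_le ht
    exact (hmono _ r).trans (hpt i hi)
  refine prod_blocks m s K hm hs v (fun i => ((2 * N : ℕ) : ℝ) / 2 ^ (i * (i - 1) / 2)) hnn
    (fun i => by positivity) (fun i hi t ht => hblock i hi.le t ht) (fun t ht => ?_)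
  refine (hblock K le_rfl t ht).trans ?_
  have hmpos : (0 : ℝ) < m := by linarith
  rw [div_le_div_iff₀ (by positivity) hmpos, one_mul]
  have h6 : 2 * N * m ≤ 2 ^ (K * (K - 1) / 2) := (Nat.mul_le_mul_left _ hmn).trans hK2
  exact_mod_cast h6

end Cfsg.Agent.PermutationGroups.OrderBound.NumBlocks
end

-- part: PermutationGroups/OrderBound/NumMid
section
/-!
# Order bound for primitive groups (S0725): numerics for `544 ≤ n < 2 ^ 23`

A sparse chain of primes `541 = p_0 < p_1 < ...`; for `p_i + 3 ≤ n ≤ p_{i+1} + 2` the degree of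
transitivity `j` satisfies `j ≤ n - p_i`; the worst `n` of the block is `p_{i+1} + 2`, where
one arithmetic check (in units of a sixteenth of a bit) is done by the kernel.
-/

set_option autoImplicit false

namespace Cfsg.Agent.PermutationGroups.OrderBound.NumMid

open Cfsg.Agent.PermutationGroups.OrderBound.Defs
open Cfsg.Agent.PermutationGroups.OrderBound.NumBlocks

/-- `(a / b) ^ 16 ≤ 2 ^ lg a b` -/
def lg (a b : ℕ) : ℕ := Nat.log2 (a ^ 16 / b ^ 16) + 1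

theorem lg_spec (a b : ℕ) (hb : 1 ≤ b) : ((a : ℝ) / b) ^ 16 ≤ 2 ^ lg a b := by
  have h1 : a ^ 16 / b ^ 16 < 2 ^ lg a b := Nat.lt_log2_self
  have hb' : 0 < b ^ 16 := by positivity
  have h2 : a ^ 16 < 2 ^ lg a b * b ^ 16 := (Nat.div_lt_iff_lt_mul hb').mp h1
  have hb'' : (0 : ℝ) < (b : ℝ) ^ 16 := by exact_mod_cast hb'
  rw [div_pow, div_le_iff₀ hb'']
  exact_mod_cast h2.le

/-- `∑_{i < k} lg (f i) (g i)` -/
def sumLg (f g : ℕ → ℕ) : ℕ → ℕ
  | 0 => 0
  | (k + 1) => sumLg f g k + lg (f k) (g k)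

theorem sumLg_spec (f g : ℕ → ℕ) (hg : ∀ i, 1 ≤ g i) (K : ℕ) :
    ∏ i ∈ Finset.range K, (((f i : ℝ) / g i) ^ 16) ≤ 2 ^ sumLg f g K := by
  induction K with
  | zero => simp [sumLg]
  | succ K ih =>
    rw [Finset.prod_range_succ, sumLg, pow_add]
    exact mul_le_mul ih (lg_spec _ _ (hg K)) (by positivity) (by positivity)

theorem bits_bound (f g : ℕ → ℕ) (hg : ∀ i, 1 ≤ g i) (s K n1 h : ℕ)
    (hE : 32 + s * sumLg f g K + h * lg n1 1 ≤ 32 * n1) :
    (4 * ∏ i ∈ Finset.range K, ((f i : ℝ) / g i) ^ s) * (n1 : ℝ) ^ h ≤ 4 ^ n1 := by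
  have h0 : (0 : ℝ) ≤ ∏ i ∈ Finset.range K, ((f i : ℝ) / g i) ^ s :=
    Finset.prod_nonneg fun i _ => by positivity
  refine le_of_pow_le_pow_left₀ (n := 16) (by norm_num) (by positivity) ?_
  have e1 : ((4 * ∏ i ∈ Finset.range K, ((f i : ℝ) / g i) ^ s) * (n1 : ℝ) ^ h) ^ 16 =
      2 ^ 32 * (∏ i ∈ Finset.range K, (((f i : ℝ) / g i) ^ 16)) ^ s *
        (((n1 : ℝ) / ((1 : ℕ) : ℝ)) ^ 16) ^ h := by
    rw [mul_pow, mul_pow, ← Finset.prod_pow, ← Finset.prod_pow, Nat.cast_one, div_one]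
    congr 1
    · congr 1
      · norm_num
      · apply Finset.prod_congr rfl
        intro i _
        rw [← pow_mul, ← pow_mul, mul_comm]
    · rw [← pow_mul, ← pow_mul, mul_comm]
  rw [e1]
  have h2 : (∏ i ∈ Finset.range K, (((f i : ℝ) / g i) ^ 16)) ^ s ≤ (2 ^ sumLg f g K) ^ s :=
    pow_le_pow_left₀ (Finset.prod_nonneg fun i _ => by positivity) (sumLg_spec f g hg K) s
  have h3 : (((n1 : ℝ) / ((1 : ℕ) : ℝ)) ^ 16) ^ h ≤ (2 ^ lg n1 1) ^ h :=
    pow_le_pow_left₀ (by positivity) (lg_spec n1 1 le_rfl) h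
  calc (2 : ℝ) ^ 32 * (∏ i ∈ Finset.range K, (((f i : ℝ) / g i) ^ 16)) ^ s *
        (((n1 : ℝ) / ((1 : ℕ) : ℝ)) ^ 16) ^ h
      ≤ 2 ^ 32 * (2 ^ sumLg f g K) ^ s * (2 ^ lg n1 1) ^ h := by
        apply mul_le_mul _ h3 (by positivity) (by positivity)
        exact mul_le_mul_of_nonneg_left h2 (by positivity)
    _ = 2 ^ (32 + s * sumLg f g K + h * lg n1 1) := by
        rw [← pow_mul, ← pow_mul, ← pow_add, ← pow_add, mul_comm (sumLg f g K) s,
          mul_comm (lg n1 1) h]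
    _ ≤ 2 ^ (32 * n1) := pow_le_pow_right₀ (by norm_num) hE
    _ = (4 ^ n1) ^ 16 := by
        rw [← pow_mul, show (4 : ℝ) = 2 ^ 2 by norm_num, ← pow_mul]
        congr 1
        ring

/-- the check for the block `p + 3 ≤ n ≤ p' + 2`. -/
def chk (p p' D sU KU sI KI : ℕ) : Bool :=
  Nat.ble 5 p && Nat.blt p p' && Nat.blt (p' + 2) (2 * p) && Nat.ble 1 D &&
  Nat.ble (p' + 1) (D * (D - 1)) &&
  Nat.ble 1 sU && Nat.ble (2 * (D - 1) ^ sU) (D ^ sU) && Nat.ble ((p' + 1) * (p' + 2)) (2 ^ KU) &&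
  Nat.ble 1 sI && Nat.ble (2 * (3 * (p' + 1) - 2 * sI) ^ sI) ((3 * (p' + 1)) ^ sI) &&
  Nat.ble (8 * KI * sI) (3 * (p' + 1)) &&
  Nat.ble (2 * (p' + 1) * (p' + 2)) (2 ^ (KI * (KI - 1) / 2)) &&
  Nat.ble (32 + sU * sumLg (fun i => 2 ^ i + (p' + 1)) (fun i => 2 ^ i) KU +
    (p' - p + 1) * lg (p' + 2) 1) (32 * (p' + 2)) &&
  Nat.ble (32 + sI * sumLg (fun i => 2 ^ (i * (i - 1) / 2) + 2 * (p' + 1))
    (fun i => 2 ^ (i * (i - 1) / 2)) KI + (p' - p) * lg (p' + 2) 1) (32 * (p' + 2))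

/-- from the end of a block to any point of it. -/
theorem shift_bound (n n1 e : ℕ) (C : ℝ) (hC : 0 ≤ C) (hn1 : 4 ≤ n1) (hnn : n ≤ n1)
    (h : C * (n1 : ℝ) ^ (e + (n1 - n)) ≤ 4 ^ n1) : C * (n1 : ℝ) ^ e ≤ 4 ^ n := by
  obtain ⟨r, hr⟩ := Nat.exists_eq_add_of_le hnn
  have hr' : n1 - n = r := by omega
  rw [hr', pow_add] at h
  have h4 : (4 : ℝ) ≤ (n1 : ℝ) := by exact_mod_cast hn1
  have h5 : (4 : ℝ) ^ r ≤ (n1 : ℝ) ^ r := pow_le_pow_left₀ (by norm_num) h4 r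
  have h6 : (4 : ℝ) ^ n1 = 4 ^ n * 4 ^ r := by rw [← pow_add]; congr 1
  have h7 : C * (n1 : ℝ) ^ e * 4 ^ r ≤ 4 ^ n * 4 ^ r := by
    rw [← h6]
    calc C * (n1 : ℝ) ^ e * 4 ^ r ≤ C * (n1 : ℝ) ^ e * (n1 : ℝ) ^ r :=
          mul_le_mul_of_nonneg_left h5 (by positivity)
      _ = C * ((n1 : ℝ) ^ e * (n1 : ℝ) ^ r) := by ring
      _ ≤ _ := h
  exact le_of_mul_le_mul_right h7 (by positivity)

theorem good_block (p p' D sU KU sI KI n j : ℕ) (hp : p.Prime)
    (hchk : chk p p' D sU KU sI KI = true) (hn : p + 3 ≤ n) (hn' : n ≤ p' + 2) (hj : 1 ≤ j)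
    (hK : Kcond n j) : Good n j := by
  simp only [chk, Bool.and_eq_true, Nat.ble_eq, Nat.blt_eq] at hchk
  obtain ⟨⟨⟨⟨⟨⟨⟨⟨⟨⟨⟨⟨⟨h1, h2⟩, h3⟩, h4⟩, h5⟩, h6⟩, h7⟩, h8⟩, h9⟩, h10⟩, h11⟩, h12⟩, h13⟩, h14⟩ :=
    hchk
  have hjn : j + 1 * p ≤ n := hK p 1 hp h1 (Or.inl rfl) (by omega) (by omega)
  have hfg1 : ∀ i : ℕ, 1 + ((p' + 2 - 1 : ℕ) : ℝ) / 2 ^ i =
      (((2 ^ i + (p' + 1) : ℕ) : ℝ) / ((2 ^ i : ℕ) : ℝ)) := by
    intro i
    rw [show p' + 2 - 1 = p' + 1 by omega]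
    push_cast
    field_simp
  have hfg2 : ∀ i : ℕ, 1 + ((2 * (p' + 2 - 1) : ℕ) : ℝ) / 2 ^ (i * (i - 1) / 2) =
      (((2 ^ (i * (i - 1) / 2) + 2 * (p' + 1) : ℕ) : ℝ) / ((2 ^ (i * (i - 1) / 2) : ℕ) : ℝ)) := by
    intro i
    rw [show p' + 2 - 1 = p' + 1 by omega]
    push_cast
    field_simp
  have hnR : (n : ℝ) ≤ ((p' + 2 : ℕ) : ℝ) := by exact_mod_cast hn'
  have hn1R : (1 : ℝ) ≤ ((p' + 2 : ℕ) : ℝ) := by
    have : 1 ≤ p' + 2 := by omega
    exact_mod_cast this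
  refine ⟨?_, ?_⟩
  · have hU := UB_blocks (n - j + 1) (p' + 2) D sU KU (by omega) (by omega) h4
      (by simpa using h5) h6 h7 (by simpa using h8)
    simp only [hfg1] at hU
    have hE := bits_bound (fun i => 2 ^ i + (p' + 1)) (fun i => 2 ^ i)
      (fun i => Nat.one_le_two_pow) sU KU (p' + 2) (p' - p + 1) h13
    set C : ℝ := 4 * ∏ i ∈ Finset.range KU,
      (((2 ^ i + (p' + 1) : ℕ) : ℝ) / ((2 ^ i : ℕ) : ℝ)) ^ sU with hCdef
    have hC0 : 0 ≤ C := by
      apply mul_nonneg (by norm_num)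
      exact Finset.prod_nonneg fun i _ => by positivity
    have hD : (n.descFactorial (j - 1) : ℝ) ≤ ((p' + 2 : ℕ) : ℝ) ^ (n - p - 1) := by
      calc (n.descFactorial (j - 1) : ℝ) ≤ ((n ^ (j - 1) : ℕ) : ℝ) := by
            exact_mod_cast Nat.descFactorial_le_pow n (j - 1)
        _ = (n : ℝ) ^ (j - 1) := by push_cast; ring
        _ ≤ ((p' + 2 : ℕ) : ℝ) ^ (j - 1) := pow_le_pow_left₀ (Nat.cast_nonneg _) hnR _
        _ ≤ _ := pow_le_pow_right₀ hn1R (by omega)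
    have hfin := shift_bound n (p' + 2) (n - p - 1) C hC0 (by omega) hn' (by
      rw [show n - p - 1 + (p' + 2 - n) = p' - p + 1 by omega]
      exact hE)
    calc (n.descFactorial (j - 1) : ℝ) * UB (n - j + 1) (dmin (n - j + 1))
        ≤ (n.descFactorial (j - 1) : ℝ) * C := mul_le_mul_of_nonneg_left hU (Nat.cast_nonneg _)
      _ ≤ ((p' + 2 : ℕ) : ℝ) ^ (n - p - 1) * C := mul_le_mul_of_nonneg_right hD hC0
      _ = C * ((p' + 2 : ℕ) : ℝ) ^ (n - p - 1) := mul_comm _ _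
      _ ≤ 4 ^ n := hfin
  · intro hj2 b hb hb2 _
    refine ⟨2, by norm_num, ?_⟩
    have hI := IB_blocks (n - j + 2) (p' + 2) b sI KI (by omega) (by omega) hb (by omega) h9
      (by simpa using h10) (by simpa using h11) (by simpa using h12)
    simp only [hfg2] at hI
    have hE := bits_bound (fun i => 2 ^ (i * (i - 1) / 2) + 2 * (p' + 1))
      (fun i => 2 ^ (i * (i - 1) / 2)) (fun i => Nat.one_le_two_pow) sI KI (p' + 2) (p' - p) h14
    set C : ℝ := 4 * ∏ i ∈ Finset.range KI,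
      (((2 ^ (i * (i - 1) / 2) + 2 * (p' + 1) : ℕ) : ℝ) / ((2 ^ (i * (i - 1) / 2) : ℕ) : ℝ)) ^ sI
      with hCdef
    have hC0 : 0 ≤ C := by
      apply mul_nonneg (by norm_num)
      exact Finset.prod_nonneg fun i _ => by positivity
    have hD : (n.descFactorial (j - 2) : ℝ) ≤ ((p' + 2 : ℕ) : ℝ) ^ (n - p - 2) := by
      calc (n.descFactorial (j - 2) : ℝ) ≤ ((n ^ (j - 2) : ℕ) : ℝ) := by
            exact_mod_cast Nat.descFactorial_le_pow n (j - 2)
        _ = (n : ℝ) ^ (j - 2) := by push_cast; ring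
        _ ≤ ((p' + 2 : ℕ) : ℝ) ^ (j - 2) := pow_le_pow_left₀ (Nat.cast_nonneg _) hnR _
        _ ≤ _ := pow_le_pow_right₀ hn1R (by omega)
    have hfin := shift_bound n (p' + 2) (n - p - 2) C hC0 (by omega) hn' (by
      rw [show n - p - 2 + (p' + 2 - n) = p' - p by omega]
      exact hE)
    calc (n.descFactorial (j - 2) : ℝ) * IB (n - j + 2) b 2
        ≤ (n.descFactorial (j - 2) : ℝ) * C := mul_le_mul_of_nonneg_left hI (Nat.cast_nonneg _)
      _ ≤ ((p' + 2 : ℕ) : ℝ) ^ (n - p - 2) * C := mul_le_mul_of_nonneg_right hD hC0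
      _ = C * ((p' + 2 : ℕ) : ℝ) ^ (n - p - 2) := mul_comm _ _
      _ ≤ 4 ^ n := hfin

/-! ### Primality by trial division -/

/-- no `m` with `k ≤ m` and `m * m ≤ p` divides `p`. -/
def noDiv (p : ℕ) : ℕ → ℕ → Bool
  | 0, _ => false
  | (f + 1), k =>
    bif Nat.blt p (k * k) then true else bif Nat.beq (p % k) 0 then false else noDiv p f (k + 1)

theorem noDiv_spec (p f : ℕ) : ∀ k, noDiv p f k = true → ∀ m, k ≤ m → m * m ≤ p → ¬ m ∣ p := by
  induction f with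
  | zero => intro k h; exact absurd h (by simp [noDiv])
  | succ f ih =>
    intro k h m hkm hmm hdvd
    rw [noDiv] at h
    rcases hb : Nat.blt p (k * k) with _ | _
    · rw [hb, cond_false] at h
      rcases hc : Nat.beq (p % k) 0 with _ | _
      · rw [hc, cond_false] at h
        rcases Nat.eq_or_lt_of_le hkm with rfl | hlt
        · have : p % k = 0 := Nat.mod_eq_zero_of_dvd hdvd
          rw [this] at hc
          exact absurd hc (by decide)
        · exact ih (k + 1) h m hlt hmm hdvd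
      · rw [hc, cond_true] at h
        exact absurd h (by decide)
    · have : p < k * k := by simpa [Nat.blt_eq] using hb
      have h2 : k * k ≤ m * m := Nat.mul_self_le_mul_self hkm
      omega

theorem prime_of_noDiv (p f : ℕ) (h2 : 2 ≤ p) (h : noDiv p f 2 = true) : p.Prime := by
  rw [Nat.prime_def_le_sqrt]
  exact ⟨h2, fun m hm hm' => noDiv_spec p f 2 h m hm (Nat.le_sqrt.mp hm')⟩

/-- the check of the whole chain. -/
def chkAll : ℕ → List (ℕ × ℕ × ℕ × ℕ × ℕ × ℕ) → Bool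
  | _, [] => true
  | p, (p', D, sU, KU, sI, KI) :: l =>
    Nat.ble 2 p && noDiv p 3000 2 && chk p p' D sU KU sI KI && chkAll p' l

/-- the last prime of the chain. -/
def lastP : ℕ → List (ℕ × ℕ × ℕ × ℕ × ℕ × ℕ) → ℕ
  | p, [] => p
  | _, (p', _, _, _, _, _) :: l => lastP p' l

theorem good_chain (l : List (ℕ × ℕ × ℕ × ℕ × ℕ × ℕ)) : ∀ p, chkAll p l = true →
    ∀ n j, p + 3 ≤ n → n ≤ lastP p l + 2 → 1 ≤ j → Kcond n j → Good n j := by
  induction l with
  | nil =>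
    intro p _ n j h1 h2
    rw [lastP] at h2
    omega
  | cons a l ih =>
    obtain ⟨p', D, sU, KU, sI, KI⟩ := a
    intro p h n j h1 h2 hj hK
    rw [chkAll, Bool.and_eq_true, Bool.and_eq_true, Bool.and_eq_true, Nat.ble_eq] at h
    obtain ⟨⟨⟨ha, hb⟩, hc⟩, hd⟩ := h
    rcases Nat.lt_or_ge (p' + 2) n with hlt | hge
    · exact ih p' hd n j (by omega) h2 hj hK
    · exact good_block p p' D sU KU sI KI n j (prime_of_noDiv p 3000 ha hb) hc h1 hge hj hK

/-- the chain of primes, with the parameters of the blocks. -/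
def data : List (ℕ × ℕ × ℕ × ℕ × ℕ × ℕ) := [
   (547, 24, 17, 19, 24, 7), (557, 25, 17, 19, 24, 7), (563, 25, 17, 19, 25, 7), (571, 25, 17, 19, 25, 7),
   (577, 25, 17, 19, 25, 7), (587, 25, 17, 19, 25, 7), (601, 26, 18, 19, 25, 7), (613, 26, 18, 19, 26, 7),
   (619, 26, 18, 19, 26, 7), (631, 26, 18, 19, 26, 7), (647, 26, 18, 19, 26, 7), (661, 27, 19, 19, 27, 7),
   (677, 27, 19, 19, 27, 7), (691, 27, 19, 19, 27, 7), (709, 28, 20, 19, 27, 7), (727, 28, 20, 20, 28, 7),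
   (751, 28, 20, 20, 28, 7), (773, 29, 20, 20, 29, 7), (797, 29, 20, 20, 29, 7), (827, 30, 21, 20, 30, 7),
   (863, 30, 21, 20, 30, 7), (887, 31, 22, 20, 31, 7), (929, 31, 22, 20, 31, 7), (971, 32, 22, 20, 32, 7),
   (1019, 33, 23, 20, 33, 7), (1069, 34, 24, 21, 34, 8), (1123, 35, 24, 21, 35, 8), (1187, 35, 24, 21, 35, 8),
   (1249, 36, 25, 21, 36, 8), (1327, 37, 26, 21, 37, 8), (1409, 39, 27, 21, 39, 8), (1499, 40, 28, 22, 40, 8),
   (1601, 41, 29, 22, 41, 8), (1709, 42, 29, 22, 42, 8), (1831, 44, 31, 22, 44, 8), (1951, 45, 31, 22, 45, 8),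
   (2099, 47, 33, 23, 47, 8), (2269, 49, 34, 23, 49, 8), (2447, 50, 35, 23, 51, 8), (2647, 52, 36, 23, 53, 8),
   (2879, 55, 38, 23, 55, 8), (3137, 57, 40, 24, 57, 8), (3413, 59, 41, 24, 60, 8), (3733, 62, 43, 24, 63, 8),
   (4091, 65, 45, 24, 66, 8), (4483, 68, 47, 25, 69, 8), (4919, 71, 49, 25, 72, 8), (5419, 75, 52, 25, 75, 8),
   (5981, 78, 54, 26, 79, 8), (6599, 82, 57, 26, 83, 8), (7283, 86, 60, 26, 87, 8), (8059, 91, 63, 26, 92, 8),
   (8929, 95, 66, 27, 97, 8), (9887, 100, 69, 27, 102, 8), (10957, 106, 74, 27, 107, 8), (12149, 111, 77, 28, 113, 9),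
   (13487, 117, 81, 28, 119, 9), (14983, 123, 85, 28, 125, 9), (16633, 130, 90, 29, 132, 9), (18481, 137, 95, 29, 139, 9),
   (20533, 144, 100, 29, 146, 9), (22817, 152, 106, 29, 154, 9), (25367, 160, 111, 30, 163, 9), (28211, 169, 117, 30, 172, 9),
   (31357, 178, 124, 30, 181, 9), (34883, 188, 130, 31, 191, 9), (38803, 198, 137, 31, 201, 9), (43159, 209, 145, 31, 212, 9),
   (48017, 220, 153, 32, 224, 9), (53407, 232, 161, 32, 236, 9), (59407, 245, 170, 32, 249, 9), (66047, 258, 179, 33, 262, 9),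
   (73433, 272, 189, 33, 277, 9), (81619, 287, 199, 33, 292, 9), (90731, 302, 209, 33, 307, 9), (100847, 319, 221, 34, 324, 9),
   (112031, 336, 233, 34, 342, 9), (124447, 354, 246, 34, 360, 9), (138163, 373, 259, 35, 379, 9), (153379, 393, 273, 35, 400, 9),
   (170179, 414, 287, 35, 421, 9), (188791, 436, 302, 36, 443, 10), (209401, 459, 318, 36, 467, 10), (232129, 483, 335, 36, 492, 10),
   (257281, 508, 352, 36, 518, 10), (285091, 535, 371, 37, 545, 10), (315703, 563, 390, 37, 573, 10), (349529, 592, 410, 37, 603, 10),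
   (386851, 623, 432, 38, 635, 10), (427883, 655, 454, 38, 667, 10), (473147, 689, 478, 38, 702, 10), (523049, 724, 502, 38, 738, 10),
   (577831, 761, 528, 39, 775, 10), (638147, 800, 555, 39, 815, 10), (704551, 840, 582, 39, 856, 10), (777317, 883, 612, 40, 899, 10),
   (857309, 927, 643, 40, 944, 10), (945211, 973, 675, 40, 992, 10), (1041757, 1022, 709, 40, 1041, 10), (1147387, 1072, 743, 41, 1093, 10),
   (1263263, 1125, 780, 41, 1146, 10), (1390369, 1180, 818, 41, 1203, 10), (1529701, 1238, 858, 42, 1261, 10), (1682363, 1298, 900, 42, 1323, 10),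
   (1848983, 1361, 944, 42, 1387, 10), (2031353, 1426, 989, 42, 1454, 10), (2230873, 1495, 1036, 43, 1523, 10), (2449039, 1566, 1086, 43, 1596, 10),
   (2687521, 1640, 1137, 43, 1672, 10), (2948087, 1718, 1191, 43, 1751, 10), (3232651, 1799, 1247, 44, 1834, 10), (3542267, 1883, 1305, 44, 1919, 10),
   (3880057, 1971, 1366, 44, 2009, 10), (4248401, 2062, 1429, 45, 2102, 11), (4649903, 2157, 1495, 45, 2199, 11), (5087323, 2257, 1565, 45, 2300, 11),
   (5563729, 2360, 1636, 45, 2405, 11), (6082367, 2467, 1710, 46, 2515, 11), (6646699, 2579, 1788, 46, 2629, 11), (7260569, 2696, 1869, 46, 2748, 11),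
   (7928059, 2817, 1953, 46, 2871, 11), (8653517, 2943, 2040, 47, 3000, 11)
  ]

theorem chkAll_data : chkAll 541 data = true := by decide +kernel

theorem good_mid' (n j : ℕ) (hn : 544 ≤ n) (hn' : n < 2 ^ 23) (hj : 1 ≤ j) (hK : Kcond n j) :
    Good n j := by
  have hlast : lastP 541 data = 8653517 := by decide +kernel
  refine good_chain data 541 chkAll_data n j (by omega) ?_ hj hK
  rw [hlast]
  have : (2 : ℕ) ^ 23 = 8388608 := by norm_num
  omega

theorem good_mid (n j : ℕ) (hn : 1024 ≤ n) (hn' : n < 2 ^ 23) (hj : 1 ≤ j) (_hjn : j ≤ n)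
    (hK : Kcond n j) : Good n j :=
  good_mid' n j (by omega) hn' hj hK

end Cfsg.Agent.PermutationGroups.OrderBound.NumMid
end
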