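import Mathlib
import Cfsg.Agent.PermutationGroups.OrderBound.Defs
set_option linter.all false

/-! Distinguishing sets in primitive, not 2-transitive actions (used for the Praeger–Saxl bound).

For a transitive action of `G` on `X` write `sep G x y` for the set of points `z` such that `x` and
`y` lie in different orbits of the stabiliser of `z`. If `G` is primitive and not 2-transitive, then
`|sep x y| * (|sep x y| - 1) ≥ |X| - 1` for all `x ≠ y`. -/

set_option autoImplicit false

namespace Cfsg.Agent.PermutationGroups.OrderBound.Disting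

open MulAction

section basic

variable (G : Type*) {X : Type*} [Group G] [MulAction G X]

/-- `z` separates `x` from `y`: no element of the stabiliser of `z` maps `x` to `y`. -/
def Sep (z x y : X) : Prop := ∀ g : G, g • z = z → g • x ≠ y

variable {G}

theorem sep_iff {z x y : X} : Sep G z x y ↔ y ∉ orbit (stabilizer G z) x := by
  constructor
  · rintro h ⟨⟨g, hg⟩, hgx⟩
    exact h g hg hgx
  · intro h g hg hgx
    exact h ⟨⟨g, hg⟩, hgx⟩

theorem sep_symm {z x y : X} (h : Sep G z x y) : Sep G z y x := by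
  intro g hg hgx
  refine h g⁻¹ ?_ ?_
  · rw [inv_smul_eq_iff, hg]
  · rw [inv_smul_eq_iff, hgx]

theorem sep_comm {z x y : X} : Sep G z x y ↔ Sep G z y x := ⟨sep_symm, sep_symm⟩

theorem sep_triangle {z x y w : X} (h : Sep G z x w) : Sep G z x y ∨ Sep G z y w := by
  by_contra hcon
  rw [not_or] at hcon
  obtain ⟨h1, h2⟩ := hcon
  unfold Sep at h1 h2
  push Not at h1 h2
  obtain ⟨g1, hg1, hg1'⟩ := h1
  obtain ⟨g2, hg2, hg2'⟩ := h2
  refine h (g2 * g1) ?_ ?_
  · rw [mul_smul, hg1, hg2]
  · rw [mul_smul, hg1', hg2']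

theorem sep_smul {z x y : X} (g : G) (h : Sep G z x y) : Sep G (g • z) (g • x) (g • y) := by
  intro k hk hkx
  refine h (g⁻¹ * k * g) ?_ ?_
  · rw [mul_smul, mul_smul, hk, inv_smul_smul]
  · rw [mul_smul, mul_smul, hkx, inv_smul_smul]

theorem sep_smul_iff {z x y : X} (g : G) : Sep G (g • z) (g • x) (g • y) ↔ Sep G z x y := by
  constructor
  · intro h
    have := sep_smul g⁻¹ h
    rwa [inv_smul_smul, inv_smul_smul, inv_smul_smul] at this
  · exact sep_smul g

theorem sep_left {x y : X} (h : x ≠ y) : Sep G x x y := by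
  intro g hg hgx
  exact h (hg.symm.trans hgx)

theorem sep_right {x y : X} (h : x ≠ y) : Sep G y x y := by
  intro g hg hgx
  exact h (smul_left_cancel g (hgx.trans hg.symm))

theorem not_sep_self {z x : X} : ¬ Sep G z x x := by
  intro h
  exact h 1 (one_smul _ _) (one_smul _ _)

/-- A `G`-invariant equivalence relation of a preprimitive action which relates two distinct
points relates all points. -/
theorem rel_all_of_rel [IsPreprimitive G X] (r : X → X → Prop) (hr : Equivalence r)
    (hinv : ∀ (g : G) (x y : X), r x y → r (g • x) (g • y)) {x y : X} (hxy : x ≠ y)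
    (h : r x y) (a b : X) : r a b := by
  have hinv' : ∀ (g : G) (x y : X), r (g • x) (g • y) → r x y := by
    intro g x y h
    have := hinv g⁻¹ _ _ h
    rwa [inv_smul_smul, inv_smul_smul] at this
  have hB : IsBlock G {w | r x w} := by
    rw [isBlock_iff_smul_eq_of_mem]
    intro g c hc hgc
    ext w
    rw [Set.mem_smul_set_iff_inv_smul_mem]
    have hc' : r x c := hc
    have hgc' : r x (g • c) := hgc
    have h1 : r x (g • x) := hr.trans hgc' (hinv g _ _ (hr.symm hc'))
    constructor
    · intro hw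
      have hw' : r x (g⁻¹ • w) := hw
      have := hinv g _ _ hw'
      rw [smul_inv_smul] at this
      exact hr.trans h1 this
    · intro hw
      have hw' : r x w := hw
      show r x (g⁻¹ • w)
      apply hinv' g
      rw [smul_inv_smul]
      exact hr.trans (hr.symm h1) hw'
  have h2 := hB.subsingleton_or_eq_univ
  rcases h2 with h2 | h2
  · exact absurd (h2 (show r x x from hr.refl x) h) hxy
  · have ha : r x a := by
      have : a ∈ {w | r x w} := by rw [h2]; exact Set.mem_univ a
      exact this
    have hb : r x b := by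
      have : b ∈ {w | r x w} := by rw [h2]; exact Set.mem_univ b
      exact this
    exact hr.trans (hr.symm ha) hb

end basic

section graph

variable (G : Type*) {X : Type*} [Group G] [MulAction G X]

/-- The (symmetrised) orbital graph of the pair `(x₀, y₀)`. -/
def orbGraph (x₀ y₀ : X) : SimpleGraph X where
  Adj x y := x ≠ y ∧ ∃ g : G, (g • x₀ = x ∧ g • y₀ = y) ∨ (g • x₀ = y ∧ g • y₀ = x)
  symm := by
    constructor
    rintro x y ⟨hxy, g, h | h⟩
    · exact ⟨hxy.symm, g, Or.inr h⟩
    · exact ⟨hxy.symm, g, Or.inl h⟩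
  loopless := by
    constructor
    rintro x ⟨h, -⟩
    exact h rfl

variable {G}

theorem orbGraph_adj {x₀ y₀ x y : X} : (orbGraph G x₀ y₀).Adj x y ↔
    x ≠ y ∧ ∃ g : G, (g • x₀ = x ∧ g • y₀ = y) ∨ (g • x₀ = y ∧ g • y₀ = x) := Iff.rfl

theorem orbGraph_adj_base {x₀ y₀ : X} (h : x₀ ≠ y₀) : (orbGraph G x₀ y₀).Adj x₀ y₀ :=
  ⟨h, 1, Or.inl ⟨one_smul _ _, one_smul _ _⟩⟩

theorem orbGraph_adj_smul {x₀ y₀ x y : X} (g : G) (h : (orbGraph G x₀ y₀).Adj x y) :
    (orbGraph G x₀ y₀).Adj (g • x) (g • y) := by
  obtain ⟨hxy, k, ⟨rfl, rfl⟩ | ⟨rfl, rfl⟩⟩ := h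
  · exact ⟨fun h => hxy (smul_left_cancel g h), g * k, Or.inl ⟨mul_smul _ _ _, mul_smul _ _ _⟩⟩
  · exact ⟨fun h => hxy (smul_left_cancel g h), g * k, Or.inr ⟨mul_smul _ _ _, mul_smul _ _ _⟩⟩

/-- Graphs invariant under the group. -/
def Inv (G : Type*) {X : Type*} [Group G] [MulAction G X] (Y : SimpleGraph X) : Prop :=
  ∀ (g : G) (x y : X), Y.Adj x y → Y.Adj (g • x) (g • y)

theorem inv_orbGraph (x₀ y₀ : X) : Inv G (orbGraph G x₀ y₀) :=
  fun g _ _ h => orbGraph_adj_smul g h

theorem Inv.adj_iff {Y : SimpleGraph X} (hY : Inv G Y) (g : G) (x y : X) :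
    Y.Adj (g • x) (g • y) ↔ Y.Adj x y := by
  constructor
  · intro h
    have := hY g⁻¹ _ _ h
    rwa [inv_smul_smul, inv_smul_smul] at this
  · exact hY g x y

theorem Inv.reachable_smul {Y : SimpleGraph X} (hY : Inv G Y) (g : G) {x y : X}
    (h : Y.Reachable x y) : Y.Reachable (g • x) (g • y) := by
  let f : Y →g Y := ⟨fun x => g • x, fun {a b} h => hY g a b h⟩
  exact h.map f

theorem Inv.dist_smul_le {Y : SimpleGraph X} (hY : Inv G Y) (hc : Y.Connected) (g : G) (x y : X) :
    Y.dist (g • x) (g • y) ≤ Y.dist x y := by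
  obtain ⟨p, hp⟩ := hc.exists_walk_length_eq_dist x y
  let f : Y →g Y := ⟨fun x => g • x, fun {a b} h => hY g a b h⟩
  rw [← hp, ← SimpleGraph.Walk.length_map f p]
  exact SimpleGraph.dist_le (p.map f)

theorem Inv.dist_smul {Y : SimpleGraph X} (hY : Inv G Y) (hc : Y.Connected) (g : G) (x y : X) :
    Y.dist (g • x) (g • y) = Y.dist x y := by
  apply le_antisymm (hY.dist_smul_le hc g x y)
  have := hY.dist_smul_le hc g⁻¹ (g • x) (g • y)
  rwa [inv_smul_smul, inv_smul_smul] at this

theorem Inv.connected [IsPreprimitive G X] {Y : SimpleGraph X} (hY : Inv G Y) {x y : X}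
    (h : Y.Adj x y) : Y.Connected := by
  rw [SimpleGraph.connected_iff]
  refine ⟨fun a b => ?_, ⟨x⟩⟩
  exact rel_all_of_rel (G := G) Y.Reachable ⟨fun x => SimpleGraph.Reachable.refl x,
    fun h => h.symm, fun h1 h2 => h1.trans h2⟩ (fun g x y h => hY.reachable_smul g h) h.ne
    h.reachable a b

/-- In a connected graph every vertex `u ≠ z` has a neighbour closer to `z`. -/
theorem exists_closer {Y : SimpleGraph X} (hc : Y.Connected) {z u : X} (h : u ≠ z) :
    ∃ u', Y.Adj u u' ∧ Y.dist z u' < Y.dist z u := by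
  obtain ⟨p, hp⟩ := hc.exists_walk_length_eq_dist u z
  cases p with
  | nil => exact absurd rfl h
  | @cons _ v _ hadj q =>
    refine ⟨v, hadj, ?_⟩
    rw [SimpleGraph.dist_comm, SimpleGraph.dist_comm (u := z) (v := u), ← hp,
      SimpleGraph.Walk.length_cons]
    exact Nat.lt_succ_of_le (SimpleGraph.dist_le q)

theorem sep_of_dist {Y : SimpleGraph X} (hY : Inv G Y) (hc : Y.Connected) {z u v : X}
    (h : Y.dist z u ≠ Y.dist z v) : Sep G z u v := by
  intro g hg hgu
  apply h
  rw [← hY.dist_smul hc g z u, hg, hgu]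

end graph

section count

open Classical in
/-- The number of points separating `x` and `y`. -/
noncomputable def sepCard (G : Type*) {X : Type*} [Group G] [MulAction G X] [Fintype X]
    (x y : X) : ℕ := (Finset.univ.filter (fun z => Sep G z x y)).card

variable {G X : Type*} [Group G] [MulAction G X] [Fintype X]

theorem sepCard_comm (x y : X) : sepCard G x y = sepCard G y x := by
  classical
  unfold sepCard
  congr 1
  ext z
  simp only [Finset.mem_filter, Finset.mem_univ, true_and]
  exact sep_comm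

theorem sepCard_smul (g : G) (x y : X) : sepCard G (g • x) (g • y) = sepCard G x y := by
  classical
  unfold sepCard
  symm
  apply Finset.card_bij (fun z _ => g • z)
  · intro z hz
    simp only [Finset.mem_filter, Finset.mem_univ, true_and] at hz ⊢
    exact sep_smul g hz
  · intro a _ b _ h
    exact smul_left_cancel g h
  · intro z hz
    simp only [Finset.mem_filter, Finset.mem_univ, true_and] at hz
    refine ⟨g⁻¹ • z, ?_, smul_inv_smul g z⟩
    simp only [Finset.mem_filter, Finset.mem_univ, true_and]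
    rw [← sep_smul_iff g, smul_inv_smul]
    exact hz

theorem sepCard_triangle (x y w : X) : sepCard G x w ≤ sepCard G x y + sepCard G y w := by
  classical
  unfold sepCard
  refine le_trans (Finset.card_le_card ?_) (Finset.card_union_le _ _)
  intro z hz
  simp only [Finset.mem_filter, Finset.mem_univ, true_and, Finset.mem_union] at hz ⊢
  exact sep_triangle hz

theorem sepCard_self (x : X) : sepCard G x x = 0 := by
  classical
  unfold sepCard
  rw [Finset.card_eq_zero, Finset.filter_eq_empty_iff]
  intro z _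
  exact not_sep_self

theorem sepCard_of_adj {x₀ y₀ x y : X} (h : (orbGraph G x₀ y₀).Adj x y) :
    sepCard G x y = sepCard G x₀ y₀ := by
  obtain ⟨-, k, ⟨rfl, rfl⟩ | ⟨rfl, rfl⟩⟩ := h
  · exact sepCard_smul k x₀ y₀
  · rw [sepCard_comm]
    exact sepCard_smul k x₀ y₀

theorem sepCard_le_walk {x₀ y₀ x y : X} (p : (orbGraph G x₀ y₀).Walk x y) :
    sepCard G x y ≤ p.length * sepCard G x₀ y₀ := by
  induction p with
  | nil => rw [sepCard_self]; exact Nat.zero_le _
  | @cons u v w h q ih =>
    refine le_trans (sepCard_triangle u v w) ?_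
    rw [sepCard_of_adj h, SimpleGraph.Walk.length_cons, add_mul, one_mul, add_comm]
    exact Nat.add_le_add_right ih _

theorem sepCard_le_dist {x₀ y₀ : X} (hc : (orbGraph G x₀ y₀).Connected) (x y : X) :
    sepCard G x y ≤ (orbGraph G x₀ y₀).dist x y * sepCard G x₀ y₀ := by
  obtain ⟨p, hp⟩ := hc.exists_walk_length_eq_dist x y
  rw [← hp]
  exact sepCard_le_walk p

theorem two_le_sepCard {x y : X} (h : x ≠ y) : 2 ≤ sepCard G x y := by
  classical
  unfold sepCard
  rw [← Finset.card_pair h]
  apply Finset.card_le_card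
  intro z hz
  rw [Finset.mem_insert, Finset.mem_singleton] at hz
  simp only [Finset.mem_filter, Finset.mem_univ, true_and]
  rcases hz with rfl | rfl
  · exact sep_left h
  · exact sep_right h

open Classical in
/-- The valency of a vertex. -/
noncomputable def deg (Y : SimpleGraph X) (x : X) : ℕ :=
  (Finset.univ.filter (fun y => Y.Adj x y)).card

theorem deg_eq_card (Y : SimpleGraph X) (x : X) [DecidablePred (fun y => Y.Adj x y)] :
    deg Y x = (Finset.univ.filter (fun y => Y.Adj x y)).card := by
  unfold deg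
  congr!

theorem deg_eq [IsPretransitive G X] {Y : SimpleGraph X} (hY : Inv G Y) (x y : X) :
    deg Y x = deg Y y := by
  classical
  obtain ⟨g, rfl⟩ := exists_smul_eq G x y
  unfold deg
  apply Finset.card_bij (fun z _ => g • z)
  · intro z hz
    simp only [Finset.mem_filter, Finset.mem_univ, true_and] at hz ⊢
    exact hY g _ _ hz
  · intro a _ b _ h
    exact smul_left_cancel g h
  · intro z hz
    simp only [Finset.mem_filter, Finset.mem_univ, true_and] at hz
    refine ⟨g⁻¹ • z, ?_, smul_inv_smul g z⟩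
    simp only [Finset.mem_filter, Finset.mem_univ, true_and]
    rw [← hY.adj_iff g, smul_inv_smul]
    exact hz

open Classical in
/-- Double counting of triples `(z, x, y)` with `R x y` and `z` separating `x` and `y`. -/
theorem double_count (R : X → X → Prop) :
    ∑ z : X, (Finset.univ.filter (fun p : X × X => R p.1 p.2 ∧ Sep G z p.1 p.2)).card
      = ∑ p ∈ Finset.univ.filter (fun p : X × X => R p.1 p.2), sepCard G p.1 p.2 := by
  have h := Finset.sum_card_bipartiteAbove_eq_sum_card_bipartiteBelow
    (s := (Finset.univ : Finset X)) (t := Finset.univ.filter (fun p : X × X => R p.1 p.2))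
    (fun z p => Sep G z p.1 p.2)
  unfold Finset.bipartiteAbove Finset.bipartiteBelow at h
  rw [← Finset.sum_congr rfl (fun p _ => rfl)] at h
  calc ∑ z : X, (Finset.univ.filter (fun p : X × X => R p.1 p.2 ∧ Sep G z p.1 p.2)).card
      = ∑ z : X, ((Finset.univ.filter (fun p : X × X => R p.1 p.2)).filter
          (fun p => Sep G z p.1 p.2)).card := by
        apply Finset.sum_congr rfl
        intro z _
        rw [Finset.filter_filter]
    _ = _ := h

open Classical in
theorem card_filter_prod (Q : X → X → Prop) :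
    (Finset.univ.filter (fun p : X × X => Q p.1 p.2)).card
      = ∑ x : X, (Finset.univ.filter (fun y => Q x y)).card := by
  rw [Finset.card_filter, Fintype.sum_prod_type]
  apply Finset.sum_congr rfl
  intro x _
  rw [Finset.card_filter]

/-- Counting edges between points of different distance to `z`. -/
theorem two_mul_le_deg_mul [IsPretransitive G X] {x₀ y₀ : X}
    (hc : (orbGraph G x₀ y₀).Connected) :
    2 * (Fintype.card X - 1) ≤ deg (orbGraph G x₀ y₀) x₀ * sepCard G x₀ y₀ := by
  classical
  set Y := orbGraph G x₀ y₀ with hYdef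
  have hY : Inv G Y := inv_orbGraph x₀ y₀
  -- for each `z`
  have h1 : ∀ z : X, 2 * (Fintype.card X - 1) ≤
      (Finset.univ.filter (fun p : X × X => Y.Adj p.1 p.2 ∧ Sep G z p.1 p.2)).card := by
    intro z
    have hex : ∀ u : X, ∃ u' : X, u ≠ z → Y.Adj u u' ∧ Y.dist z u' < Y.dist z u := by
      intro u
      by_cases hu : u = z
      · exact ⟨u, fun h => absurd hu h⟩
      · obtain ⟨u', hu'⟩ := exists_closer hc hu
        exact ⟨u', fun _ => hu'⟩
    choose f hf using hex
    let A : Finset (X × X) := (Finset.univ.erase z).image (fun u => (u, f u))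
    let B : Finset (X × X) := (Finset.univ.erase z).image (fun u => (f u, u))
    have hA : A.card = Fintype.card X - 1 := by
      rw [Finset.card_image_of_injective _ (fun a b h => (Prod.ext_iff.mp h).1),
        Finset.card_erase_of_mem (Finset.mem_univ z), Finset.card_univ]
    have hB : B.card = Fintype.card X - 1 := by
      rw [Finset.card_image_of_injective _ (fun a b h => (Prod.ext_iff.mp h).2),
        Finset.card_erase_of_mem (Finset.mem_univ z), Finset.card_univ]
    have hAB : Disjoint A B := by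
      rw [Finset.disjoint_left]
      intro p hpA hpB
      obtain ⟨u, hu, rfl⟩ := Finset.mem_image.mp hpA
      obtain ⟨w, hw, hw'⟩ := Finset.mem_image.mp hpB
      have hu := (Finset.mem_erase.mp hu).1
      have hw := (Finset.mem_erase.mp hw).1
      have e1 : f w = u := (Prod.ext_iff.mp hw').1
      have e2 : w = f u := (Prod.ext_iff.mp hw').2
      have h1 := (hf u hu).2
      have h2 := (hf w hw).2
      rw [e1] at h2
      rw [← e2] at h1
      exact absurd h1 (not_lt.mpr h2.le)
    have hle : A ∪ B ⊆ Finset.univ.filter (fun p : X × X => Y.Adj p.1 p.2 ∧ Sep G z p.1 p.2) := by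
      intro p hp
      simp only [Finset.mem_filter, Finset.mem_univ, true_and]
      rcases Finset.mem_union.mp hp with hp | hp
      · obtain ⟨u, hu, rfl⟩ := Finset.mem_image.mp hp
        have hu := (Finset.mem_erase.mp hu).1
        exact ⟨(hf u hu).1, sep_of_dist hY hc (ne_of_gt (hf u hu).2)⟩
      · obtain ⟨u, hu, rfl⟩ := Finset.mem_image.mp hp
        have hu := (Finset.mem_erase.mp hu).1
        exact ⟨(hf u hu).1.symm, sep_of_dist hY hc (ne_of_lt (hf u hu).2)⟩
    have := Finset.card_le_card hle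
    rw [Finset.card_union_of_disjoint hAB, hA, hB] at this
    omega
  have h2 : Fintype.card X * (2 * (Fintype.card X - 1)) ≤
      Fintype.card X * (deg Y x₀ * sepCard G x₀ y₀) := by
    calc Fintype.card X * (2 * (Fintype.card X - 1))
        = ∑ _z : X, 2 * (Fintype.card X - 1) := by
          rw [Finset.sum_const, Finset.card_univ, smul_eq_mul]
      _ ≤ ∑ z : X, (Finset.univ.filter
            (fun p : X × X => Y.Adj p.1 p.2 ∧ Sep G z p.1 p.2)).card :=
          Finset.sum_le_sum (fun z _ => h1 z)
      _ = ∑ p ∈ Finset.univ.filter (fun p : X × X => Y.Adj p.1 p.2), sepCard G p.1 p.2 :=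
          double_count (fun x y => Y.Adj x y)
      _ = ∑ p ∈ Finset.univ.filter (fun p : X × X => Y.Adj p.1 p.2), sepCard G x₀ y₀ := by
          apply Finset.sum_congr rfl
          intro p hp
          exact sepCard_of_adj (Finset.mem_filter.mp hp).2
      _ = (Finset.univ.filter (fun p : X × X => Y.Adj p.1 p.2)).card * sepCard G x₀ y₀ := by
          rw [Finset.sum_const, smul_eq_mul]
      _ = (∑ x : X, deg Y x) * sepCard G x₀ y₀ := by
          rw [card_filter_prod (fun x y => Y.Adj x y)]
          rfl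
      _ = Fintype.card X * (deg Y x₀ * sepCard G x₀ y₀) := by
          rw [Finset.sum_congr rfl (fun x _ => deg_eq hY x x₀), Finset.sum_const,
            Finset.card_univ, smul_eq_mul, mul_assoc]
  exact Nat.le_of_mul_le_mul_left h2 (Fintype.card_pos_iff.mpr ⟨x₀⟩)

/-- If distance 3 (or more) occurs then the separating sets are large. -/
theorem two_mul_deg_le [IsPretransitive G X] {x₀ y₀ : X}
    (hc : (orbGraph G x₀ y₀).Connected) {u w : X} (h : 3 ≤ (orbGraph G x₀ y₀).dist u w) :
    2 * deg (orbGraph G x₀ y₀) x₀ + 2 ≤ 3 * sepCard G x₀ y₀ := by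
  classical
  set Y := orbGraph G x₀ y₀ with hYdef
  have hY : Inv G Y := inv_orbGraph x₀ y₀
  -- we may assume that the distance is exactly 3
  obtain ⟨w, hw⟩ : ∃ w, Y.dist u w = 3 := by
    let P : Finset X := Finset.univ.filter (fun w => 3 ≤ Y.dist u w)
    have hP : P.Nonempty := ⟨w, by simp [P, h]⟩
    obtain ⟨w, hwP, hwmin⟩ := P.exists_min_image (fun w => Y.dist u w) hP
    have hw3 : 3 ≤ Y.dist u w := (Finset.mem_filter.mp hwP).2
    have hwu : w ≠ u := by
      rintro rfl
      rw [SimpleGraph.dist_self] at hw3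
      omega
    obtain ⟨w', hadj, hlt⟩ := exists_closer hc hwu
    have h1 : Y.dist u w' < 3 := by
      by_contra hcon
      push Not at hcon
      have := hwmin w' (by simp [P, hcon])
      omega
    have h2 : Y.dist u w ≤ Y.dist u w' + Y.dist w' w := hc.dist_triangle
    have h3 : Y.dist w' w = 1 := SimpleGraph.dist_eq_one_iff_adj.mpr hadj.symm
    exact ⟨w, by omega⟩
  have huw : u ≠ w := by
    rintro rfl
    rw [SimpleGraph.dist_self] at hw
    omega
  have hle : sepCard G u w ≤ 3 * sepCard G x₀ y₀ := by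
    have := sepCard_le_dist hc u w
    rwa [hw] at this
  refine le_trans ?_ hle
  let N₁ : Finset X := Finset.univ.filter (fun z => Y.Adj u z)
  let N₂ : Finset X := Finset.univ.filter (fun z => Y.Adj w z)
  have hN₁ : N₁.card = deg Y x₀ := deg_eq hY u x₀
  have hN₂ : N₂.card = deg Y x₀ := deg_eq hY w x₀
  have hnadj : ∀ z, Y.Adj u z → ¬ Y.Adj w z := by
    intro z h1 h2
    have h3 : Y.dist u w ≤ Y.dist u z + Y.dist z w := hc.dist_triangle
    rw [SimpleGraph.dist_eq_one_iff_adj.mpr h1, SimpleGraph.dist_eq_one_iff_adj.mpr h2.symm] at h3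
    omega
  have huw' : ¬ Y.Adj u w := by
    intro h1
    rw [SimpleGraph.dist_eq_one_iff_adj.mpr h1] at hw
    omega
  have hdisj : Disjoint N₁ N₂ := by
    rw [Finset.disjoint_left]
    intro z h1 h2
    exact hnadj z (Finset.mem_filter.mp h1).2 (Finset.mem_filter.mp h2).2
  have hdisj2 : Disjoint ({u, w} : Finset X) (N₁ ∪ N₂) := by
    rw [Finset.disjoint_left]
    intro z h1 h2
    rw [Finset.mem_insert, Finset.mem_singleton] at h1
    rw [Finset.mem_union, Finset.mem_filter, Finset.mem_filter] at h2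
    rcases h1 with rfl | rfl
    · rcases h2 with h2 | h2
      · exact Y.loopless.irrefl _ h2.2
      · exact huw' h2.2.symm
    · rcases h2 with h2 | h2
      · exact huw' h2.2
      · exact Y.loopless.irrefl _ h2.2
  have hsub : ({u, w} : Finset X) ∪ (N₁ ∪ N₂) ⊆ Finset.univ.filter (fun z => Sep G z u w) := by
    intro z hz
    simp only [Finset.mem_filter, Finset.mem_univ, true_and]
    rw [Finset.mem_union, Finset.mem_insert, Finset.mem_singleton, Finset.mem_union] at hz
    rcases hz with (rfl | rfl) | hz | hz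
    · exact sep_left huw
    · exact sep_right huw
    · have hz := (Finset.mem_filter.mp hz).2
      intro g hg hgu
      apply hnadj z hz
      have := hY g _ _ hz
      rwa [hg, hgu] at this
    · have hz := (Finset.mem_filter.mp hz).2
      intro g hg hgu
      apply hnadj z _ hz
      rw [← hY.adj_iff g, hg, hgu]
      exact hz
  have := Finset.card_le_card hsub
  rw [Finset.card_union_of_disjoint hdisj2, Finset.card_union_of_disjoint hdisj,
    Finset.card_pair huw, hN₁, hN₂] at this
  unfold sepCard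
  omega

/-- If every vertex `u ≠ z` is at distance at most 2 from `z` then `|X| ≤ 1 + v²`. -/
theorem card_le_of_diam_two [IsPretransitive G X] {Y : SimpleGraph X} (hY : Inv G Y) (z : X)
    (h : ∀ u, u ≠ z → Y.Adj z u ∨ ∃ w, Y.Adj z w ∧ Y.Adj w u) :
    Fintype.card X ≤ 1 + deg Y z * deg Y z := by
  classical
  let N : X → Finset X := fun u => Finset.univ.filter (fun y => Y.Adj u y)
  have hN : ∀ u, (N u).card = deg Y z := fun u => deg_eq hY u z
  have hsub : (Finset.univ : Finset X) ⊆
      insert z ((N z).biUnion (fun w => insert w ((N w).erase z))) := by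
    intro u _
    rw [Finset.mem_insert, Finset.mem_biUnion]
    by_cases hu : u = z
    · exact Or.inl hu
    right
    rcases h u hu with h1 | ⟨w, h1, h2⟩
    · exact ⟨u, by simp [N, h1], Finset.mem_insert_self _ _⟩
    · refine ⟨w, by simp [N, h1], Finset.mem_insert_of_mem ?_⟩
      rw [Finset.mem_erase]
      exact ⟨hu, by simp [N, h2]⟩
  have h1 := Finset.card_le_card hsub
  rw [Finset.card_univ] at h1
  have h2 : ((N z).biUnion (fun w => insert w ((N w).erase z))).card ≤ (N z).card * deg Y z := by
    apply Finset.card_biUnion_le_card_mul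
    intro w hw
    have hw' : Y.Adj z w := (Finset.mem_filter.mp hw).2
    have hz : z ∈ N w := by simp [N, hw'.symm]
    have h3 : ((N w).erase z).card = deg Y z - 1 := by
      rw [Finset.card_erase_of_mem hz, hN]
    have h4 : 0 < deg Y z := by
      rw [← hN w]
      exact Finset.card_pos.mpr ⟨z, hz⟩
    refine le_trans (Finset.card_insert_le _ _) ?_
    omega
  rw [hN] at h2
  have h3 := Finset.card_insert_le z ((N z).biUnion (fun w => insert w ((N w).erase z)))
  omega

omit [Fintype X] in
/-- The complement of an invariant graph, as an invariant graph. -/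
theorem inv_compl {Y : SimpleGraph X} (hY : Inv G Y) : Inv G Yᶜ := by
  intro g x y h
  rw [SimpleGraph.compl_adj] at h ⊢
  exact ⟨fun h' => h.1 (smul_left_cancel g h'), fun h' => h.2 ((hY.adj_iff g x y).mp h')⟩

theorem deg_compl (Y : SimpleGraph X) (z : X) : deg Y z + deg Yᶜ z + 1 = Fintype.card X := by
  classical
  have h1 : Disjoint (Finset.univ.filter (fun y => Y.Adj z y))
      (Finset.univ.filter (fun y => Yᶜ.Adj z y)) := by
    rw [Finset.disjoint_left]
    intro y h1 h2
    have h1 := (Finset.mem_filter.mp h1).2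
    have h2 := (Finset.mem_filter.mp h2).2
    rw [SimpleGraph.compl_adj] at h2
    exact h2.2 h1
  have h2 : (Finset.univ.filter (fun y => Y.Adj z y)) ∪
      (Finset.univ.filter (fun y => Yᶜ.Adj z y)) = Finset.univ.erase z := by
    ext y
    simp only [Finset.mem_union, Finset.mem_filter, Finset.mem_univ, true_and,
      SimpleGraph.compl_adj, Finset.mem_erase, and_true]
    constructor
    · rintro (h | h)
      · exact h.ne'
      · exact h.1.symm
    · intro h
      by_cases h3 : Y.Adj z y
      · exact Or.inl h3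
      · exact Or.inr ⟨h.symm, h3⟩
  have h3 := Finset.card_union_of_disjoint h1
  rw [h2, Finset.card_erase_of_mem (Finset.mem_univ z), Finset.card_univ] at h3
  have h4 : 0 < Fintype.card X := Fintype.card_pos_iff.mpr ⟨z⟩
  rw [← deg_eq_card, ← deg_eq_card] at h3
  omega

/-- The complement of an orbital graph also has diameter at most 2 (unless it is empty). -/
theorem card_le_compl [IsPreprimitive G X] {x₀ y₀ : X}
    (hne : deg (orbGraph G x₀ y₀)ᶜ x₀ ≠ 0) :
    Fintype.card X ≤ 1 + deg (orbGraph G x₀ y₀)ᶜ x₀ * deg (orbGraph G x₀ y₀)ᶜ x₀ := by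
  classical
  set Y := orbGraph G x₀ y₀ with hYdef
  have hY : Inv G Y := inv_orbGraph x₀ y₀
  have hW : Inv G Yᶜ := inv_compl hY
  -- every `Y`-edge has a common neighbour in the complement
  have key : ∀ u w, Y.Adj u w → ∃ c, Yᶜ.Adj u c ∧ Yᶜ.Adj c w := by
    by_contra hcon
    push Not at hcon
    obtain ⟨u, w, huw, hno⟩ := hcon
    -- no `Y`-edge has a common neighbour
    have hno' : ∀ a b, Y.Adj a b → ∀ c, Yᶜ.Adj a c → ¬ Yᶜ.Adj c b := by
      -- all `Y`-edges are equivalent
      have hbase : ∀ c, Yᶜ.Adj x₀ c → ¬ Yᶜ.Adj c y₀ := by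
        obtain ⟨-, k, ⟨rfl, rfl⟩ | ⟨rfl, rfl⟩⟩ := huw
        · intro c h1 h2
          exact hno (k • c) (hW k _ _ h1) (hW k _ _ h2)
        · intro c h1 h2
          exact hno (k • c) (hW k _ _ h2.symm) (hW k _ _ h1.symm)
      rintro a b ⟨-, k, ⟨rfl, rfl⟩ | ⟨rfl, rfl⟩⟩ c h1 h2
      · refine hbase (k⁻¹ • c) ?_ ?_
        · rw [← hW.adj_iff k, smul_inv_smul]; exact h1
        · rw [← hW.adj_iff k, smul_inv_smul]; exact h2
      · refine hbase (k⁻¹ • c) ?_ ?_
        · rw [← hW.adj_iff k, smul_inv_smul]; exact h2.symm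
        · rw [← hW.adj_iff k, smul_inv_smul]; exact h1.symm
    -- so equality or adjacency in the complement is an equivalence relation
    obtain ⟨c, hc⟩ : ∃ c, Yᶜ.Adj x₀ c := by
      rw [deg_eq_card] at hne
      obtain ⟨c, hc⟩ := Finset.card_ne_zero.mp hne
      exact ⟨c, (Finset.mem_filter.mp hc).2⟩
    have hr := rel_all_of_rel (G := G) (fun a b => a = b ∨ Yᶜ.Adj a b)
      ⟨fun a => Or.inl rfl, fun {a b} h => by
          rcases h with h | h
          · exact Or.inl h.symm
          · exact Or.inr h.symm,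
        fun {a b d} h1 h2 => by
          rcases h1 with rfl | h1
          · exact h2
          · rcases h2 with rfl | h2
            · exact Or.inr h1
            · by_cases had : a = d
              · exact Or.inl had
              · right
                rw [SimpleGraph.compl_adj]
                exact ⟨had, fun h3 => hno' a d h3 b h1 h2⟩⟩
      (fun g a b h => by
        rcases h with rfl | h
        · exact Or.inl rfl
        · exact Or.inr (hW g _ _ h)) hc.ne (Or.inr hc) u w
    rcases hr with h | h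
    · exact huw.ne h
    · rw [SimpleGraph.compl_adj] at h
      exact h.2 huw
  apply card_le_of_diam_two hW x₀
  intro u hu
  by_cases h : Y.Adj x₀ u
  · exact Or.inr (key x₀ u h)
  · left
    rw [SimpleGraph.compl_adj]
    exact ⟨hu.symm, h⟩

open Classical in
/-- Lower bound for the number of ordered pairs separated by `z`. -/
theorem sep_pairs_lower (z : X) (A C : Finset X) (hA : z ∉ A) (hC : z ∉ C) (hAC : Disjoint A C)
    (hcover : ∀ y, y ≠ z → y ∈ A ∨ y ∈ C) (hsep : ∀ y ∈ A, ∀ y' ∈ C, Sep G z y y') :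
    2 * (A.card + C.card) + 2 * (A.card * C.card) ≤
      (Finset.univ.filter (fun p : X × X => Sep G z p.1 p.2)).card := by
  have hn : Fintype.card X = 1 + A.card + C.card := by
    have h1 : insert z (A ∪ C) = Finset.univ := by
      ext y
      simp only [Finset.mem_insert, Finset.mem_union, Finset.mem_univ, iff_true]
      by_cases h : y = z
      · exact Or.inl h
      · exact Or.inr (hcover y h)
    rw [← Finset.card_univ, ← h1, Finset.card_insert_of_notMem, Finset.card_union_of_disjoint hAC]
    · ring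
    · rw [Finset.mem_union]
      rintro (h | h)
      · exact hA h
      · exact hC h
  have hsub : Finset.univ.filter (fun p : X × X => ¬ Sep G z p.1 p.2) ⊆
      ({(z, z)} ∪ A ×ˢ A) ∪ C ×ˢ C := by
    rintro ⟨a, b⟩ hp
    have hp := (Finset.mem_filter.mp hp).2
    simp only [Finset.mem_union, Finset.mem_singleton, Finset.mem_product, Prod.mk.injEq]
    dsimp only at hp
    by_cases ha : a = z
    · by_cases hb : b = z
      · exact Or.inl (Or.inl ⟨ha, hb⟩)
      · exfalso
        apply hp
        rw [← ha]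
        exact sep_left (by rw [ha]; exact Ne.symm hb)
    · by_cases hb : b = z
      · exfalso
        apply hp
        rw [← hb]
        exact sep_right (by rw [hb]; exact ha)
      · rcases hcover a ha with ha' | ha'
        · rcases hcover b hb with hb' | hb'
          · exact Or.inl (Or.inr ⟨ha', hb'⟩)
          · exact absurd (hsep a ha' b hb') hp
        · rcases hcover b hb with hb' | hb'
          · exact absurd (sep_symm (hsep b hb' a ha')) hp
          · exact Or.inr ⟨ha', hb'⟩
  have h1 := Finset.card_le_card hsub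
  have h2 := Finset.card_union_le ({(z, z)} ∪ A ×ˢ A) (C ×ˢ C)
  have h3 := Finset.card_union_le {(z, z)} (A ×ˢ A)
  rw [Finset.card_product] at h2 h3
  rw [Finset.card_singleton] at h3
  have h4 := Finset.card_filter_add_card_filter_not
    (s := (Finset.univ : Finset (X × X))) (fun p : X × X => Sep G z p.1 p.2)
  rw [Finset.card_univ, Fintype.card_prod, hn] at h4
  nlinarith

open Classical in
theorem sum_sep_pairs :
    ∑ z : X, (Finset.univ.filter (fun p : X × X => Sep G z p.1 p.2)).card
      = ∑ x : X, ∑ y : X, sepCard G x y := by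
  have h := double_count (G := G) (X := X) (fun _ _ => True)
  simp only [true_and, Finset.filter_true] at h
  rw [h, Fintype.sum_prod_type]

theorem sum_sepCard_le [IsPretransitive G X] {x₀ y₀ : X}
    (h2 : ∀ x y : X, sepCard G x y ≤ 2 * sepCard G x₀ y₀) (x : X) :
    ∑ y : X, sepCard G x y ≤ sepCard G x₀ y₀ *
      (deg (orbGraph G x₀ y₀) x₀ + 2 * deg (orbGraph G x₀ y₀)ᶜ x₀) := by
  classical
  set Y := orbGraph G x₀ y₀ with hYdef
  have hY : Inv G Y := inv_orbGraph x₀ y₀
  have hle : ∀ y, sepCard G x y ≤ (if Y.Adj x y then sepCard G x₀ y₀ else 0) +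
      (if Yᶜ.Adj x y then 2 * sepCard G x₀ y₀ else 0) := by
    intro y
    by_cases h : x = y
    · rw [h, sepCard_self]
      exact Nat.zero_le _
    · by_cases h1 : Y.Adj x y
      · rw [if_pos h1, sepCard_of_adj h1]
        exact Nat.le_add_right _ _
      · have h3 : Yᶜ.Adj x y := by
          rw [SimpleGraph.compl_adj]
          exact ⟨h, h1⟩
        rw [if_pos h3]
        exact le_trans (h2 x y) (Nat.le_add_left _ _)
  refine le_trans (Finset.sum_le_sum (fun y _ => hle y)) ?_
  rw [Finset.sum_add_distrib, ← Finset.sum_filter, ← Finset.sum_filter, Finset.sum_const,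
    Finset.sum_const, ← deg_eq_card, ← deg_eq_card, deg_eq hY x x₀, deg_eq (inv_compl hY) x x₀,
    smul_eq_mul, smul_eq_mul]
  apply le_of_eq
  ring

/-- The case of diameter at most 2. -/
theorem diam_two_case [IsPreprimitive G X] {x₀ y₀ : X}
    (h2 : ∀ x y : X, sepCard G x y ≤ 2 * sepCard G x₀ y₀) :
    2 * (deg (orbGraph G x₀ y₀) x₀ + deg (orbGraph G x₀ y₀)ᶜ x₀) +
      2 * (deg (orbGraph G x₀ y₀) x₀ * deg (orbGraph G x₀ y₀)ᶜ x₀) ≤ sepCard G x₀ y₀ *
      (deg (orbGraph G x₀ y₀) x₀ + 2 * deg (orbGraph G x₀ y₀)ᶜ x₀) := by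
  classical
  set Y := orbGraph G x₀ y₀ with hYdef
  have hY : Inv G Y := inv_orbGraph x₀ y₀
  have h1 : ∀ z : X, 2 * (deg Y x₀ + deg Yᶜ x₀) + 2 * (deg Y x₀ * deg Yᶜ x₀) ≤
      (Finset.univ.filter (fun p : X × X => Sep G z p.1 p.2)).card := by
    intro z
    rw [← deg_eq hY z x₀, ← deg_eq (inv_compl hY) z x₀, deg_eq_card, deg_eq_card]
    apply sep_pairs_lower
    · simp
    · simp
    · rw [Finset.disjoint_left]
      intro y h1 h2
      have h1 := (Finset.mem_filter.mp h1).2
      have h2 := (Finset.mem_filter.mp h2).2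
      rw [SimpleGraph.compl_adj] at h2
      exact h2.2 h1
    · intro y hy
      by_cases h : Y.Adj z y
      · exact Or.inl (Finset.mem_filter.mpr ⟨Finset.mem_univ _, h⟩)
      · refine Or.inr (Finset.mem_filter.mpr ⟨Finset.mem_univ _, ?_⟩)
        rw [SimpleGraph.compl_adj]
        exact ⟨hy.symm, h⟩
    · intro y hy y' hy' g hg hgy
      have hy := (Finset.mem_filter.mp hy).2
      have hy' := (Finset.mem_filter.mp hy').2
      rw [SimpleGraph.compl_adj] at hy'
      apply hy'.2
      have := hY g _ _ hy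
      rwa [hg, hgy] at this
  have h3 : Fintype.card X * (2 * (deg Y x₀ + deg Yᶜ x₀) + 2 * (deg Y x₀ * deg Yᶜ x₀)) ≤
      Fintype.card X * (sepCard G x₀ y₀ * (deg Y x₀ + 2 * deg Yᶜ x₀)) := by
    calc Fintype.card X * (2 * (deg Y x₀ + deg Yᶜ x₀) + 2 * (deg Y x₀ * deg Yᶜ x₀))
        = ∑ _z : X, (2 * (deg Y x₀ + deg Yᶜ x₀) + 2 * (deg Y x₀ * deg Yᶜ x₀)) := by
          rw [Finset.sum_const, Finset.card_univ, smul_eq_mul]
      _ ≤ ∑ z : X, (Finset.univ.filter (fun p : X × X => Sep G z p.1 p.2)).card :=
          Finset.sum_le_sum (fun z _ => h1 z)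
      _ = ∑ x : X, ∑ y : X, sepCard G x y := sum_sep_pairs
      _ ≤ ∑ _x : X, sepCard G x₀ y₀ * (deg Y x₀ + 2 * deg Yᶜ x₀) :=
          Finset.sum_le_sum (fun x _ => sum_sepCard_le h2 x)
      _ = _ := by rw [Finset.sum_const, Finset.card_univ, smul_eq_mul]
  exact Nat.le_of_mul_le_mul_left h3 (Fintype.card_pos_iff.mpr ⟨x₀⟩)

/-- The case where the orbital graph is complete (and the action is not 2-transitive). -/
theorem complete_case [IsPretransitive G X] (hnt : ¬ IsMultiplyPretransitive G X 2) {x₀ y₀ : X}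
    (hw : deg (orbGraph G x₀ y₀)ᶜ x₀ = 0) (hxy : x₀ ≠ y₀) :
    Fintype.card X - 1 ≤ sepCard G x₀ y₀ * (sepCard G x₀ y₀ - 1) := by
  classical
  set Y := orbGraph G x₀ y₀ with hYdef
  have hY : Inv G Y := inv_orbGraph x₀ y₀
  -- all pairs are adjacent
  have hadj : ∀ x y, x ≠ y → Y.Adj x y := by
    intro x y hxy'
    by_contra hno
    have h1 : Yᶜ.Adj x y := by
      rw [SimpleGraph.compl_adj]
      exact ⟨hxy', hno⟩
    rw [← deg_eq (inv_compl hY) x x₀, deg_eq_card, Finset.card_eq_zero,
      Finset.filter_eq_empty_iff] at hw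
    exact hw (Finset.mem_univ y) h1
  -- no element swaps the two points
  have hswap : ∀ g : G, ¬ (g • x₀ = y₀ ∧ g • y₀ = x₀) := by
    rintro s ⟨hs1, hs2⟩
    apply hnt
    have hall : ∀ x y : X, x ≠ y → ∃ g : G, g • x₀ = x ∧ g • y₀ = y := by
      intro x y h
      obtain ⟨-, k, ⟨h1, h2⟩ | ⟨h1, h2⟩⟩ := hadj x y h
      · exact ⟨k, h1, h2⟩
      · exact ⟨k * s, by rw [mul_smul, hs1, h2], by rw [mul_smul, hs2, h1]⟩
    rw [is_two_pretransitive_iff]
    intro a b c d hab hcd
    obtain ⟨g, hg1, hg2⟩ := hall a b hab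
    obtain ⟨k, hk1, hk2⟩ := hall c d hcd
    refine ⟨k * g⁻¹, ?_, ?_⟩
    · rw [mul_smul, ← hg1, inv_smul_smul, hk1]
    · rw [mul_smul, ← hg2, inv_smul_smul, hk2]
  let O : X → X → Prop := fun x y => ∃ g : G, g • x₀ = x ∧ g • y₀ = y
  have hOinv : ∀ (g : G) (x y : X), O x y → O (g • x) (g • y) := by
    rintro g x y ⟨k, rfl, rfl⟩
    exact ⟨g * k, mul_smul _ _ _, mul_smul _ _ _⟩
  have hOinv' : ∀ (g : G) (x y : X), O (g • x) (g • y) → O x y := by
    intro g x y h
    have := hOinv g⁻¹ _ _ h
    rwa [inv_smul_smul, inv_smul_smul] at this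
  have hOne : ∀ x y, O x y → x ≠ y := by
    rintro x y ⟨k, rfl, rfl⟩ h
    exact hxy (smul_left_cancel k h)
  have hOanti : ∀ x y, O x y → ¬ O y x := by
    rintro x y ⟨g, hg1, hg2⟩ ⟨k, hk1, hk2⟩
    apply hswap (g⁻¹ * k)
    exact ⟨by rw [mul_smul, hk1, ← hg2, inv_smul_smul], by rw [mul_smul, hk2, ← hg1, inv_smul_smul]⟩
  have hOtotal : ∀ x y, x ≠ y → O x y ∨ O y x := by
    intro x y h
    obtain ⟨-, k, ⟨h1, h2⟩ | ⟨h1, h2⟩⟩ := hadj x y h
    · exact Or.inl ⟨k, h1, h2⟩
    · exact Or.inr ⟨k, h1, h2⟩
  let A : X → Finset X := fun z => Finset.univ.filter (fun y => O z y)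
  let B : X → Finset X := fun z => Finset.univ.filter (fun y => O y z)
  have hAconst : ∀ z, (A z).card = (A x₀).card := by
    intro z
    obtain ⟨g, rfl⟩ := exists_smul_eq G x₀ z
    symm
    apply Finset.card_bij (fun z _ => g • z)
    · intro y hy
      exact Finset.mem_filter.mpr ⟨Finset.mem_univ _, hOinv g _ _ (Finset.mem_filter.mp hy).2⟩
    · intro a _ b _ h
      exact smul_left_cancel g h
    · intro y hy
      refine ⟨g⁻¹ • y, Finset.mem_filter.mpr ⟨Finset.mem_univ _, ?_⟩, smul_inv_smul g y⟩
      apply hOinv' g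
      rw [smul_inv_smul]
      exact (Finset.mem_filter.mp hy).2
  have hBconst : ∀ z, (B z).card = (B x₀).card := by
    intro z
    obtain ⟨g, rfl⟩ := exists_smul_eq G x₀ z
    symm
    apply Finset.card_bij (fun z _ => g • z)
    · intro y hy
      exact Finset.mem_filter.mpr ⟨Finset.mem_univ _, hOinv g _ _ (Finset.mem_filter.mp hy).2⟩
    · intro a _ b _ h
      exact smul_left_cancel g h
    · intro y hy
      refine ⟨g⁻¹ • y, Finset.mem_filter.mpr ⟨Finset.mem_univ _, ?_⟩, smul_inv_smul g y⟩
      apply hOinv' g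
      rw [smul_inv_smul]
      exact (Finset.mem_filter.mp hy).2
  have hpos : 0 < Fintype.card X := Fintype.card_pos_iff.mpr ⟨x₀⟩
  -- out-degree equals in-degree
  have hAB : (A x₀).card = (B x₀).card := by
    have h1 : ∑ z : X, (A z).card = ∑ z : X, (B z).card := by
      have h := Finset.sum_card_bipartiteAbove_eq_sum_card_bipartiteBelow
        (s := (Finset.univ : Finset X)) (t := (Finset.univ : Finset X)) (fun x y => O x y)
      exact h
    rw [Finset.sum_congr rfl (fun z _ => hAconst z), Finset.sum_congr rfl (fun z _ => hBconst z),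
      Finset.sum_const, Finset.sum_const, Finset.card_univ, smul_eq_mul, smul_eq_mul] at h1
    exact Nat.eq_of_mul_eq_mul_left hpos h1
  have hABd : ∀ z, Disjoint (A z) (B z) := by
    intro z
    rw [Finset.disjoint_left]
    intro y h1 h2
    exact hOanti _ _ (Finset.mem_filter.mp h1).2 (Finset.mem_filter.mp h2).2
  have hcard : Fintype.card X = 1 + 2 * (A x₀).card := by
    have h1 : insert x₀ (A x₀ ∪ B x₀) = Finset.univ := by
      ext y
      simp only [Finset.mem_insert, Finset.mem_union, Finset.mem_univ, iff_true]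
      by_cases h : y = x₀
      · exact Or.inl h
      · right
        rcases hOtotal x₀ y (Ne.symm h) with h | h
        · exact Or.inl (Finset.mem_filter.mpr ⟨Finset.mem_univ _, h⟩)
        · exact Or.inr (Finset.mem_filter.mpr ⟨Finset.mem_univ _, h⟩)
    rw [← Finset.card_univ, ← h1, Finset.card_insert_of_notMem,
      Finset.card_union_of_disjoint (hABd x₀), ← hAB]
    · ring
    · rw [Finset.mem_union]
      rintro (h | h)
      · exact hOne _ _ (Finset.mem_filter.mp h).2 rfl
      · exact hOne _ _ (Finset.mem_filter.mp h).2 rfl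
  have h1 : ∀ z : X, 2 * ((A x₀).card + (A x₀).card) + 2 * ((A x₀).card * (A x₀).card) ≤
      (Finset.univ.filter (fun p : X × X => Sep G z p.1 p.2)).card := by
    intro z
    have h := sep_pairs_lower (G := G) z (A z) (B z)
      (fun h => hOne _ _ (Finset.mem_filter.mp h).2 rfl)
      (fun h => hOne _ _ (Finset.mem_filter.mp h).2 rfl) (hABd z)
      (by
        intro y hy
        rcases hOtotal z y (Ne.symm hy) with h | h
        · exact Or.inl (Finset.mem_filter.mpr ⟨Finset.mem_univ _, h⟩)
        · exact Or.inr (Finset.mem_filter.mpr ⟨Finset.mem_univ _, h⟩))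
      (by
        intro y hy y' hy' g hg hgy
        have hy := (Finset.mem_filter.mp hy).2
        have hy' := (Finset.mem_filter.mp hy').2
        have h := hOinv g _ _ hy
        rw [hg, hgy] at h
        exact hOanti _ _ h hy')
    rwa [hAconst z, hBconst z, ← hAB] at h
  have h2 : ∀ x : X, ∑ y : X, sepCard G x y ≤ 2 * (A x₀).card * sepCard G x₀ y₀ := by
    intro x
    have hle : ∀ y, sepCard G x y ≤ (if y ∈ Finset.univ.erase x then sepCard G x₀ y₀ else 0) := by
      intro y
      by_cases h : y = x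
      · rw [h, sepCard_self]
        exact Nat.zero_le _
      · rw [if_pos (Finset.mem_erase.mpr ⟨h, Finset.mem_univ _⟩),
          sepCard_of_adj (hadj x y (Ne.symm h))]
    refine le_trans (Finset.sum_le_sum (fun y _ => hle y)) ?_
    rw [← Finset.sum_filter, Finset.sum_const, smul_eq_mul]
    apply le_of_eq
    congr 1
    rw [Finset.filter_mem_eq_inter, Finset.univ_inter, Finset.card_erase_of_mem
      (Finset.mem_univ x), Finset.card_univ, hcard]
    omega
  have h3 : Fintype.card X * (2 * ((A x₀).card + (A x₀).card) + 2 * ((A x₀).card * (A x₀).card)) ≤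
      Fintype.card X * (2 * (A x₀).card * sepCard G x₀ y₀) := by
    calc Fintype.card X * (2 * ((A x₀).card + (A x₀).card) + 2 * ((A x₀).card * (A x₀).card))
        = ∑ _z : X, (2 * ((A x₀).card + (A x₀).card) + 2 * ((A x₀).card * (A x₀).card)) := by
          rw [Finset.sum_const, Finset.card_univ, smul_eq_mul]
      _ ≤ ∑ z : X, (Finset.univ.filter (fun p : X × X => Sep G z p.1 p.2)).card :=
          Finset.sum_le_sum (fun z _ => h1 z)
      _ = ∑ x : X, ∑ y : X, sepCard G x y := sum_sep_pairs
      _ ≤ ∑ _x : X, 2 * (A x₀).card * sepCard G x₀ y₀ := Finset.sum_le_sum (fun x _ => h2 x)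
      _ = _ := by rw [Finset.sum_const, Finset.card_univ, smul_eq_mul]
  have h4 := Nat.le_of_mul_le_mul_left h3 hpos
  rw [hcard]
  set a := (A x₀).card with ha
  set D := sepCard G x₀ y₀ with hD
  rcases Nat.eq_zero_or_pos a with h0 | h0
  · rw [h0]
    simp
  · have h5 : 2 * a * (2 + a) ≤ 2 * a * D := by
      calc 2 * a * (2 + a) = 2 * (a + a) + 2 * (a * a) := by ring
        _ ≤ _ := h4
    have h6 : 2 + a ≤ D := Nat.le_of_mul_le_mul_left h5 (by omega)
    obtain ⟨D', hD'⟩ : ∃ D', D = D' + 1 := ⟨D - 1, by omega⟩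
    rw [hD', Nat.add_sub_cancel]
    rw [hD'] at h6
    have h7 : 1 + a ≤ D' := by omega
    calc 1 + 2 * a - 1 = 2 * a := by omega
      _ ≤ (D' + 1) * D' := by nlinarith

/-- The bound for `sepCard`. -/
theorem sepCard_bound [IsPreprimitive G X] (hnt : ¬ IsMultiplyPretransitive G X 2) {x₀ y₀ : X}
    (hxy : x₀ ≠ y₀) : Fintype.card X - 1 ≤ sepCard G x₀ y₀ * (sepCard G x₀ y₀ - 1) := by
  classical
  set Y := orbGraph G x₀ y₀ with hYdef
  have hY : Inv G Y := inv_orbGraph x₀ y₀
  have hc : Y.Connected := hY.connected (orbGraph_adj_base hxy)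
  have hD2 : 2 ≤ sepCard G x₀ y₀ := two_le_sepCard hxy
  by_cases hw : deg Yᶜ x₀ = 0
  · exact complete_case hnt hw hxy
  by_cases hdiam : ∃ u w, 3 ≤ Y.dist u w
  · obtain ⟨u, w, huw⟩ := hdiam
    have h1 := two_mul_deg_le hc huw
    have h2 := two_mul_le_deg_mul hc
    rw [← hYdef] at h1 h2
    obtain ⟨D', hD'⟩ : ∃ D', sepCard G x₀ y₀ = D' + 2 := ⟨sepCard G x₀ y₀ - 2, by omega⟩
    rw [hD'] at h1 h2 ⊢
    have h3 : D' + 2 - 1 = D' + 1 := by omega
    rw [h3]
    have h4 : 2 * deg Y x₀ ≤ 3 * D' + 4 := by omega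
    have h5 : 2 * (2 * (Fintype.card X - 1)) ≤ (3 * D' + 4) * (D' + 2) := by
      calc 2 * (2 * (Fintype.card X - 1)) ≤ 2 * (deg Y x₀ * (D' + 2)) := by omega
        _ = (2 * deg Y x₀) * (D' + 2) := by ring
        _ ≤ (3 * D' + 4) * (D' + 2) := Nat.mul_le_mul_right _ h4
    nlinarith
  · push Not at hdiam
    have h2 : ∀ x y : X, sepCard G x y ≤ 2 * sepCard G x₀ y₀ := by
      intro x y
      refine le_trans (sepCard_le_dist hc x y) (Nat.mul_le_mul_right _ ?_)
      exact Nat.le_of_lt_succ (hdiam x y)
    have hmain := diam_two_case h2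
    rw [← hYdef] at hmain
    have hv := deg_compl Y x₀
    have hNw := card_le_compl hw
    rw [← hYdef] at hNw
    have hNv : Fintype.card X ≤ 1 + deg Y x₀ * deg Y x₀ := by
      apply card_le_of_diam_two hY x₀
      intro u hu
      have h3 := hdiam x₀ u
      by_cases h4 : Y.Adj x₀ u
      · exact Or.inl h4
      · right
        have h5 : 1 < Y.dist x₀ u := hc.one_lt_dist_of_ne_of_not_adj hu.symm h4
        obtain ⟨w, hw1, hw2⟩ := exists_closer hc hu
        refine ⟨w, ?_, hw1.symm⟩
        have hdist : Y.dist x₀ u ≤ Y.dist x₀ w + Y.dist w u := hc.dist_triangle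
        rw [SimpleGraph.dist_eq_one_iff_adj.mpr hw1.symm] at hdist
        rw [← SimpleGraph.dist_eq_one_iff_adj]
        omega
    set v := deg Y x₀ with hvdef
    set w := deg Yᶜ x₀ with hwdef
    set D := sepCard G x₀ y₀ with hDdef
    have hN : Fintype.card X - 1 = v + w := by omega
    rw [hN]
    by_contra hlt
    push Not at hlt
    obtain ⟨D', hD'⟩ : ∃ D', D = D' + 1 := ⟨D - 1, by omega⟩
    rw [hD', Nat.add_sub_cancel] at hlt
    rw [hD'] at hmain
    have hvN : v + w ≤ v * v := by omega
    have hwN : v + w ≤ w * w := by omega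
    have hv' : D' + 1 ≤ v := by
      by_contra hcon
      push Not at hcon
      have : v * v ≤ D' * D' := Nat.mul_le_mul (by omega) (by omega)
      nlinarith
    have hw' : D' + 1 ≤ w := by
      by_contra hcon
      push Not at hcon
      have : w * w ≤ D' * D' := Nat.mul_le_mul (by omega) (by omega)
      nlinarith
    obtain ⟨a, ha⟩ := Nat.exists_eq_add_of_le hv'
    obtain ⟨b, hb⟩ := Nat.exists_eq_add_of_le hw'
    rw [ha, hb] at hmain hlt
    nlinarith [Nat.zero_le (a * b), Nat.zero_le (D' * a)]

theorem sepCard_eq_ncard (x y : X) : sepCard G x y = (Defs.disting G x y).ncard := by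
  classical
  unfold sepCard
  rw [← Set.ncard_coe_finset]
  congr 1
  ext z
  simp only [Finset.coe_filter, Finset.mem_univ, true_and, Set.mem_ofPred_eq]
  unfold Defs.disting Sep
  simp only [Set.mem_ofPred_eq]
  push Not
  rfl

end count

/-- The distinguishing bound. -/
theorem disting_bound {G X : Type*} [Group G] [MulAction G X] [Finite X]
    (hprim : IsPreprimitive G X) (h2 : ¬ IsMultiplyPretransitive G X 2) {x y : X} (hxy : x ≠ y) :
    Nat.card X - 1 ≤ (Defs.disting G x y).ncard * ((Defs.disting G x y).ncard - 1) := by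
  classical
  have := Fintype.ofFinite X
  rw [← sepCard_eq_ncard, Nat.card_eq_fintype_card]
  exact sepCard_bound h2 hxy

end Cfsg.Agent.PermutationGroups.OrderBound.Disting
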