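import Mathlib
import Cfsg.Agent.PermutationGroups.OrderBound.Defs
import Cfsg.Agent.PermutationGroups.OrderBound.Disting
import Cfsg.Agent.PermutationGroups.PSTransOne
import Cfsg.Agent.S0711
import Cfsg.Agent.PermutationGroups.PSBochert
set_option linter.all false

-- part: PermutationGroups/PSPotential
section
/-! The potential (random sequence / entropy) lemma for bounding the order of a permutation
group, used for the Praeger-Saxl bound. -/

set_option autoImplicit false

namespace Cfsg.Agent.PermutationGroups.PSPotential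

open Finset

/-- the recursively defined logarithm of the bound, `r` is the number of points still to be
fixed -/
noncomputable def F (a : ℕ → ℝ) (n : ℕ) : ℕ → ℝ → ℝ
  | 0, _ => 0
  | r + 1, w => Real.log (1 + w / ((r : ℝ) + 1)) + F a n r (a (n - (r + 1)) * w)

theorem F_zero (a : ℕ → ℝ) (n : ℕ) (w : ℝ) : F a n 0 w = 0 := rfl

theorem F_succ (a : ℕ → ℝ) (n r : ℕ) (w : ℝ) :
    F a n (r + 1) w = Real.log (1 + w / ((r : ℝ) + 1)) + F a n r (a (n - (r + 1)) * w) := rfl

theorem F_mono (a : ℕ → ℝ) (n : ℕ) (ha : ∀ t, 0 ≤ a t) (r : ℕ) :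
    ∀ x y : ℝ, 0 ≤ x → x ≤ y → F a n r x ≤ F a n r y := by
  induction r with
  | zero => intro x y _ _; exact le_rfl
  | succ r ih =>
    intro x y hx hxy
    rw [F_succ, F_succ]
    apply add_le_add
    · apply Real.log_le_log
      · positivity
      · gcongr
    · apply ih
      · exact mul_nonneg (ha _) hx
      · exact mul_le_mul_of_nonneg_left hxy (ha _)

theorem log_concave (c : ℝ) (hc : 0 ≤ c) :
    ConcaveOn ℝ (Set.Ici (0 : ℝ)) (fun w => Real.log (1 + w * c)) := by
  refine ⟨convex_Ici 0, ?_⟩
  intro x hx y hy s t hs ht hst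
  have hx' : (0 : ℝ) ≤ x := hx
  have hy' : (0 : ℝ) ≤ y := hy
  have h1 : (1 + x * c) ∈ Set.Ioi (0 : ℝ) := by
    show (0 : ℝ) < 1 + x * c
    positivity
  have h2 : (1 + y * c) ∈ Set.Ioi (0 : ℝ) := by
    show (0 : ℝ) < 1 + y * c
    positivity
  have := strictConcaveOn_log_Ioi.concaveOn.2 h1 h2 hs ht hst
  simp only [smul_eq_mul] at this ⊢
  have e : s * (1 + x * c) + t * (1 + y * c) = 1 + (s * x + t * y) * c := by
    calc s * (1 + x * c) + t * (1 + y * c) = (s + t) + (s * x + t * y) * c := by ring
      _ = _ := by rw [hst]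
  rwa [e] at this

theorem F_concave (a : ℕ → ℝ) (n : ℕ) (ha : ∀ t, 0 ≤ a t) (r : ℕ) :
    ConcaveOn ℝ (Set.Ici (0 : ℝ)) (F a n r) := by
  induction r with
  | zero =>
    have : F a n 0 = fun _ => (0 : ℝ) := by funext x; rfl
    rw [this]
    exact concaveOn_const 0 (convex_Ici 0)
  | succ r ih =>
    have e : F a n (r + 1) = (fun w => Real.log (1 + w * ((r : ℝ) + 1)⁻¹)) +
        (fun w => F a n r (a (n - (r + 1)) * w)) := by
      funext w
      rw [F_succ]
      rfl
    rw [e]
    apply ConcaveOn.add
    · exact log_concave _ (by positivity)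
    · refine ⟨convex_Ici 0, ?_⟩
      intro x hx y hy s t hs ht hst
      have hx' : (0 : ℝ) ≤ x := hx
      have hy' : (0 : ℝ) ≤ y := hy
      have := ih.2 (show a (n - (r + 1)) * x ∈ Set.Ici (0 : ℝ) from mul_nonneg (ha _) hx')
        (show a (n - (r + 1)) * y ∈ Set.Ici (0 : ℝ) from mul_nonneg (ha _) hy') hs ht hst
      simp only [smul_eq_mul] at this ⊢
      have e : s * (a (n - (r + 1)) * x) + t * (a (n - (r + 1)) * y) =
        a (n - (r + 1)) * (s * x + t * y) := by ring
      rwa [e] at this

section Group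

variable {G X : Type*} [Group G] [MulAction G X]

/-- the pairs of distinct points outside `T` in a common orbit of the pointwise stabiliser -/
def linked (G : Type*) {X : Type*} [Group G] [MulAction G X] (T : Finset X) : Set (X × X) :=
  {p | p.1 ∉ T ∧ p.2 ∉ T ∧ p.1 ≠ p.2 ∧
    p.2 ∈ MulAction.orbit (fixingSubgroup G (T : Set X)) p.1}

theorem orbit_not_mem (T : Finset X) {z y : X} (hz : z ∉ T)
    (hy : y ∈ MulAction.orbit (fixingSubgroup G (T : Set X)) z) : y ∉ T := by
  obtain ⟨g, rfl⟩ := hy
  intro h
  apply hz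
  have hg := g.2
  have h1 : (g : G) • z ∈ T := h
  have h2 : ((g : G)⁻¹) • ((g : G) • z) = (g : G) • z :=
    (mem_fixingSubgroup_iff G).1 (inv_mem hg) _ h1
  rw [inv_smul_smul] at h2
  rw [h2]
  exact h1

variable [Fintype X] [DecidableEq X]

/-- the sum of the orbit lengths over the points outside `T` -/
theorem sum_card_orbit (T : Finset X) :
    ∑ z ∈ Tᶜ, Nat.card (MulAction.orbit (fixingSubgroup G (T : Set X)) z) =
      Nat.card (linked G T) + Tᶜ.card := by
  classical
  have h1 : ∀ z : X, Nat.card (MulAction.orbit (fixingSubgroup G (T : Set X)) z) =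
      (univ.filter (fun y => y ∈ MulAction.orbit (fixingSubgroup G (T : Set X)) z)).card := by
    intro z
    rw [Nat.card_eq_fintype_card, Fintype.card_subtype]
  have h2 : ∀ z ∈ Tᶜ, Nat.card (MulAction.orbit (fixingSubgroup G (T : Set X)) z) =
      (univ.filter (fun y => y ∉ T ∧ z ≠ y ∧
        y ∈ MulAction.orbit (fixingSubgroup G (T : Set X)) z)).card + 1 := by
    intro z hz
    rw [mem_compl] at hz
    rw [h1]
    have : univ.filter (fun y => y ∈ MulAction.orbit (fixingSubgroup G (T : Set X)) z) =
        insert z (univ.filter (fun y => y ∉ T ∧ z ≠ y ∧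
        y ∈ MulAction.orbit (fixingSubgroup G (T : Set X)) z)) := by
      ext y
      simp only [mem_filter, mem_univ, true_and, mem_insert]
      constructor
      · intro hy
        by_cases hyz : y = z
        · exact Or.inl hyz
        · exact Or.inr ⟨orbit_not_mem T hz hy, fun h => hyz h.symm, hy⟩
      · rintro (rfl | ⟨_, _, h⟩)
        · exact MulAction.mem_orbit_self _
        · exact h
    rw [this, card_insert_of_notMem]
    simp
  rw [sum_congr rfl h2, sum_add_distrib, sum_const, smul_eq_mul, mul_one]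
  congr 1
  rw [← card_sigma]
  rw [Nat.card_eq_fintype_card, ← Fintype.card_coe]
  apply Fintype.card_congr
  refine
    { toFun := fun s => ⟨(s.1.1, s.1.2), ?_⟩
      invFun := fun p => ⟨⟨p.1.1, p.1.2⟩, ?_⟩
      left_inv := ?_
      right_inv := ?_ }
  · have := s.2
    rw [mem_sigma, mem_compl, mem_filter] at this
    exact ⟨this.1, this.2.2.1, this.2.2.2.1, this.2.2.2.2⟩
  · rw [mem_sigma, mem_compl, mem_filter]
    exact ⟨p.2.1, mem_univ _, p.2.2.1, p.2.2.2.1, p.2.2.2.2⟩
  · intro s; rfl
  · intro p; rfl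

/-- orbit-stabiliser for pointwise stabilisers -/
theorem card_fixing_insert (T : Finset X) (z : X) :
    Nat.card (fixingSubgroup G (T : Set X)) =
      Nat.card (MulAction.orbit (fixingSubgroup G (T : Set X)) z) *
        Nat.card (fixingSubgroup G ((insert z T : Finset X) : Set X)) := by
  rw [← Nat.card_congr (MulAction.orbitProdStabilizerEquivGroup (fixingSubgroup G (T : Set X)) z),
    Nat.card_prod]
  congr 1
  apply Nat.card_congr
  refine
    { toFun := fun g => ⟨(g.1 : G), ?_⟩
      invFun := fun g => ⟨⟨g.1, ?_⟩, ?_⟩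
      left_inv := ?_
      right_inv := ?_ }
  · rw [mem_fixingSubgroup_iff]
    intro y hy
    rw [coe_insert, Set.mem_insert_iff] at hy
    rcases hy with rfl | hy
    · exact g.2
    · exact (mem_fixingSubgroup_iff G).1 g.1.2 y hy
  · rw [mem_fixingSubgroup_iff]
    intro y hy
    exact (mem_fixingSubgroup_iff G).1 g.2 y (by rw [coe_insert]; exact Set.mem_insert_of_mem z hy)
  · exact (mem_fixingSubgroup_iff G).1 g.2 z (by rw [coe_insert]; exact Set.mem_insert z _)
  · intro g; rfl
  · intro g; rfl

/-- the logarithm of the order of a pointwise stabiliser is bounded by the potential -/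
theorem log_card_fixing_le [FaithfulSMul G X] (w : Finset X → ℝ) (a : ℕ → ℝ) (ha : ∀ t, 0 ≤ a t)
    (hw : ∀ T : Finset X, (Nat.card (linked G T) : ℝ) ≤ w T)
    (hrec : ∀ T : Finset X, T.card < Fintype.card X → ∑ z ∈ Tᶜ, w (insert z T) ≤
      ((Fintype.card X : ℝ) - T.card) * (a T.card * w T)) (r : ℕ) :
    ∀ T : Finset X, T.card + r = Fintype.card X →
      Real.log (Nat.card (fixingSubgroup G (T : Set X))) ≤ F a (Fintype.card X) r (w T) := by
  have : Finite G := Finite.of_injective (MulAction.toPermHom G X) MulAction.toPerm_injective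
  have hw0 : ∀ T, 0 ≤ w T := fun T => (Nat.cast_nonneg _).trans (hw T)
  induction r with
  | zero =>
    intro T hT
    have hT' : T = univ := by
      rw [← card_eq_iff_eq_univ]; omega
    rw [F_zero, hT']
    have : Nat.card (fixingSubgroup G ((univ : Finset X) : Set X)) = 1 := by
      rw [Nat.card_eq_one_iff_unique]
      refine ⟨⟨?_⟩, ⟨1⟩⟩
      intro g h
      apply Subtype.ext
      apply eq_of_smul_eq_smul (α := X)
      intro x
      rw [(mem_fixingSubgroup_iff G).1 g.2 x (by simp), (mem_fixingSubgroup_iff G).1 h.2 x (by simp)]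
    rw [this]
    simp
  | succ r ih =>
    intro T hT
    have hTc : Tᶜ.card = r + 1 := by rw [card_compl]; omega
    have hTc' : (Tᶜ.card : ℝ) = (r : ℝ) + 1 := by rw [hTc]; push_cast; ring
    have hr1 : (0 : ℝ) < (r : ℝ) + 1 := by positivity
    have hn : ((Fintype.card X : ℝ) - T.card) = (r : ℝ) + 1 := by
      rw [← hT]; push_cast; ring
    have hTn : Fintype.card X - (r + 1) = T.card := by omega
    -- logarithm of the orbit lengths
    have hpos : ∀ z : X, 0 < Nat.card (MulAction.orbit (fixingSubgroup G (T : Set X)) z) := by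
      intro z
      have : Nonempty (MulAction.orbit (fixingSubgroup G (T : Set X)) z) :=
        ⟨⟨z, MulAction.mem_orbit_self z⟩⟩
      exact Nat.card_pos
    have hsplit : ∀ z ∈ Tᶜ, Real.log (Nat.card (fixingSubgroup G (T : Set X))) ≤
        Real.log (Nat.card (MulAction.orbit (fixingSubgroup G (T : Set X)) z)) +
          F a (Fintype.card X) r (w (insert z T)) := by
      intro z hz
      rw [card_fixing_insert T z, Nat.cast_mul, Real.log_mul]
      · have := ih (insert z T) (by
          rw [card_insert_of_notMem (mem_compl.1 hz)]; omega)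
        linarith
      · exact_mod_cast (hpos z).ne'
      · exact_mod_cast (Nat.card_pos (α := fixingSubgroup G ((insert z T : Finset X) : Set X))).ne'
    have hsum : ((r : ℝ) + 1) * Real.log (Nat.card (fixingSubgroup G (T : Set X))) ≤
        ∑ z ∈ Tᶜ, Real.log (Nat.card (MulAction.orbit (fixingSubgroup G (T : Set X)) z)) +
          ∑ z ∈ Tᶜ, F a (Fintype.card X) r (w (insert z T)) := by
      rw [← sum_add_distrib, ← hTc', ← nsmul_eq_mul, ← sum_const]
      exact sum_le_sum hsplit
    -- Jensen for the orbit lengths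
    have hJ1 : ∑ z ∈ Tᶜ, ((r : ℝ) + 1)⁻¹ *
        Real.log (Nat.card (MulAction.orbit (fixingSubgroup G (T : Set X)) z)) ≤
        Real.log (1 + w T / ((r : ℝ) + 1)) := by
      have h := strictConcaveOn_log_Ioi.concaveOn.le_map_sum (t := Tᶜ)
        (w := fun _ => ((r : ℝ) + 1)⁻¹)
        (p := fun z => (Nat.card (MulAction.orbit (fixingSubgroup G (T : Set X)) z) : ℝ))
        (fun _ _ => by positivity) (by
          rw [sum_const, nsmul_eq_mul, hTc']
          exact mul_inv_cancel₀ hr1.ne') (fun z _ => by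
          show (0 : ℝ) < _
          exact_mod_cast hpos z)
      simp only [smul_eq_mul] at h
      refine h.trans (Real.log_le_log ?_ ?_)
      · rw [← mul_sum]
        apply mul_pos (inv_pos.2 hr1)
        apply sum_pos
        · intro z _
          exact_mod_cast hpos z
        · rw [← card_pos, hTc]; omega
      · rw [← mul_sum, ← Nat.cast_sum, sum_card_orbit, Nat.cast_add, hTc']
        rw [mul_add, inv_mul_cancel₀ hr1.ne', add_comm, inv_mul_eq_div]
        gcongr
        exact hw T
    have hJ2 : ∑ z ∈ Tᶜ, ((r : ℝ) + 1)⁻¹ * F a (Fintype.card X) r (w (insert z T)) ≤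
        F a (Fintype.card X) r (a T.card * w T) := by
      have h := (F_concave a (Fintype.card X) ha r).le_map_sum (t := Tᶜ)
        (w := fun _ => ((r : ℝ) + 1)⁻¹) (p := fun z => w (insert z T))
        (fun _ _ => by positivity) (by
          rw [sum_const, nsmul_eq_mul, hTc']
          exact mul_inv_cancel₀ hr1.ne') (fun z _ => hw0 _)
      simp only [smul_eq_mul] at h
      refine h.trans (F_mono a _ ha r _ _ ?_ ?_)
      · apply sum_nonneg
        intro z _
        exact mul_nonneg (by positivity) (hw0 _)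
      · rw [← mul_sum, inv_mul_le_iff₀ hr1]
        have := hrec T (by omega)
        rwa [hn] at this
    rw [F_succ, hTn]
    have h3 : Real.log (Nat.card (fixingSubgroup G (T : Set X))) =
        ((r : ℝ) + 1)⁻¹ * (((r : ℝ) + 1) * Real.log (Nat.card (fixingSubgroup G (T : Set X)))) := by
      rw [← mul_assoc, inv_mul_cancel₀ hr1.ne', one_mul]
    rw [h3]
    calc ((r : ℝ) + 1)⁻¹ * (((r : ℝ) + 1) * Real.log (Nat.card (fixingSubgroup G (T : Set X))))
        ≤ ((r : ℝ) + 1)⁻¹ * (∑ z ∈ Tᶜ,
            Real.log (Nat.card (MulAction.orbit (fixingSubgroup G (T : Set X)) z)) +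
          ∑ z ∈ Tᶜ, F a (Fintype.card X) r (w (insert z T))) := by gcongr
      _ = ∑ z ∈ Tᶜ, ((r : ℝ) + 1)⁻¹ *
            Real.log (Nat.card (MulAction.orbit (fixingSubgroup G (T : Set X)) z)) +
          ∑ z ∈ Tᶜ, ((r : ℝ) + 1)⁻¹ * F a (Fintype.card X) r (w (insert z T)) := by
          rw [mul_add, mul_sum, mul_sum]
      _ ≤ _ := add_le_add hJ1 hJ2

/-- The potential lemma: if `w T` bounds the number of ordered pairs of distinct points outside
`T` lying in a common orbit of the pointwise stabiliser of `T`, and the average of `w (T + z)`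
over the points `z` outside `T` is at most `a |T| * w T`, then the order of the group is at most
`∏ (1 + W t / (n - t))` where `W 0 = w ∅` and `W (t + 1) = a t * W t`. -/
theorem card_le_prod [FaithfulSMul G X] (w : Finset X → ℝ) (a W : ℕ → ℝ) (ha : ∀ t, 0 ≤ a t)
    (hw : ∀ T : Finset X, (Nat.card (linked G T) : ℝ) ≤ w T)
    (hrec : ∀ T : Finset X, T.card < Fintype.card X → ∑ z ∈ Tᶜ, w (insert z T) ≤
      ((Fintype.card X : ℝ) - T.card) * (a T.card * w T))
    (hW0 : w ∅ ≤ W 0) (hW : ∀ t, W (t + 1) = a t * W t) :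
    (Nat.card G : ℝ) ≤ ∏ t ∈ range (Fintype.card X), (1 + W t / ((Fintype.card X : ℝ) - t)) := by
  have : Finite G := Finite.of_injective (MulAction.toPermHom G X) MulAction.toPerm_injective
  have hw0 : ∀ T, 0 ≤ w T := fun T => (Nat.cast_nonneg _).trans (hw T)
  have hWpos : ∀ t, 0 ≤ W t := by
    intro t
    induction t with
    | zero => exact (hw0 ∅).trans hW0
    | succ t ih => rw [hW]; exact mul_nonneg (ha t) ih
  -- the product form of `F`
  have hF : ∀ r, r ≤ Fintype.card X → F a (Fintype.card X) r (W (Fintype.card X - r)) =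
      Real.log (∏ t ∈ Ico (Fintype.card X - r) (Fintype.card X),
        (1 + W t / ((Fintype.card X : ℝ) - t))) := by
    intro r
    induction r with
    | zero => intro _; simp [F_zero]
    | succ r ih =>
      intro hr
      have e : Fintype.card X - (r + 1) + 1 = Fintype.card X - r := by omega
      rw [F_succ, ← hW, e, ih (by omega),
        prod_eq_prod_Ico_succ_bot (show Fintype.card X - (r + 1) < Fintype.card X by omega), e,
        Real.log_mul]
      · have : ((Fintype.card X : ℝ) - ((Fintype.card X - (r + 1) : ℕ) : ℝ)) = (r : ℝ) + 1 := by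
          rw [Nat.cast_sub hr]; push_cast; ring
        rw [this]
      · have h1 : (0 : ℝ) ≤ (Fintype.card X : ℝ) - ((Fintype.card X - (r + 1) : ℕ) : ℝ) := by
          rw [Nat.cast_sub hr]; push_cast; linarith [(Nat.cast_nonneg r : (0 : ℝ) ≤ r)]
        have h2 := div_nonneg (hWpos (Fintype.card X - (r + 1))) h1
        linarith
      · apply (prod_pos ?_).ne'
        intro t ht
        rw [mem_Ico] at ht
        have h1 : (0 : ℝ) ≤ (Fintype.card X : ℝ) - t := by
          have : (t : ℝ) ≤ (Fintype.card X : ℝ) := by exact_mod_cast ht.2.le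
          linarith
        have h2 := div_nonneg (hWpos t) h1
        linarith
  have hG : Nat.card (fixingSubgroup G ((∅ : Finset X) : Set X)) = Nat.card G := by
    have : fixingSubgroup G ((∅ : Finset X) : Set X) = ⊤ := by
      rw [eq_top_iff]
      intro g _
      rw [mem_fixingSubgroup_iff]
      intro y hy
      simp at hy
    rw [this]
    exact Nat.card_congr Subgroup.topEquiv.toEquiv
  have h1 := log_card_fixing_le (G := G) w a ha hw hrec (Fintype.card X) ∅ (by simp)
  rw [hG] at h1
  have h2 := h1.trans (F_mono a (Fintype.card X) ha (Fintype.card X) _ _ (hw0 ∅) hW0)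
  have h3 := hF (Fintype.card X) le_rfl
  rw [Nat.sub_self] at h3
  rw [h3, ← range_eq_Ico] at h2
  have hprod : (0 : ℝ) < ∏ t ∈ range (Fintype.card X), (1 + W t / ((Fintype.card X : ℝ) - t)) := by
    apply prod_pos
    intro t ht
    rw [mem_range] at ht
    have h1 : (0 : ℝ) ≤ (Fintype.card X : ℝ) - t := by
      have : (t : ℝ) ≤ (Fintype.card X : ℝ) := by exact_mod_cast ht.le
      linarith
    have h2 := div_nonneg (hWpos t) h1
    linarith
  exact (Real.log_le_log_iff (by exact_mod_cast Nat.card_pos) hprod).1 h2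

end Group

end Cfsg.Agent.PermutationGroups.PSPotential
end

-- part: PermutationGroups/OrderBound/Potential
section
/-! (P): the potential lemma in the normalisation of the skeleton. -/

set_option autoImplicit false

namespace Cfsg.Agent.PermutationGroups.OrderBound.Potential

open Cfsg.Agent.PermutationGroups.OrderBound.Defs MulAction

theorem card_le_prod {G X : Type*} [Group G] [MulAction G X] [FaithfulSMul G X] [Fintype X]
    [DecidableEq X] (w : Finset X → ℝ) (A : ℕ → ℝ) (hA : ∀ t, 0 ≤ A t)
    (hu : ∀ T : Finset X, (Nat.card {p : X × X // p.1 ≠ p.2 ∧ p.1 ∉ T ∧ p.2 ∉ T ∧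
      ∃ g ∈ fixingSubgroup G (T : Set X), g • p.1 = p.2} : ℝ) ≤ w T)
    (hw : ∀ T : Finset X, ∑ z ∈ Tᶜ, w (insert z T) ≤ A T.card * w T) :
    (Nat.card G : ℝ) ≤ ∏ t ∈ Finset.range (Fintype.card X),
      (1 + vseq (Fintype.card X) (w ∅ / Fintype.card X) A t) := by
  set n := Fintype.card X with hn
  set a : ℕ → ℝ := fun t => if t < n then A t / ((n : ℝ) - t) else 0 with ha
  set W : ℕ → ℝ := fun t => w ∅ * ∏ i ∈ Finset.range t, a i with hW
  have hnt : ∀ t, t < n → (0 : ℝ) < (n : ℝ) - t := by
    intro t ht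
    have : (t : ℝ) < (n : ℝ) := by exact_mod_cast ht
    linarith
  have ha0 : ∀ t, 0 ≤ a t := by
    intro t
    show 0 ≤ (if t < n then A t / ((n : ℝ) - t) else 0)
    split_ifs with h
    · exact div_nonneg (hA t) (hnt t h).le
    · exact le_rfl
  have hWs : ∀ t, W (t + 1) = a t * W t := by
    intro t
    show w ∅ * ∏ i ∈ Finset.range (t + 1), a i = a t * (w ∅ * ∏ i ∈ Finset.range t, a i)
    rw [Finset.prod_range_succ]
    ring
  have key := PSPotential.card_le_prod (G := G) w a W ha0 (by
      intro T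
      refine le_trans (le_of_eq ?_) (hu T)
      congr 1
      apply Nat.card_congr
      apply Equiv.subtypeEquivRight
      intro p
      constructor
      · rintro ⟨h1, h2, h3, g, hg⟩
        exact ⟨h3, h1, h2, g, g.2, hg⟩
      · rintro ⟨h3, h1, h2, g, hg, hgp⟩
        exact ⟨h1, h2, h3, ⟨g, hg⟩, hgp⟩) (by
      intro T hT
      refine (hw T).trans (le_of_eq ?_)
      have h1 : a T.card = A T.card / ((n : ℝ) - T.card) := if_pos hT
      rw [h1, ← hn, ← mul_assoc, mul_div_cancel₀ _ (hnt _ hT).ne']) (by
      show w ∅ ≤ w ∅ * ∏ i ∈ Finset.range 0, a i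
      rw [Finset.prod_range_zero, mul_one]) hWs
  refine key.trans (le_of_eq ?_)
  apply Finset.prod_congr rfl
  intro t ht
  rw [Finset.mem_range, ← hn] at ht
  congr 1
  rw [← hn]
  induction t with
  | zero =>
    rw [vseq_zero]
    have h0 : W 0 = w ∅ := by
      show w ∅ * ∏ i ∈ Finset.range 0, a i = w ∅
      rw [Finset.prod_range_zero, mul_one]
    rw [h0, Nat.cast_zero, sub_zero]
  | succ t ih =>
    have ih' := ih (by omega)
    have h0 := (hnt t (by omega)).ne'
    have h1 : a t = A t / ((n : ℝ) - t) := if_pos (by omega)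
    have h2 : ((n - t - 1 : ℕ) : ℝ) = (n : ℝ) - ((t + 1 : ℕ) : ℝ) := by
      rw [Nat.sub_sub, Nat.cast_sub (by omega)]
    rw [vseq_succ, ← ih', hWs, h1, h2]
    field_simp

end Cfsg.Agent.PermutationGroups.OrderBound.Potential
end

-- part: PermutationGroups/OrderBound/Uniprim
section
set_option autoImplicit false

namespace Cfsg.Agent.PermutationGroups.OrderBound.Uniprim

open Cfsg.Agent.PermutationGroups.OrderBound.Defs MulAction

/-- `dmin m` is minimal with `m - 1 ≤ d (d - 1)`. -/
theorem dmin_le (m D : ℕ) (h : m - 1 ≤ D * (D - 1)) (hD : 1 ≤ D) : dmin m ≤ D := by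
  unfold dmin
  have h1 : Nat.sqrt (4 * m - 4) < 2 * D - 1 := by
    rw [Nat.sqrt_lt']
    obtain ⟨E, rfl⟩ : ∃ E, D = E + 1 := ⟨D - 1, by omega⟩
    have h2 : 2 * (E + 1) - 1 = 2 * E + 1 := by omega
    rw [h2]
    have h3 : 4 * m - 4 ≤ 4 * ((E + 1) * E) := by
      have : E + 1 - 1 = E := by omega
      rw [this] at h
      omega
    nlinarith
  omega

open Classical in
/-- The set of pairs which are not distinguished by `T`. -/
noncomputable def W (G : Type*) {X : Type*} [Group G] [MulAction G X] [Fintype X] (T : Finset X) :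
    Finset (X × X) :=
  Finset.univ.filter (fun p : X × X => p.1 ≠ p.2 ∧ ∀ z ∈ T, z ∉ disting G p.1 p.2)

theorem card_le_of_disting {G X : Type*} [Group G] [MulAction G X] [FaithfulSMul G X]
    [Fintype X] (d : ℕ) (hd : ∀ x y : X, x ≠ y → d ≤ (disting G x y).ncard)
    (hne : 0 < Fintype.card X) :
    (Nat.card G : ℝ) ≤ UB (Fintype.card X) d := by
  classical
  have hmem : ∀ (T : Finset X) (p : X × X), p ∈ W G T ↔
      p.1 ≠ p.2 ∧ ∀ z ∈ T, z ∉ disting G p.1 p.2 := by
    intro T p
    unfold W
    simp
  have h0 : ((W G (∅ : Finset X)).card : ℝ) / Fintype.card X = (Fintype.card X : ℝ) - 1 := by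
    have : W G (∅ : Finset X) = (Finset.univ : Finset X).offDiag := by
      ext p
      rw [hmem]
      simp
    rw [this, Finset.offDiag_card, Finset.card_univ, Nat.cast_sub (Nat.le_mul_self _)]
    push_cast
    field_simp
  have key := Potential.card_le_prod (G := G) (X := X) (fun T => ((W G T).card : ℝ))
    (fun t => ((Fintype.card X - t - d : ℕ) : ℝ)) (fun t => Nat.cast_nonneg _) ?_ ?_
  · rw [h0] at key
    exact key
  · intro T
    rw [Nat.card_eq_fintype_card, Fintype.card_subtype]
    exact_mod_cast Finset.card_le_card (by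
      intro p hp
      rw [Finset.mem_filter] at hp
      obtain ⟨-, h1, -, -, g, hg, hgp⟩ := hp
      rw [hmem]
      refine ⟨h1, fun z hz hzd => hzd ⟨g, ?_, hgp⟩⟩
      exact (mem_fixingSubgroup_iff G).1 hg z (by simpa using hz))
  · intro T
    have h1 : ∀ z ∈ Tᶜ, (W G (insert z T)).card
        = ∑ p ∈ W G T, if z ∉ disting G p.1 p.2 then 1 else 0 := by
      intro z _
      rw [← Finset.card_filter]
      congr 1
      ext p
      rw [Finset.mem_filter, hmem, hmem]
      simp only [Finset.mem_insert, forall_eq_or_imp]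
      tauto
    have h2 : ∑ z ∈ Tᶜ, (W G (insert z T)).card ≤ (Fintype.card X - T.card - d) * (W G T).card := by
      rw [Finset.sum_congr rfl h1, Finset.sum_comm, mul_comm, ← smul_eq_mul]
      apply Finset.sum_le_card_nsmul
      intro p hp
      rw [hmem] at hp
      rw [← Finset.card_filter]
      have h3 := hd p.1 p.2 hp.1
      have h4 : (disting G p.1 p.2).ncard = (Finset.univ.filter (fun z => z ∈ disting G p.1 p.2)).card := by
        rw [Set.ncard_eq_toFinset_card' (disting G p.1 p.2)]
        congr 1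
        ext z
        simp
      have h5 : (Tᶜ.filter (fun z => z ∉ disting G p.1 p.2))
          = (T ∪ Finset.univ.filter (fun z => z ∈ disting G p.1 p.2))ᶜ := by
        ext z
        simp
      have h6 : Disjoint T (Finset.univ.filter (fun z => z ∈ disting G p.1 p.2)) := by
        rw [Finset.disjoint_left]
        intro z hz hz2
        rw [Finset.mem_filter] at hz2
        exact hp.2 z hz hz2.2
      rw [h5, Finset.card_compl, Finset.card_union_of_disjoint h6]
      omega
    exact_mod_cast h2

/-- (U) the bound for primitive groups which are not 2-transitive. -/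
theorem card_le_UB {G X : Type*} [Group G] [MulAction G X] [FaithfulSMul G X]
    [Fintype X] (hprim : IsPreprimitive G X) (h2 : ¬ IsMultiplyPretransitive G X 2) :
    (Nat.card G : ℝ) ≤ UB (Fintype.card X) (dmin (Fintype.card X)) := by
  classical
  have hne : 2 ≤ Fintype.card X := by
    by_contra hlt
    apply h2
    have : IsEmpty (Fin 2 ↪ X) := by
      rw [← not_nonempty_iff, Function.Embedding.nonempty_iff_card_le]
      simpa using hlt
    exact ⟨fun a => (this.false a).elim⟩
  apply card_le_of_disting _ _ (by omega)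
  intro x y hxy
  have h := Disting.disting_bound hprim h2 hxy
  rw [Nat.card_eq_fintype_card] at h
  apply dmin_le _ _ h
  by_contra hlt
  have : (disting G x y).ncard = 0 := by omega
  rw [this] at h
  omega

end Cfsg.Agent.PermutationGroups.OrderBound.Uniprim
end

-- part: PermutationGroups/OrderBound/ImprimStab
section
/-! (I): 2-transitive groups with imprimitive point stabilisers. -/

set_option autoImplicit false

namespace Cfsg.Agent.PermutationGroups.OrderBound.ImprimStab

open MulAction Cfsg.Agent.PermutationGroups.OrderBound.Defs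

/-- A `G`-equivariant family of equivalence relations `r a` on `X ∖ {a}` with classes of size
`b`, such that each pair of distinct points is related for exactly `b - 1` points `a`. -/
structure Family (G : Type*) {X : Type*} [Group G] [MulAction G X] (b : ℕ) (r : X → X → X → Prop) :
    Prop where
  equiv : ∀ (g : G) (z x y : X), r (g • z) (g • x) (g • y) ↔ r z x y
  ne : ∀ z x y : X, r z x y → x ≠ z
  symm : ∀ z x y : X, r z x y → r z y x
  refl : ∀ z x : X, x ≠ z → r z x x
  trans : ∀ z x y w : X, r z x y → r z y w → r z x w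
  card_class : ∀ z x : X, x ≠ z → {y | r z x y}.ncard = b
  card_bad : ∀ x y : X, x ≠ y → {z | r z x y}.ncard = b - 1

section Exists

variable {G X : Type*} [Group G] [MulAction G X] [Fintype X]

theorem exists_block (a : X)
    (htr : IsPretransitive (stabilizer G a) (SubMulAction.ofStabilizer G a))
    (himp : ¬ IsPreprimitive (stabilizer G a) (SubMulAction.ofStabilizer G a)) :
    ∃ B : Set X, a ∉ B ∧ (∀ k : G, k • a = a → ∀ y ∈ B, k • y ∈ B → ∀ w ∈ B, k • w ∈ B) ∧
      2 ≤ B.ncard ∧ 2 * B.ncard ≤ Fintype.card X - 1 ∧ B.ncard ∣ Fintype.card X - 1 := by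
  classical
  obtain ⟨B, hB, hBns, hBu⟩ : ∃ B : Set (SubMulAction.ofStabilizer G a),
      IsBlock (stabilizer G a) B ∧ ¬ B.Subsingleton ∧ B ≠ Set.univ := by
    by_contra hcon
    push Not at hcon
    apply himp
    refine { isTrivialBlock_of_isBlock := ?_ }
    intro B hB
    by_cases h1 : B.Subsingleton
    · exact Or.inl h1
    · exact Or.inr (hcon B hB (Set.not_subsingleton_iff.mp h1))
  rw [Set.not_subsingleton_iff] at hBns
  have hfin : Finite (SubMulAction.ofStabilizer G a) := Subtype.finite
  have hcard : (Subtype.val '' B : Set X).ncard = B.ncard :=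
    Set.ncard_image_of_injective _ Subtype.val_injective
  have h1lt : 1 < B.ncard := (Set.one_lt_ncard).mpr hBns
  have hdvd : B.ncard ∣ Fintype.card X - 1 := by
    have h1 := hB.ncard_dvd_card hBns.nonempty
    rwa [SubMulAction.nat_card_ofStabilizer_eq, Nat.card_eq_fintype_card] at h1
  have hlt : B.ncard < Fintype.card X - 1 := by
    rw [← Nat.card_eq_fintype_card, ← SubMulAction.nat_card_ofStabilizer_eq G a]
    have h1 : B.ncard ≤ Nat.card (SubMulAction.ofStabilizer G a) := by
      rw [← Set.ncard_univ]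
      exact Set.ncard_le_ncard (Set.subset_univ _) Set.finite_univ
    rcases Nat.lt_or_ge B.ncard (Nat.card (SubMulAction.ofStabilizer G a)) with h | h
    · exact h
    · exfalso
      apply hBu
      rw [Set.eq_univ_iff_ncard]
      exact le_antisymm h1 h
  refine ⟨Subtype.val '' B, SubMulAction.notMem_val_image G B, ?_, ?_, ?_, ?_⟩
  · rintro k hk _ ⟨y, hy, rfl⟩ ⟨y', hy', hyy'⟩ _ ⟨w, hw, rfl⟩
    have hks : k ∈ stabilizer G a := hk
    have h1 : (⟨k, hks⟩ : stabilizer G a) • y ∈ B := by
      have : (⟨k, hks⟩ : stabilizer G a) • y = y' := Subtype.ext hyy'.symm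
      rw [this]; exact hy'
    have h2 := hB.smul_eq_of_mem hy h1
    refine ⟨(⟨k, hks⟩ : stabilizer G a) • w, ?_, rfl⟩
    rw [← h2]
    exact Set.smul_mem_smul_set hw
  · rw [hcard]; omega
  · rw [hcard]
    obtain ⟨k, hk⟩ := hdvd
    rw [hk] at hlt ⊢
    have : 1 < k := by
      by_contra hcon
      have : k ≤ 1 := by omega
      have := Nat.mul_le_mul_left B.ncard this
      omega
    have := Nat.mul_le_mul_left B.ncard this
    omega
  · rw [hcard]; exact hdvd

open Classical in
theorem exists_family
    (h2 : ∀ a b c d : X, a ≠ b → c ≠ d → ∃ g : G, g • a = c ∧ g • b = d) (a : X)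
    (htr : IsPretransitive (stabilizer G a) (SubMulAction.ofStabilizer G a))
    (himp : ¬ IsPreprimitive (stabilizer G a) (SubMulAction.ofStabilizer G a)) :
    ∃ (b : ℕ) (r : X → X → X → Prop), Family G b r ∧ 2 ≤ b ∧ 2 * b ≤ Fintype.card X - 1 ∧
      b ∣ Fintype.card X - 1 := by
  obtain ⟨B, haB, hblk, hB2, hB2b, hBd⟩ := exists_block a htr himp
  obtain ⟨b0, hb0⟩ : B.Nonempty := by
    rw [← Set.ncard_pos (Set.toFinite _)]; omega
  have hb0a : b0 ≠ a := fun h => haB (h ▸ hb0)
  set r : X → X → X → Prop := fun z x y => ∃ g : G, g • a = z ∧ g⁻¹ • x ∈ B ∧ g⁻¹ • y ∈ B with hr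
  -- transfer between two representatives
  have htrans : ∀ (g h : G) (y : X), g • a = h • a → g⁻¹ • y ∈ B → h⁻¹ • y ∈ B →
      ∀ w, g⁻¹ • w ∈ B → h⁻¹ • w ∈ B := by
    intro g h y hgh hy1 hy2 w hw
    have h1 : (h⁻¹ * g) • a = a := by rw [mul_smul, hgh, inv_smul_smul]
    have h3 := hblk (h⁻¹ * g) h1 (g⁻¹ • y) hy1 (by
      rw [mul_smul, smul_inv_smul]; exact hy2) (g⁻¹ • w) hw
    rwa [mul_smul, smul_inv_smul] at h3
  have requiv : ∀ (g : G) (z x y : X), r (g • z) (g • x) (g • y) ↔ r z x y := by
    intro g z x y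
    constructor
    · rintro ⟨k, h1, h3, h4⟩
      refine ⟨g⁻¹ * k, ?_, ?_, ?_⟩
      · rw [mul_smul, h1, inv_smul_smul]
      · rw [mul_inv_rev, inv_inv, mul_smul]; exact h3
      · rw [mul_inv_rev, inv_inv, mul_smul]; exact h4
    · rintro ⟨k, h1, h3, h4⟩
      refine ⟨g * k, ?_, ?_, ?_⟩
      · rw [mul_smul, h1]
      · rw [mul_inv_rev, mul_smul, inv_smul_smul]; exact h3
      · rw [mul_inv_rev, mul_smul, inv_smul_smul]; exact h4
  have rne : ∀ z x y : X, r z x y → x ≠ z := by
    rintro z x y ⟨g, h1, h3, -⟩ rfl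
    apply haB
    rw [← h1, inv_smul_smul] at h3
    exact h3
  have rsymm : ∀ z x y : X, r z x y → r z y x := by
    rintro z x y ⟨g, h1, h3, h4⟩
    exact ⟨g, h1, h4, h3⟩
  have rrefl : ∀ z x : X, x ≠ z → r z x x := by
    intro z x hxz
    obtain ⟨g, h1, h3⟩ := h2 a b0 z x hb0a.symm hxz.symm
    have : g⁻¹ • x ∈ B := by rw [← h3, inv_smul_smul]; exact hb0
    exact ⟨g, h1, this, this⟩
  have rtrans : ∀ z x y w : X, r z x y → r z y w → r z x w := by
    rintro z x y w ⟨g, h1, h3, h4⟩ ⟨k, h5, h6, h7⟩
    exact ⟨k, h5, htrans g k y (h1.trans h5.symm) h4 h6 x h3, h7⟩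
  have rclass : ∀ z x : X, x ≠ z → {y | r z x y}.ncard = B.ncard := by
    intro z x hxz
    obtain ⟨g, h1, h3, -⟩ := rrefl z x hxz
    have : {y | r z x y} = (fun y => g • y) '' B := by
      ext y
      constructor
      · rintro ⟨k, h5, h6, h7⟩
        exact ⟨g⁻¹ • y, htrans k g x (h5.trans h1.symm) h6 h3 y h7, smul_inv_smul _ _⟩
      · rintro ⟨y', hy', rfl⟩
        exact ⟨g, h1, h3, by change g⁻¹ • g • y' ∈ B; rw [inv_smul_smul]; exact hy'⟩
    rw [this, Set.ncard_image_of_injective _ (MulAction.injective g)]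
  -- counting the bad points
  have hbadinv : ∀ (g : G) (x y : X), {z | r z (g • x) (g • y)}.ncard = {z | r z x y}.ncard := by
    intro g x y
    have : {z | r z (g • x) (g • y)} = (fun z => g • z) '' {z | r z x y} := by
      ext z
      constructor
      · intro hz
        refine ⟨g⁻¹ • z, ?_, smul_inv_smul _ _⟩
        change r (g⁻¹ • z) x y
        rw [← requiv g, smul_inv_smul]
        exact hz
      · rintro ⟨z', hz', rfl⟩
        exact (requiv g z' x y).mpr hz'
    rw [this, Set.ncard_image_of_injective _ (MulAction.injective g)]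
  have hbadconst : ∀ x y x' y' : X, x ≠ y → x' ≠ y' →
      {z | r z x y}.ncard = {z | r z x' y'}.ncard := by
    intro x y x' y' hxy hxy'
    obtain ⟨g, h1, h3⟩ := h2 x y x' y' hxy hxy'
    rw [← hbadinv g x y, h1, h3]
  have hncard : ∀ P : X → Prop, {z | P z}.ncard = (Finset.univ.filter P).card := by
    intro P
    rw [← Set.ncard_coe_finset]
    congr 1
    ext z
    simp
  have hbad : ∀ x y : X, x ≠ y → {z | r z x y}.ncard = B.ncard - 1 := by
    intro x y hxy
    set β := {z | r z x y}.ncard with hβ
    set R : Finset (X × X) := Finset.univ.filter (fun p => p.1 ≠ p.2) with hR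
    have hRcard : R.card = Fintype.card X * (Fintype.card X - 1) := by
      rw [hR, Finset.card_filter, Fintype.sum_prod_type]
      have : ∀ u : X, (∑ w : X, if u ≠ w then 1 else 0) = Fintype.card X - 1 := by
        intro u
        rw [← Finset.card_filter, Finset.filter_ne, Finset.card_erase_of_mem (Finset.mem_univ _),
          Finset.card_univ]
      simp only
      rw [Finset.sum_congr rfl (fun u _ => this u), Finset.sum_const, Finset.card_univ, smul_eq_mul]
    have e1 : ∑ p ∈ R, {z | r z p.1 p.2}.ncard = R.card * β := by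
      rw [← smul_eq_mul, ← Finset.sum_const]
      apply Finset.sum_congr rfl
      intro p hp
      exact hbadconst _ _ _ _ (Finset.mem_filter.mp hp).2 hxy
    have e2 : ∑ p ∈ R, {z | r z p.1 p.2}.ncard =
        ∑ z : X, (R.filter (fun p => r z p.1 p.2)).card := by
      simp only [hncard, Finset.card_filter]
      exact Finset.sum_comm
    have e3 : ∀ z : X, (R.filter (fun p => r z p.1 p.2)).card =
        (Fintype.card X - 1) * (B.ncard - 1) := by
      intro z
      rw [hR, Finset.filter_filter, Finset.card_filter, Fintype.sum_prod_type]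
      have hz0 : (∑ w : X, if (z ≠ w ∧ r z z w) then 1 else 0) = 0 := by
        apply Finset.sum_eq_zero
        intro w _
        rw [if_neg]
        rintro ⟨-, h⟩
        exact rne z z w h rfl
      have hz1 : ∀ u ∈ Finset.univ.erase z, (∑ w : X, if (u ≠ w ∧ r z u w) then 1 else 0) =
          B.ncard - 1 := by
        intro u hu
        have huz : u ≠ z := Finset.ne_of_mem_erase hu
        rw [← Finset.card_filter]
        have : Finset.univ.filter (fun w => u ≠ w ∧ r z u w) =
            (Finset.univ.filter (fun w => r z u w)).erase u := by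
          ext w
          simp only [Finset.mem_filter, Finset.mem_univ, true_and, Finset.mem_erase]
          constructor
          · rintro ⟨h1, h3⟩; exact ⟨h1.symm, h3⟩
          · rintro ⟨h1, h3⟩; exact ⟨h1.symm, h3⟩
        rw [this, Finset.card_erase_of_mem, ← hncard, rclass z u huz]
        rw [Finset.mem_filter]
        exact ⟨Finset.mem_univ _, rrefl z u huz⟩
      simp only
      rw [← Finset.add_sum_erase _ _ (Finset.mem_univ z), hz0, zero_add,
        Finset.sum_congr rfl hz1, Finset.sum_const, Finset.card_erase_of_mem (Finset.mem_univ _),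
        Finset.card_univ, smul_eq_mul]
    rw [e1, Finset.sum_congr rfl (fun z _ => e3 z), Finset.sum_const, Finset.card_univ,
      smul_eq_mul, hRcard, ← mul_assoc] at e2
    have hXpos : 0 < Fintype.card X * (Fintype.card X - 1) := by
      have h1 : 0 < Fintype.card X - 1 := by omega
      have h3 : 0 < Fintype.card X := by omega
      exact Nat.mul_pos h3 h1
    exact Nat.eq_of_mul_eq_mul_left hXpos e2
  exact ⟨B.ncard, r, ⟨requiv, rne, rsymm, rrefl, rtrans, rclass, hbad⟩, hB2, hB2b, hBd⟩

end Exists

section Weights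

variable {G X : Type*} [Group G] [MulAction G X] [Fintype X] [DecidableEq X]

open Classical in
/-- pairs of points not separated by `T`. -/
noncomputable def Wset (r : X → X → X → Prop) (T : Finset X) : Finset (X × X) :=
  Finset.univ.filter (fun p => p.1 ≠ p.2 ∧ p.1 ∉ T ∧ p.2 ∉ T ∧
    ∀ a ∈ T, ∀ z ∈ T, (r a p.1 z ↔ r a p.2 z))

open Classical in
theorem mem_Wset {r : X → X → X → Prop} {T : Finset X} {p : X × X} :
    p ∈ Wset r T ↔ p.1 ≠ p.2 ∧ p.1 ∉ T ∧ p.2 ∉ T ∧ ∀ a ∈ T, ∀ z ∈ T, (r a p.1 z ↔ r a p.2 z) := by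
  unfold Wset
  rw [Finset.mem_filter]
  simp only [Finset.mem_univ, true_and]

theorem Wset_insert {r : X → X → X → Prop} {T : Finset X} {z : X} :
    Wset r (insert z T) ⊆ Wset r T := by
  intro p hp
  rw [mem_Wset] at hp ⊢
  obtain ⟨h1, h2, h3, h4⟩ := hp
  exact ⟨h1, fun h => h2 (Finset.mem_insert_of_mem h), fun h => h3 (Finset.mem_insert_of_mem h),
    fun a ha z hz => h4 a (Finset.mem_insert_of_mem ha) z (Finset.mem_insert_of_mem hz)⟩

open Classical in
/-- the weight of a pair. -/
noncomputable def wt (r : X → X → X → Prop) (c : ℝ) (T : Finset X) (p : X × X) : ℝ :=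
  if (∀ a ∈ T, r a p.1 p.2) then c else 1

theorem one_le_wt {r : X → X → X → Prop} {c : ℝ} (hc : 1 ≤ c) (T : Finset X) (p : X × X) :
    1 ≤ wt r c T p := by
  unfold wt
  split_ifs
  · exact hc
  · exact le_rfl

/-- the potential. -/
noncomputable def pot (r : X → X → X → Prop) (c : ℝ) (T : Finset X) : ℝ :=
  ∑ p ∈ Wset r T, wt r c T p

theorem card_Wset_le_pot {r : X → X → X → Prop} {c : ℝ} (hc : 1 ≤ c) (T : Finset X) :
    ((Wset r T).card : ℝ) ≤ pot r c T := by
  unfold pot
  calc ((Wset r T).card : ℝ) = ∑ _p ∈ Wset r T, (1 : ℝ) := by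
        rw [Finset.sum_const, nsmul_eq_mul, mul_one]
    _ ≤ _ := Finset.sum_le_sum (fun p _ => one_le_wt hc T p)

theorem hu_aux {b : ℕ} {r : X → X → X → Prop} (hF : Family G b r) {c : ℝ} (hc : 1 ≤ c)
    (T : Finset X) :
    (Nat.card {p : X × X // p.1 ≠ p.2 ∧ p.1 ∉ T ∧ p.2 ∉ T ∧
      ∃ g ∈ fixingSubgroup G (T : Set X), g • p.1 = p.2} : ℝ) ≤ pot r c T := by
  refine le_trans ?_ (card_Wset_le_pot hc T)
  have h : Nat.card {p : X × X // p.1 ≠ p.2 ∧ p.1 ∉ T ∧ p.2 ∉ T ∧
      ∃ g ∈ fixingSubgroup G (T : Set X), g • p.1 = p.2} ≤ Nat.card (Wset r T) := by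
    refine Nat.card_le_card_of_injective
      (fun p => (⟨p.1, ?_⟩ : {p // p ∈ Wset r T})) ?_
    · obtain ⟨p, h1, h2, h3, g, hg, hgp⟩ := p
      change p ∈ Wset r T
      rw [mem_Wset]
      refine ⟨h1, h2, h3, ?_⟩
      intro a ha z hz
      rw [mem_fixingSubgroup_iff] at hg
      have ga : g • a = a := hg a ha
      have gz : g • z = z := hg z hz
      rw [← hF.equiv g a p.1 z, ga, gz, hgp]
    · intro p q hpq
      exact Subtype.ext (congrArg (fun x => x.1) hpq)
  rw [Nat.card_eq_fintype_card (α := Wset r T), Fintype.card_coe] at h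
  exact_mod_cast h

theorem pot_empty {r : X → X → X → Prop} {c : ℝ} :
    pot r c ∅ = c * (Fintype.card X * (Fintype.card X - 1 : ℕ)) := by
  classical
  unfold pot
  have h1 : Wset r ∅ = Finset.univ.filter (fun p : X × X => p.1 ≠ p.2) := by
    ext p
    rw [mem_Wset, Finset.mem_filter]
    simp
  have h2 : (Finset.univ.filter (fun p : X × X => p.1 ≠ p.2)).card =
      Fintype.card X * (Fintype.card X - 1) := by
    rw [Finset.card_filter, Fintype.sum_prod_type]
    have : ∀ u : X, (∑ w : X, if u ≠ w then 1 else 0) = Fintype.card X - 1 := by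
      intro u
      rw [← Finset.card_filter, Finset.filter_ne, Finset.card_erase_of_mem (Finset.mem_univ _),
        Finset.card_univ]
    simp only
    rw [Finset.sum_congr rfl (fun u _ => this u), Finset.sum_const, Finset.card_univ, smul_eq_mul]
  have h3 : ∀ p ∈ Wset r ∅, wt r c ∅ p = c := by
    intro p _
    unfold wt
    rw [if_pos]
    intro a ha
    exact absurd ha (Finset.notMem_empty a)
  rw [Finset.sum_congr rfl h3, Finset.sum_const, h1, h2, nsmul_eq_mul]
  push_cast
  ring

section Kill

variable {b : ℕ} {r : X → X → X → Prop} (hF : Family G b r) (hb : 2 ≤ b) {T : Finset X} {p : X × X}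
  (hp : p ∈ Wset r T)

include hF hp

/-- Points of the class of `x` at a separating point `a ∈ T` kill the pair. -/
theorem kill_left {a : X} (haT : a ∈ T) (ha : ¬ r a p.1 p.2) {z : X} (hz : r a p.1 z) :
    z ∉ T ∧ p ∉ Wset r (insert z T) := by
  rw [mem_Wset] at hp
  obtain ⟨h1, h2, h3, h4⟩ := hp
  constructor
  · intro hzT
    have h5 := (h4 a haT z hzT).mp hz
    exact ha (hF.trans _ _ _ _ hz (hF.symm _ _ _ h5))
  · intro hp'
    rw [mem_Wset] at hp'
    have h5 := (hp'.2.2.2 a (Finset.mem_insert_of_mem haT) z (Finset.mem_insert_self _ _)).mp hz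
    exact ha (hF.trans _ _ _ _ hz (hF.symm _ _ _ h5))

theorem kill_right {a : X} (haT : a ∈ T) (ha : ¬ r a p.1 p.2) {z : X} (hz : r a p.2 z) :
    z ∉ T ∧ p ∉ Wset r (insert z T) := by
  rw [mem_Wset] at hp
  obtain ⟨h1, h2, h3, h4⟩ := hp
  constructor
  · intro hzT
    have h5 := (h4 a haT z hzT).mpr hz
    exact ha (hF.trans _ _ _ _ h5 (hF.symm _ _ _ hz))
  · intro hp'
    rw [mem_Wset] at hp'
    have h5 := (hp'.2.2.2 a (Finset.mem_insert_of_mem haT) z (Finset.mem_insert_self _ _)).mpr hz
    exact ha (hF.trans _ _ _ _ h5 (hF.symm _ _ _ hz))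

open Classical in
theorem killers_ge_two_mul {a : X} (haT : a ∈ T) (ha : ¬ r a p.1 p.2) :
    2 * b ≤ (Finset.univ.filter (fun z => z ∉ T ∧ p ∉ Wset r (insert z T))).card := by
  have hp' := mem_Wset.mp hp
  have hx : p.1 ≠ a := fun h => hp'.2.1 (h ▸ haT)
  have hy : p.2 ≠ a := fun h => hp'.2.2.1 (h ▸ haT)
  have e1 : (Finset.univ.filter (fun z => r a p.1 z)).card = b := by
    rw [← hF.card_class a p.1 hx, ← Set.ncard_coe_finset]
    congr 1
    ext z; simp
  have e2 : (Finset.univ.filter (fun z => r a p.2 z)).card = b := by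
    rw [← hF.card_class a p.2 hy, ← Set.ncard_coe_finset]
    congr 1
    ext z; simp
  have hdisj : Disjoint (Finset.univ.filter (fun z => r a p.1 z))
      (Finset.univ.filter (fun z => r a p.2 z)) := by
    rw [Finset.disjoint_left]
    intro z h1 h2
    exact ha (hF.trans _ _ _ _ (Finset.mem_filter.mp h1).2
      (hF.symm _ _ _ (Finset.mem_filter.mp h2).2))
  have hsub : (Finset.univ.filter (fun z => r a p.1 z)) ∪ (Finset.univ.filter (fun z => r a p.2 z))
      ⊆ Finset.univ.filter (fun z => z ∉ T ∧ p ∉ Wset r (insert z T)) := by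
    intro z hz
    rw [Finset.mem_filter]
    refine ⟨Finset.mem_univ _, ?_⟩
    rcases Finset.mem_union.mp hz with h | h
    · exact kill_left hF hp haT ha (Finset.mem_filter.mp h).2
    · exact kill_right hF hp haT ha (Finset.mem_filter.mp h).2
  have := Finset.card_le_card hsub
  rw [Finset.card_union_of_disjoint hdisj, e1, e2] at this
  omega

include hb in
open Classical in
theorem killers_ge_card :
    (T.filter (fun a => ¬ r a p.1 p.2)).card + 2 ≤
      (Finset.univ.filter (fun z => z ∉ T ∧ p ∉ Wset r (insert z T))).card := by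
  have hp' := mem_Wset.mp hp
  set T' := T.filter (fun a => ¬ r a p.1 p.2) with hT'
  set K := T'.biUnion (fun a => (Finset.univ.filter (fun z => r a p.1 z)).erase p.1) with hK
  have e1 : ∀ a ∈ T', ((Finset.univ.filter (fun z => r a p.1 z)).erase p.1).card = b - 1 := by
    intro a ha
    have haT : a ∈ T := (Finset.mem_filter.mp ha).1
    have hx : p.1 ≠ a := fun h => hp'.2.1 (h ▸ haT)
    rw [Finset.card_erase_of_mem (Finset.mem_filter.mpr ⟨Finset.mem_univ _, hF.refl a p.1 hx⟩)]
    congr 1
    rw [← hF.card_class a p.1 hx, ← Set.ncard_coe_finset]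
    congr 1
    ext z; simp
  have e2 : ∀ z ∈ K, (T'.filter (fun a => r a p.1 z)).card ≤ b - 1 := by
    intro z hz
    obtain ⟨a, ha, hza⟩ := Finset.mem_biUnion.mp hz
    have hzx : p.1 ≠ z := (Finset.ne_of_mem_erase hza).symm
    rw [← hF.card_bad p.1 z hzx, ← Set.ncard_coe_finset]
    apply Set.ncard_le_ncard _ (Set.toFinite _)
    intro u hu
    exact (Finset.mem_filter.mp hu).2
  have e3 : T'.card * (b - 1) ≤ K.card * (b - 1) := by
    calc T'.card * (b - 1)
        = ∑ a ∈ T', ((Finset.univ.filter (fun z => r a p.1 z)).erase p.1).card := by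
          rw [Finset.sum_congr rfl e1, Finset.sum_const, smul_eq_mul]
      _ = ∑ a ∈ T', (K.filter (fun z => r a p.1 z)).card := by
          apply Finset.sum_congr rfl
          intro a ha
          congr 1
          ext z
          simp only [Finset.mem_erase, Finset.mem_filter, Finset.mem_univ, true_and]
          constructor
          · rintro ⟨h1, h2⟩
            refine ⟨?_, h2⟩
            rw [hK, Finset.mem_biUnion]
            exact ⟨a, ha, Finset.mem_erase.mpr ⟨h1, Finset.mem_filter.mpr
              ⟨Finset.mem_univ _, h2⟩⟩⟩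
          · rintro ⟨h1, h2⟩
            refine ⟨?_, h2⟩
            obtain ⟨a', _, hz⟩ := Finset.mem_biUnion.mp h1
            exact Finset.ne_of_mem_erase hz
      _ = ∑ z ∈ K, (T'.filter (fun a => r a p.1 z)).card := by
          simp only [Finset.card_filter]
          exact Finset.sum_comm
      _ ≤ ∑ _z ∈ K, (b - 1) := Finset.sum_le_sum e2
      _ = K.card * (b - 1) := by rw [Finset.sum_const, smul_eq_mul]
  have e4 : T'.card ≤ K.card := Nat.le_of_mul_le_mul_right e3 (by omega)
  have hxK : p.1 ∉ K := by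
    intro h
    obtain ⟨a', _, hz⟩ := Finset.mem_biUnion.mp h
    exact (Finset.ne_of_mem_erase hz) rfl
  have hyK : p.2 ∉ K := by
    intro h
    obtain ⟨a', ha', hz⟩ := Finset.mem_biUnion.mp h
    exact (Finset.mem_filter.mp ha').2 (Finset.mem_filter.mp (Finset.mem_of_mem_erase hz)).2
  have hxyK : p.1 ∉ insert p.2 K := by
    rw [Finset.mem_insert]
    rintro (h | h)
    · exact hp'.1 h
    · exact hxK h
  have hsub : insert p.1 (insert p.2 K) ⊆
      Finset.univ.filter (fun z => z ∉ T ∧ p ∉ Wset r (insert z T)) := by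
    intro z hz
    rw [Finset.mem_filter]
    refine ⟨Finset.mem_univ _, ?_⟩
    rw [Finset.mem_insert, Finset.mem_insert] at hz
    rcases hz with rfl | rfl | hz
    · exact ⟨hp'.2.1, fun h => (mem_Wset.mp h).2.1 (Finset.mem_insert_self _ _)⟩
    · exact ⟨hp'.2.2.1, fun h => (mem_Wset.mp h).2.2.1 (Finset.mem_insert_self _ _)⟩
    · obtain ⟨a', ha', hz'⟩ := Finset.mem_biUnion.mp hz
      exact kill_left hF hp (Finset.mem_filter.mp ha').1 (Finset.mem_filter.mp ha').2
        (Finset.mem_filter.mp (Finset.mem_of_mem_erase hz')).2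
  have := Finset.card_le_card hsub
  rw [Finset.card_insert_of_notMem hxyK, Finset.card_insert_of_notMem hyK] at this
  omega

omit hp [DecidableEq X] in
open Classical in
theorem card_filter_bad (hne : p.1 ≠ p.2) :
    (Finset.univ.filter (fun a => r a p.1 p.2)).card = b - 1 := by
  rw [← hF.card_bad p.1 p.2 hne, ← Set.ncard_coe_finset]
  congr 1
  ext z; simp

include hb in
open Classical in
/-- the step inequality for one pair. -/
theorem step_pair {c : ℕ} (hc : 1 ≤ c) :
    (∑ z ∈ Tᶜ, if p ∈ Wset r (insert z T) then wt r c (insert z T) p else 0) ≤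
      AI (Fintype.card X) b c T.card * wt r c T p := by
  have hp' := mem_Wset.mp hp
  have hcR : (1 : ℝ) ≤ (c : ℝ) := by exact_mod_cast hc
  have hbadcard := card_filter_bad (G := G) (p := p) hF hp'.1
  have hTc : (Tᶜ : Finset X).card = Fintype.card X - T.card := Finset.card_compl T
  by_cases hall : ∀ a ∈ T, r a p.1 p.2
  · -- all points of `T` are bad
    have hwtT : wt r c T p = c := by
      unfold wt
      rw [if_pos hall]
    have hTsub : T ⊆ Finset.univ.filter (fun a => r a p.1 p.2) := by
      intro a ha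
      exact Finset.mem_filter.mpr ⟨Finset.mem_univ _, hall a ha⟩
    have hTle : T.card ≤ b - 1 := by
      rw [← hbadcard]; exact Finset.card_le_card hTsub
    have hTb : T.card < b := by omega
    -- the three parts of the complement
    set B1 : Finset X := (Finset.univ.filter (fun a => r a p.1 p.2)) \ T with hB1
    have hB1card : B1.card = b - 1 - T.card := by
      rw [hB1, Finset.card_sdiff_of_subset hTsub, hbadcard]
    set B2 : Finset X := ((Tᶜ \ B1).erase p.1).erase p.2 with hB2
    have hB1c : B1 ⊆ Tᶜ := by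
      intro z hz
      rw [Finset.mem_compl]
      exact (Finset.mem_sdiff.mp hz).2
    have hx : p.1 ∈ Tᶜ \ B1 := by
      rw [Finset.mem_sdiff, Finset.mem_compl]
      refine ⟨hp'.2.1, ?_⟩
      intro h
      exact hF.ne _ _ _ (Finset.mem_filter.mp (Finset.mem_sdiff.mp h).1).2 rfl
    have hy : p.2 ∈ (Tᶜ \ B1).erase p.1 := by
      rw [Finset.mem_erase, Finset.mem_sdiff, Finset.mem_compl]
      refine ⟨hp'.1.symm, hp'.2.2.1, ?_⟩
      intro h
      exact hF.ne _ _ _ (hF.symm _ _ _ (Finset.mem_filter.mp (Finset.mem_sdiff.mp h).1).2) rfl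
    have hB2card : B2.card = Fintype.card X - 1 - b := by
      rw [hB2, Finset.card_erase_of_mem hy, Finset.card_erase_of_mem hx,
        Finset.card_sdiff_of_subset hB1c, hB1card, hTc]
      omega
    have hsplit : (∑ z ∈ Tᶜ, if p ∈ Wset r (insert z T) then wt r c (insert z T) p else 0) =
        (∑ z ∈ B1, if p ∈ Wset r (insert z T) then wt r c (insert z T) p else 0) +
        (∑ z ∈ B2, if p ∈ Wset r (insert z T) then wt r c (insert z T) p else 0) := by
      rw [← Finset.sum_sdiff hB1c, add_comm]
      congr 1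
      rw [hB2, ← Finset.add_sum_erase _ _ hx, ← Finset.add_sum_erase _ _ hy]
      have z1 : p ∉ Wset r (insert p.1 T) :=
        fun h => (mem_Wset.mp h).2.1 (Finset.mem_insert_self _ _)
      have z2 : p ∉ Wset r (insert p.2 T) :=
        fun h => (mem_Wset.mp h).2.2.1 (Finset.mem_insert_self _ _)
      rw [if_neg z1, if_neg z2, zero_add, zero_add]
    have hs1 : (∑ z ∈ B1, if p ∈ Wset r (insert z T) then wt r c (insert z T) p else 0) ≤
        ((b - 1 - T.card : ℕ) : ℝ) * c := by
      rw [← hB1card, ← nsmul_eq_mul, ← Finset.sum_const]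
      apply Finset.sum_le_sum
      intro z _
      split_ifs
      · unfold wt
        split_ifs
        · exact le_rfl
        · exact hcR
      · linarith
    have hs2 : (∑ z ∈ B2, if p ∈ Wset r (insert z T) then wt r c (insert z T) p else 0) ≤
        ((Fintype.card X - 1 - b : ℕ) : ℝ) := by
      rw [← hB2card]
      calc _ ≤ ∑ _z ∈ B2, (1 : ℝ) := by
            apply Finset.sum_le_sum
            intro z hz
            split_ifs
            · unfold wt
              rw [if_neg]
              intro h
              have hzb : r z p.1 p.2 := h z (Finset.mem_insert_self _ _)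
              have hz1 : z ∈ Tᶜ \ B1 := Finset.mem_of_mem_erase (Finset.mem_of_mem_erase hz)
              apply (Finset.mem_sdiff.mp hz1).2
              rw [hB1, Finset.mem_sdiff, Finset.mem_filter]
              exact ⟨⟨Finset.mem_univ _, hzb⟩, Finset.mem_compl.mp (Finset.mem_sdiff.mp hz1).1⟩
            · norm_num
        _ = _ := by rw [Finset.sum_const, nsmul_eq_mul, mul_one]
    rw [hsplit, hwtT]
    have hAI : ((b - 1 - T.card : ℕ) : ℝ) + ((Fintype.card X - 1 - b : ℕ) : ℝ) / (c : ℝ) ≤
        AI (Fintype.card X) b c T.card := by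
      unfold AI
      rw [if_pos hTb]
      exact le_max_right _ _
    calc _ ≤ ((b - 1 - T.card : ℕ) : ℝ) * c + ((Fintype.card X - 1 - b : ℕ) : ℝ) :=
          add_le_add hs1 hs2
      _ = (((b - 1 - T.card : ℕ) : ℝ) + ((Fintype.card X - 1 - b : ℕ) : ℝ) / (c : ℝ)) * c := by
          have : (c : ℝ) ≠ 0 := by linarith
          field_simp
      _ ≤ _ := mul_le_mul_of_nonneg_right hAI (by linarith)
  · -- some point of `T` separates `x` and `y`
    push Not at hall
    obtain ⟨a, haT, ha⟩ := hall
    have hwtT : wt r c T p = 1 := by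
      unfold wt
      rw [if_neg]
      intro h
      exact ha (h a haT)
    have k1 := killers_ge_two_mul hF hp haT ha
    have k2 := killers_ge_card hF hb hp
    have k3 : T.card ≤ (T.filter (fun a => ¬ r a p.1 p.2)).card + (b - 1) := by
      have e1 := Finset.card_filter_add_card_filter_not (s := T) (fun a => r a p.1 p.2)
      have e2 : (T.filter (fun a => r a p.1 p.2)).card ≤ b - 1 := by
        rw [← hbadcard]
        apply Finset.card_le_card
        intro z hz
        exact Finset.mem_filter.mpr ⟨Finset.mem_univ _, (Finset.mem_filter.mp hz).2⟩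
      omega
    set K := Finset.univ.filter (fun z => z ∉ T ∧ p ∉ Wset r (insert z T)) with hK
    have hKmax : max (2 * b) (T.card + 3 - b) ≤ K.card := by
      apply max_le k1
      omega
    have hcount : (Tᶜ.filter (fun z => p ∈ Wset r (insert z T))).card + K.card =
        Fintype.card X - T.card := by
      rw [← hTc, ← Finset.card_filter_add_card_filter_not (s := Tᶜ)
        (fun z => p ∈ Wset r (insert z T))]
      congr 2
      ext z
      rw [hK, Finset.mem_filter, Finset.mem_filter, Finset.mem_compl]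
      simp only [Finset.mem_univ, true_and]
    have hsum : (∑ z ∈ Tᶜ, if p ∈ Wset r (insert z T) then wt r c (insert z T) p else 0) =
        ((Tᶜ.filter (fun z => p ∈ Wset r (insert z T))).card : ℝ) := by
      rw [Finset.card_filter]
      push_cast
      apply Finset.sum_congr rfl
      intro z _
      split_ifs
      · unfold wt
        rw [if_neg]
        intro h
        exact ha (h a (Finset.mem_insert_of_mem haT))
      · rfl
    rw [hsum, hwtT, mul_one]
    have hle : (Tᶜ.filter (fun z => p ∈ Wset r (insert z T))).card ≤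
        Fintype.card X - T.card - max (2 * b) (T.card + 3 - b) := by omega
    have hAI : ((Fintype.card X - T.card - max (2 * b) (T.card + 3 - b) : ℕ) : ℝ) ≤
        AI (Fintype.card X) b c T.card := by
      unfold AI
      split_ifs
      · exact le_max_left _ _
      · exact le_rfl
    exact le_trans (by exact_mod_cast hle) hAI

end Kill

theorem hw_aux {b : ℕ} {r : X → X → X → Prop} (hF : Family G b r) (hb : 2 ≤ b) {c : ℕ}
    (hc : 1 ≤ c) (T : Finset X) :
    ∑ z ∈ Tᶜ, pot r c (insert z T) ≤ AI (Fintype.card X) b c T.card * pot r c T := by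
  classical
  have h1 : ∀ z ∈ Tᶜ, pot r c (insert z T) =
      ∑ p ∈ Wset r T, if p ∈ Wset r (insert z T) then wt r c (insert z T) p else 0 := by
    intro z _
    unfold pot
    rw [← Finset.sum_filter]
    apply Finset.sum_congr _ (fun _ _ => rfl)
    ext p
    rw [Finset.mem_filter]
    exact ⟨fun h => ⟨Wset_insert h, h⟩, fun h => h.2⟩
  rw [Finset.sum_congr rfl h1, Finset.sum_comm]
  unfold pot
  rw [Finset.mul_sum]
  apply Finset.sum_le_sum
  intro p hp
  exact step_pair hF hb hp hc

theorem AI_nonneg (m b c t : ℕ) : 0 ≤ AI m b c t := by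
  unfold AI
  split_ifs
  · exact le_max_of_le_left (Nat.cast_nonneg _)
  · exact Nat.cast_nonneg _

end Weights

/-- (I): order bound for 2-transitive groups with imprimitive point stabilisers. -/
theorem card_le_IB {G X : Type*} [Group G] [MulAction G X] [FaithfulSMul G X] [Fintype X]
    (h2 : IsMultiplyPretransitive G X 2) (h3 : 3 ≤ Fintype.card X) (a : X)
    (himp : ¬ IsPreprimitive (stabilizer G a) (SubMulAction.ofStabilizer G a)) :
    ∃ b, 2 ≤ b ∧ 2 * b ≤ Fintype.card X - 1 ∧ b ∣ Fintype.card X - 1 ∧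
      ∀ c : ℕ, 1 ≤ c → (Nat.card G : ℝ) ≤ IB (Fintype.card X) b c := by
  classical
  have h2' : ∀ a b c d : X, a ≠ b → c ≠ d → ∃ g : G, g • a = c ∧ g • b = d := by
    intro a b c d hab hcd
    exact is_two_pretransitive_iff.mp h2 hab hcd
  have htr : IsPretransitive (stabilizer G a) (SubMulAction.ofStabilizer G a) := by
    refine ⟨?_⟩
    rintro ⟨x, hx⟩ ⟨y, hy⟩
    obtain ⟨g, hga, hgx⟩ := h2' a x a y (fun h => hx h.symm) (fun h => hy h.symm)
    exact ⟨⟨g, hga⟩, Subtype.ext hgx⟩
  obtain ⟨b, r, hF, hb2, hb2b, hbd⟩ := exists_family h2' a htr himp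
  refine ⟨b, hb2, hb2b, hbd, ?_⟩
  intro c hc
  have hcR : (1 : ℝ) ≤ (c : ℝ) := by exact_mod_cast hc
  have key := Cfsg.Agent.PermutationGroups.OrderBound.Potential.card_le_prod (G := G) (X := X)
    (pot r c) (AI (Fintype.card X) b c) (AI_nonneg _ _ _)
    (fun T => hu_aux hF hcR T) (fun T => hw_aux hF hb2 hc T)
  have hpos : (0 : ℝ) < (Fintype.card X : ℝ) := by
    have : 0 < Fintype.card X := by omega
    exact_mod_cast this
  have h0 : pot r (c : ℝ) ∅ / (Fintype.card X : ℝ) = (c : ℝ) * ((Fintype.card X : ℝ) - 1) := by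
    rw [pot_empty, Nat.cast_sub (by omega)]
    push_cast
    field_simp
  rw [h0] at key
  exact key

end Cfsg.Agent.PermutationGroups.OrderBound.ImprimStab
end

-- part: PermutationGroups/OrderBound/Structure
section
set_option autoImplicit false

namespace Cfsg.Agent.PermutationGroups.OrderBound.Structure

open Cfsg.Agent.PermutationGroups.OrderBound.Defs MulAction

/-- The degree is large if the action is not `k`-transitive. -/
theorem le_card_of_not {G X : Type*} [Group G] [MulAction G X] [Fintype X] {k : ℕ}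
    (h : ¬ IsMultiplyPretransitive G X k) : k ≤ Fintype.card X := by
  by_contra hlt
  apply h
  have : IsEmpty (Fin k ↪ X) := by
    rw [← not_nonempty_iff, Function.Embedding.nonempty_iff_card_le]
    simpa using hlt
  exact ⟨fun a => (this.false a).elim⟩

theorem faithful_ofStabilizer {G X : Type*} [Group G] [MulAction G X] [FaithfulSMul G X] (a : X) :
    FaithfulSMul (stabilizer G a) (SubMulAction.ofStabilizer G a) := by
  constructor
  intro g h hgh
  apply Subtype.ext
  apply FaithfulSMul.eq_of_smul_eq_smul (α := X)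
  intro x
  by_cases hx : x = a
  · subst hx
    rw [mem_stabilizer_iff.1 g.2, mem_stabilizer_iff.1 h.2]
  · have := congrArg Subtype.val (hgh ⟨x, (SubMulAction.mem_ofStabilizer_iff G a).2 hx⟩)
    exact this

theorem structure_aux (j : ℕ) : ∀ {G X : Type*} [Group G] [MulAction G X] [FaithfulSMul G X]
    [Fintype X], IsPreprimitive G X → 
    IsMultiplyPretransitive G X (j + 1) → ¬ IsMultiplyPretransitive G X (j + 2) →
    (Nat.card G : ℝ) ≤ ((Fintype.card X).descFactorial j : ℝ) *
        UB (Fintype.card X - (j + 1) + 1) (dmin (Fintype.card X - (j + 1) + 1)) ∨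
    (2 ≤ j + 1 ∧ ∃ b, 2 ≤ b ∧ 2 * b ≤ Fintype.card X - (j + 1) + 1 ∧
      b ∣ Fintype.card X - (j + 1) + 1 ∧
      ∀ c : ℕ, 1 ≤ c → (Nat.card G : ℝ) ≤ ((Fintype.card X).descFactorial (j - 1) : ℝ) *
        IB (Fintype.card X - (j + 1) + 2) b c) := by
  induction j with
  | zero =>
    intro G X _ _ _ _ hprim hj hj'
    left
    have hc := le_card_of_not hj'
    have := Uniprim.card_le_UB hprim (by simpa using hj')
    rw [Nat.descFactorial_zero, Nat.cast_one, one_mul]
    have h1 : Fintype.card X - (0 + 1) + 1 = Fintype.card X := by omega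
    rw [h1]
    exact this
  | succ j ih =>
    intro G X _ _ _ _ hprim hj hj'
    have hc := le_card_of_not hj'
    have hne : Nonempty X := by
      rw [← Fintype.card_pos_iff]; omega
    obtain ⟨a⟩ := hne
    have hpre : IsPretransitive G X := hprim.toIsPretransitive
    have hfaith := faithful_ofStabilizer (G := G) a
    let _ : Fintype (SubMulAction.ofStabilizer G a) := Fintype.ofFinite _
    have hcard : Fintype.card (SubMulAction.ofStabilizer G a) = Fintype.card X - 1 := by
      rw [← Nat.card_eq_fintype_card, ← Nat.card_eq_fintype_card]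
      exact SubMulAction.nat_card_ofStabilizer_eq G a
    have hjH : IsMultiplyPretransitive (stabilizer G a) (SubMulAction.ofStabilizer G a) (j + 1) :=
      (SubMulAction.ofStabilizer.isMultiplyPretransitive (a := a)).1 hj
    have hjH' : ¬ IsMultiplyPretransitive (stabilizer G a) (SubMulAction.ofStabilizer G a) (j + 2) :=
      fun h => hj' ((SubMulAction.ofStabilizer.isMultiplyPretransitive (a := a)).2 h)
    have hG : Nat.card G = Fintype.card X * Nat.card (stabilizer G a) := by
      have h1 := Subgroup.card_mul_index (stabilizer G a)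
      rw [index_stabilizer_of_transitive, Nat.card_eq_fintype_card (α := X)] at h1
      rw [← h1, mul_comm]
    have hdesc : ∀ i, (Fintype.card X).descFactorial (i + 1)
        = Fintype.card X * (Fintype.card X - 1).descFactorial i := by
      intro i
      obtain ⟨m, hm⟩ : ∃ m, Fintype.card X = m + 1 := ⟨Fintype.card X - 1, by omega⟩
      rw [hm, Nat.succ_descFactorial_succ]
      rfl
    by_cases hprimH : IsPreprimitive (stabilizer G a) (SubMulAction.ofStabilizer G a)
    · rcases ih hprimH hjH hjH' with h | ⟨h2, b, hb, hb2, hb3, hall⟩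
      · left
        rw [hcard] at h
        rw [hG, hdesc, Nat.cast_mul, Nat.cast_mul, mul_assoc]
        have h1 : Fintype.card X - (j + 1 + 1) + 1 = Fintype.card X - 1 - (j + 1) + 1 := by omega
        rw [h1]
        exact mul_le_mul_of_nonneg_left h (Nat.cast_nonneg _)
      · right
        rw [hcard] at hb2 hb3
        refine ⟨by omega, b, hb, by omega, ?_, ?_⟩
        · have h1 : Fintype.card X - (j + 1 + 1) + 1 = Fintype.card X - 1 - (j + 1) + 1 := by omega
          rw [h1]; exact hb3
        · intro c hcc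
          have h := hall c hcc
          rw [hcard] at h
          have h1 : Fintype.card X - (j + 1 + 1) + 2 = Fintype.card X - 1 - (j + 1) + 2 := by omega
          have h3 : j + 1 - 1 = (j - 1) + 1 := by omega
          rw [hG, h3, hdesc, Nat.cast_mul, Nat.cast_mul, mul_assoc, h1]
          exact mul_le_mul_of_nonneg_left h (Nat.cast_nonneg _)
    · -- imprimitive stabilizer: then j = 0
      have hj0 : j = 0 := by
        by_contra hne
        apply hprimH
        apply isPreprimitive_of_is_two_pretransitive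
        apply isMultiplyPretransitive_of_le (n := j + 1) (by omega)
        rw [Nat.card_eq_fintype_card, hcard]; omega
      subst hj0
      right
      obtain ⟨b, hb, hb2, hb3, hall⟩ := ImprimStab.card_le_IB (G := G) (X := X) hj (by omega) a hprimH
      refine ⟨by omega, b, hb, by omega, ?_, ?_⟩
      · have h1 : Fintype.card X - (0 + 1 + 1) + 1 = Fintype.card X - 1 := by omega
        rw [h1]; exact hb3
      · intro c hcc
        have h := hall c hcc
        have h1 : Fintype.card X - (0 + 1 + 1) + 2 = Fintype.card X := by omega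
        rw [h1, Nat.descFactorial_zero, Nat.cast_one, one_mul]
        exact h

/-- (R) The order bound in terms of the exact degree of transitivity. -/
theorem structure_bound {G X : Type*} [Group G] [MulAction G X] [FaithfulSMul G X]
    [Fintype X] (hprim : IsPreprimitive G X) (j : ℕ) (hj1 : 1 ≤ j)
    (hj : IsMultiplyPretransitive G X j) (hj' : ¬ IsMultiplyPretransitive G X (j + 1)) :
    (Nat.card G : ℝ) ≤ ((Fintype.card X).descFactorial (j - 1) : ℝ) *
        UB (Fintype.card X - j + 1) (dmin (Fintype.card X - j + 1)) ∨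
    (2 ≤ j ∧ ∃ b, 2 ≤ b ∧ 2 * b ≤ Fintype.card X - j + 1 ∧ b ∣ Fintype.card X - j + 1 ∧
      ∀ c : ℕ, 1 ≤ c → (Nat.card G : ℝ) ≤ ((Fintype.card X).descFactorial (j - 2) : ℝ) *
        IB (Fintype.card X - j + 2) b c) := by
  obtain ⟨i, rfl⟩ : ∃ i, j = i + 1 := ⟨j - 1, by omega⟩
  exact structure_aux i hprim hj hj'

end Cfsg.Agent.PermutationGroups.OrderBound.Structure
end

-- part: PermutationGroups/OrderBound/PrimeTrans
section
/-!
# Praeger–Saxl, part (K1), in the form used by the assembly of S0725
-/

set_option autoImplicit false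

namespace Cfsg.Agent.PermutationGroups.OrderBound.PrimeTrans

open MulAction

/-- A primitive group of degree `n`, `q p + 3 ≤ n < (q + 1) p`, `p ≥ 5` prime, `q ≤ 2`, which is
`(n - q p + 1)`-transitive contains the alternating group. -/
theorem prime_trans {α : Type*} [Fintype α] [DecidableEq α] (G : Subgroup (Equiv.Perm α))
    (hprim : IsPreprimitive G α) (p q : ℕ) (hp : p.Prime) (hp5 : 5 ≤ p) (hq : q = 1 ∨ q = 2)
    (h3 : q * p + 3 ≤ Fintype.card α) (hlt : Fintype.card α < (q + 1) * p)
    (htr : IsMultiplyPretransitive G α (Fintype.card α - q * p + 1)) :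
    alternatingGroup α ≤ G := by
  refine PSTransOne.alternating_le_of_prime G (p := p) (q := q) (f := Fintype.card α - q * p)
    hp hp5 hq ?_ ?_ htr
  · omega
  · omega

end Cfsg.Agent.PermutationGroups.OrderBound.PrimeTrans
end

-- part: PermutationGroups/PSTransTwo
section
/-!
# Praeger–Saxl, part (K2)

A `2 m ^ 2`-transitive group of degree `n` not containing the alternating group satisfies
`(4 ^ m / 2 m) ^ (4 m ^ 2 - 2) ≤ n ^ n`.
-/

set_option autoImplicit false

namespace Cfsg.Agent.PermutationGroups.PSTransTwo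

open MulAction

/-- The number of prime divisors of a central binomial coefficient. -/
theorem card_primeFactors_centralBinom_le (m : ℕ) :
    (Nat.centralBinom m).primeFactors.card ≤ m := by
  -- every prime factor is `2` or an odd number below `2 m`
  have hsub : (Nat.centralBinom m).primeFactors ⊆
      (Finset.range m).image (fun i => if i = 0 then 2 else 2 * i + 1) := by
    intro p hp
    rw [Nat.mem_primeFactors] at hp
    obtain ⟨hpp, hpd, hne⟩ := hp
    have hple : p ≤ 2 * m := by
      have h1 : p ∣ (2 * m).factorial := by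
        refine hpd.trans ?_
        rw [Nat.centralBinom_eq_two_mul_choose]
        have h2 := Nat.choose_mul_factorial_mul_factorial (show m ≤ 2 * m by omega)
        exact ⟨_, by rw [← h2, mul_assoc]⟩
      exact (Nat.Prime.dvd_factorial hpp).mp h1
    rw [Finset.mem_image]
    rcases hpp.eq_two_or_odd with rfl | hodd
    · refine ⟨0, ?_, by simp⟩
      rw [Finset.mem_range]
      omega
    · refine ⟨p / 2, ?_, ?_⟩
      · rw [Finset.mem_range]
        omega
      · have : p / 2 ≠ 0 := by
          have := hpp.two_le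
          omega
        rw [if_neg this]
        omega
  calc (Nat.centralBinom m).primeFactors.card
      ≤ ((Finset.range m).image (fun i => if i = 0 then 2 else 2 * i + 1)).card :=
        Finset.card_le_card hsub
    _ ≤ (Finset.range m).card := Finset.card_image_le
    _ = m := Finset.card_range m

theorem sum_pow_le (m : ℕ) (hm : 0 < m) :
    ∑ p ∈ (Nat.centralBinom m).primeFactors, p ^ (Nat.centralBinom m).factorization p
      ≤ 2 * m ^ 2 := by
  calc ∑ p ∈ (Nat.centralBinom m).primeFactors, p ^ (Nat.centralBinom m).factorization p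
      ≤ ∑ p ∈ (Nat.centralBinom m).primeFactors, 2 * m := by
        apply Finset.sum_le_sum
        intro p hp
        rw [Nat.centralBinom_eq_two_mul_choose]
        exact Nat.pow_factorization_choose_le (by omega)
    _ = (Nat.centralBinom m).primeFactors.card * (2 * m) := by
        rw [Finset.sum_const, smul_eq_mul]
    _ ≤ m * (2 * m) := Nat.mul_le_mul_right _ (card_primeFactors_centralBinom_le m)
    _ = 2 * m ^ 2 := by ring

/-- An element with prescribed disjoint cycles on few points. -/
theorem exists_cycles {α : Type*} [Fintype α] [DecidableEq α] (G : Subgroup (Equiv.Perm α))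
    {k : ℕ} (hkn : k ≤ Fintype.card α) (hG : MulAction.IsMultiplyPretransitive G α k)
    (P : Finset ℕ) (l : ℕ → ℕ) (hl : ∀ p ∈ P, 0 < l p) (hsum : ∑ p ∈ P, l p ≤ k) :
    ∃ g ∈ G, ∀ p ∈ P, ∃ x : α, ∀ j : ℕ, (g ^ j) x = x ↔ l p ∣ j := by
  classical
  let Δ := Σ p : P, ZMod (l p)
  have : ∀ p : P, NeZero (l p) := fun p => ⟨(hl p p.2).ne'⟩
  have hcard : Fintype.card Δ = ∑ p ∈ P, l p := by
    rw [Fintype.card_sigma]
    simp only [ZMod.card]
    exact Finset.sum_coe_sort P l
  have hle : Fintype.card Δ ≤ Fintype.card α := by omega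
  obtain ⟨ι⟩ : Nonempty (Δ ↪ α) := Function.Embedding.nonempty_of_card_le hle
  let s : Equiv.Perm Δ := Equiv.sigmaCongrRight fun p : P => Equiv.addRight (1 : ZMod (l p))
  let e : Fin (Fintype.card Δ) ≃ Δ := (Fintype.equivFin Δ).symm
  have hG' : MulAction.IsMultiplyPretransitive G α (Fintype.card Δ) :=
    MulAction.isMultiplyPretransitive_of_le (n := k) (by omega) (by rwa [Nat.card_eq_fintype_card])
  obtain ⟨g, hg⟩ := hG'.exists_smul_eq (e.toEmbedding.trans ι)
    (e.toEmbedding.trans (s.toEmbedding.trans ι))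
  have hg' : ∀ d : Δ, (g : Equiv.Perm α) (ι d) = ι (s d) := by
    intro d
    have h1 := DFunLike.congr_fun hg (e.symm d)
    have h2 : g • (ι (e (e.symm d))) = ι (s (e (e.symm d))) := h1
    rw [e.apply_symm_apply] at h2
    exact h2
  refine ⟨g, g.2, ?_⟩
  intro p hp
  refine ⟨ι ⟨⟨p, hp⟩, 0⟩, ?_⟩
  have hpow : ∀ j : ℕ, ((g : Equiv.Perm α) ^ j) (ι ⟨⟨p, hp⟩, 0⟩)
      = ι ⟨⟨p, hp⟩, (j : ZMod (l p))⟩ := by
    intro j
    induction j with
    | zero => simp
    | succ j ih =>
      rw [pow_succ', Equiv.Perm.mul_apply, ih, hg']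
      congr 1
      show (⟨⟨p, hp⟩, ((j : ZMod (l p)) + 1)⟩ : Δ) = _
      rw [Nat.cast_add, Nat.cast_one]
  intro j
  rw [hpow, ι.injective.eq_iff]
  constructor
  · intro h
    have h1 : ((j : ZMod (l p))) = 0 := by
      rw [Sigma.mk.injEq] at h
      exact eq_of_heq h.2
    exact (ZMod.natCast_eq_zero_iff j (l p)).mp h1
  · intro h
    have h1 : ((j : ZMod (l p))) = 0 := (ZMod.natCast_eq_zero_iff j (l p)).mpr h
    rw [h1]

theorem pow_le_of_trans {α : Type*} [Fintype α] [DecidableEq α] (G : Subgroup (Equiv.Perm α))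
    {m : ℕ} (hm : 2 ≤ m) (hmn : 2 * m ^ 2 ≤ Fintype.card α)
    (hG : MulAction.IsMultiplyPretransitive G α (2 * m ^ 2)) (hA : ¬ alternatingGroup α ≤ G) :
    4 ^ (m * (4 * m ^ 2 - 2)) ≤
      (2 * m) ^ (4 * m ^ 2 - 2) * (Fintype.card α) ^ (Fintype.card α) := by
  classical
  set B := Nat.centralBinom m with hB
  have hBpos : 0 < B := Nat.centralBinom_pos m
  have hm2 : 4 ≤ m ^ 2 := by nlinarith
  obtain ⟨g, hgG, hg⟩ := exists_cycles G hmn hG B.primeFactors (fun p => p ^ B.factorization p)
    (fun p hp => pow_pos (Nat.prime_of_mem_primeFactors hp).pos _)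
    (sum_pow_le m (by omega))
  set N := orderOf g with hN
  have hNpos : 0 < N := orderOf_pos g
  -- the prime powers divide the order
  have hdvd : ∀ p ∈ B.primeFactors, p ^ B.factorization p ∣ N := by
    intro p hp
    obtain ⟨x, hx⟩ := hg p hp
    rw [← hx N, hN, pow_orderOf_eq_one]
    rfl
  have hpN : ∀ p ∈ B.primeFactors, p ∣ N := by
    intro p hp
    refine (dvd_pow_self p ?_).trans (hdvd p hp)
    have h1 := Nat.prime_of_mem_primeFactors hp
    exact (h1.factorization_pos_of_dvd hBpos.ne' (Nat.dvd_of_mem_primeFactors hp)).ne'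
  -- supports
  have hsupp : ∀ p ∈ B.primeFactors, 4 * m ^ 2 - 2 ≤ (g ^ (N / p)).support.card := by
    intro p hp
    have hpp := Nat.prime_of_mem_primeFactors hp
    by_contra hcon
    push Not at hcon
    apply hA
    refine (Cfsg.Agent.S0711.result G (k := 2 * m ^ 2) (by omega) hmn hG (g ^ (N / p))
      (G.pow_mem hgG _) ?_ ?_).2
    · intro h1
      have h2 : N ∣ N / p := orderOf_dvd_of_pow_eq_one h1
      have h3 : 0 < N / p := Nat.div_pos (Nat.le_of_dvd hNpos (hpN p hp)) hpp.pos
      have h4 := Nat.le_of_dvd h3 h2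
      have h5 : N / p < N := Nat.div_lt_self hNpos hpp.one_lt
      omega
    · have : 2 * (2 * m ^ 2) = 4 * m ^ 2 := by ring
      omega
  -- cycle lengths
  let ell : α → ℕ := fun x => Function.minimalPeriod g x
  have hellpos : ∀ x, 0 < ell x := by
    intro x
    apply Function.IsPeriodicPt.minimalPeriod_pos hNpos
    show (g : α → α)^[N] x = x
    rw [← Equiv.Perm.coe_pow, hN, pow_orderOf_eq_one]
    rfl
  have hellle : ∀ x, ell x ≤ Fintype.card α := by
    intro x
    exact Function.minimalPeriod_le_card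
  have helldvd : ∀ x, ∀ p ∈ B.primeFactors, x ∈ (g ^ (N / p)).support →
      p ^ B.factorization p ∣ ell x := by
    intro x p hp hx
    have hpp := Nat.prime_of_mem_primeFactors hp
    have h1 : ell x ∣ N := by
      apply Function.IsPeriodicPt.minimalPeriod_dvd
      show (g : α → α)^[N] x = x
      rw [← Equiv.Perm.coe_pow, hN, pow_orderOf_eq_one]
      rfl
    have h2 : ¬ ell x ∣ N / p := by
      intro h
      rw [Equiv.Perm.mem_support] at hx
      apply hx
      have h3 : Function.IsPeriodicPt g (N / p) x :=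
        (Function.isPeriodicPt_minimalPeriod g x).trans_dvd h
      have h4 : (g : α → α)^[N / p] x = x := h3
      rwa [← Equiv.Perm.coe_pow] at h4
    -- valuations
    obtain ⟨c, hc⟩ := h1
    have hNe : N ≠ 0 := hNpos.ne'
    have hcp : ¬ p ∣ c := by
      rintro ⟨d, rfl⟩
      apply h2
      refine ⟨d, ?_⟩
      rw [hc, mul_left_comm, Nat.mul_div_cancel_left _ hpp.pos]
    have hcop : Nat.Coprime (p ^ B.factorization p) c :=
      Nat.Coprime.pow_left _ ((Nat.Prime.coprime_iff_not_dvd hpp).mpr hcp)
    have h5 := hdvd p hp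
    rw [hc] at h5
    exact hcop.dvd_of_dvd_mul_right h5
  -- the product over the points
  have hprodx : ∀ x, ∏ p ∈ B.primeFactors.filter (fun p => x ∈ (g ^ (N / p)).support),
      p ^ B.factorization p ≤ Fintype.card α := by
    intro x
    refine le_trans (Nat.le_of_dvd (hellpos x) ?_) (hellle x)
    apply Finset.prod_dvd_of_isRelPrime
    · intro p hp r hr hpr
      rw [Finset.mem_coe, Finset.mem_filter] at hp hr
      exact Nat.coprime_iff_isRelPrime.mp
        (Nat.Coprime.pow _ _ ((Nat.coprime_primes (Nat.prime_of_mem_primeFactors hp.1)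
          (Nat.prime_of_mem_primeFactors hr.1)).mpr hpr))
    · intro p hp
      rw [Finset.mem_filter] at hp
      exact helldvd x p hp.1 hp.2
  have hswap : ∏ x : α, ∏ p ∈ B.primeFactors.filter (fun p => x ∈ (g ^ (N / p)).support),
      p ^ B.factorization p
      = ∏ p ∈ B.primeFactors, (p ^ B.factorization p) ^ (g ^ (N / p)).support.card := by
    have h1 : ∀ x : α, ∏ p ∈ B.primeFactors.filter (fun p => x ∈ (g ^ (N / p)).support),
        p ^ B.factorization p = ∏ p ∈ B.primeFactors,
          if x ∈ (g ^ (N / p)).support then p ^ B.factorization p else 1 := by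
      intro x
      rw [Finset.prod_filter]
    simp_rw [h1]
    rw [Finset.prod_comm]
    apply Finset.prod_congr rfl
    intro p _
    rw [Finset.prod_ite_mem, Finset.univ_inter, Finset.prod_const]
  have hBs : B ^ (4 * m ^ 2 - 2) ≤ (Fintype.card α) ^ (Fintype.card α) := by
    calc B ^ (4 * m ^ 2 - 2)
        = (∏ p ∈ B.primeFactors, p ^ B.factorization p) ^ (4 * m ^ 2 - 2) := by
          congr 1
          exact (Nat.prod_factorization_pow_eq_self hBpos.ne').symm
      _ = ∏ p ∈ B.primeFactors, (p ^ B.factorization p) ^ (4 * m ^ 2 - 2) := by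
          rw [Finset.prod_pow]
      _ ≤ ∏ p ∈ B.primeFactors, (p ^ B.factorization p) ^ (g ^ (N / p)).support.card := by
          apply Finset.prod_le_prod'
          intro p hp
          exact Nat.pow_le_pow_right (pow_pos (Nat.prime_of_mem_primeFactors hp).pos _)
            (hsupp p hp)
      _ = ∏ x : α, ∏ p ∈ B.primeFactors.filter (fun p => x ∈ (g ^ (N / p)).support),
            p ^ B.factorization p := hswap.symm
      _ ≤ ∏ _x : α, Fintype.card α := Finset.prod_le_prod' fun x _ => hprodx x
      _ = (Fintype.card α) ^ (Fintype.card α) := by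
          rw [Finset.prod_const, Finset.card_univ]
  calc 4 ^ (m * (4 * m ^ 2 - 2)) = (4 ^ m) ^ (4 * m ^ 2 - 2) := by rw [pow_mul]
    _ ≤ (2 * m * B) ^ (4 * m ^ 2 - 2) :=
        Nat.pow_le_pow_left (Nat.four_pow_le_two_mul_self_mul_centralBinom m (by omega)) _
    _ = (2 * m) ^ (4 * m ^ 2 - 2) * B ^ (4 * m ^ 2 - 2) := by rw [mul_pow]
    _ ≤ (2 * m) ^ (4 * m ^ 2 - 2) * (Fintype.card α) ^ (Fintype.card α) :=
        Nat.mul_le_mul_left _ hBs

end Cfsg.Agent.PermutationGroups.PSTransTwo
end

-- part: PermutationGroups/OrderBound/CycleWeights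
section
/-!
(K2) the bound on the degree of transitivity from weighted cycles, in terms of the central
binomial coefficient. The proof is helper406's (`PSTransTwo`).
-/

set_option autoImplicit false

namespace Cfsg.Agent.PermutationGroups.OrderBound.CycleWeights

open Cfsg.Agent.PermutationGroups.OrderBound.Defs MulAction
open Cfsg.Agent.PermutationGroups.PSTransTwo

theorem cycle_weights {α : Type*} [Fintype α] [DecidableEq α] (G : Subgroup (Equiv.Perm α))
    (hA : ¬ alternatingGroup α ≤ G) (m : ℕ) (hm : 2 ≤ m) (hmn : 2 * m ^ 2 ≤ Fintype.card α)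
    (htr : IsMultiplyPretransitive G α (2 * m ^ 2)) :
    (Nat.centralBinom m) ^ (4 * m ^ 2 - 2) ≤ (Fintype.card α) ^ (Fintype.card α) := by
  classical
  set B := Nat.centralBinom m with hB
  have hBpos : 0 < B := Nat.centralBinom_pos m
  have hm2 : 4 ≤ m ^ 2 := by nlinarith
  obtain ⟨g, hgG, hg⟩ := exists_cycles G hmn htr B.primeFactors (fun p => p ^ B.factorization p)
    (fun p hp => pow_pos (Nat.prime_of_mem_primeFactors hp).pos _)
    (sum_pow_le m (by omega))
  set N := orderOf g with hN
  have hNpos : 0 < N := orderOf_pos g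
  -- the prime powers divide the order
  have hdvd : ∀ p ∈ B.primeFactors, p ^ B.factorization p ∣ N := by
    intro p hp
    obtain ⟨x, hx⟩ := hg p hp
    rw [← hx N, hN, pow_orderOf_eq_one]
    rfl
  have hpN : ∀ p ∈ B.primeFactors, p ∣ N := by
    intro p hp
    refine (dvd_pow_self p ?_).trans (hdvd p hp)
    have h1 := Nat.prime_of_mem_primeFactors hp
    exact (h1.factorization_pos_of_dvd hBpos.ne' (Nat.dvd_of_mem_primeFactors hp)).ne'
  -- supports
  have hsupp : ∀ p ∈ B.primeFactors, 4 * m ^ 2 - 2 ≤ (g ^ (N / p)).support.card := by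
    intro p hp
    have hpp := Nat.prime_of_mem_primeFactors hp
    by_contra hcon
    push Not at hcon
    apply hA
    refine (Cfsg.Agent.S0711.result G (k := 2 * m ^ 2) (by omega) hmn htr (g ^ (N / p))
      (G.pow_mem hgG _) ?_ ?_).2
    · intro h1
      have h2 : N ∣ N / p := orderOf_dvd_of_pow_eq_one h1
      have h3 : 0 < N / p := Nat.div_pos (Nat.le_of_dvd hNpos (hpN p hp)) hpp.pos
      have h4 := Nat.le_of_dvd h3 h2
      have h5 : N / p < N := Nat.div_lt_self hNpos hpp.one_lt
      omega
    · have : 2 * (2 * m ^ 2) = 4 * m ^ 2 := by ring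
      omega
  -- cycle lengths
  let ell : α → ℕ := fun x => Function.minimalPeriod g x
  have hellpos : ∀ x, 0 < ell x := by
    intro x
    apply Function.IsPeriodicPt.minimalPeriod_pos hNpos
    show (g : α → α)^[N] x = x
    rw [← Equiv.Perm.coe_pow, hN, pow_orderOf_eq_one]
    rfl
  have hellle : ∀ x, ell x ≤ Fintype.card α := by
    intro x
    exact Function.minimalPeriod_le_card
  have helldvd : ∀ x, ∀ p ∈ B.primeFactors, x ∈ (g ^ (N / p)).support →
      p ^ B.factorization p ∣ ell x := by
    intro x p hp hx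
    have hpp := Nat.prime_of_mem_primeFactors hp
    have h1 : ell x ∣ N := by
      apply Function.IsPeriodicPt.minimalPeriod_dvd
      show (g : α → α)^[N] x = x
      rw [← Equiv.Perm.coe_pow, hN, pow_orderOf_eq_one]
      rfl
    have h2 : ¬ ell x ∣ N / p := by
      intro h
      rw [Equiv.Perm.mem_support] at hx
      apply hx
      have h3 : Function.IsPeriodicPt g (N / p) x :=
        (Function.isPeriodicPt_minimalPeriod g x).trans_dvd h
      have h4 : (g : α → α)^[N / p] x = x := h3
      rwa [← Equiv.Perm.coe_pow] at h4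
    -- valuations
    obtain ⟨c, hc⟩ := h1
    have hNe : N ≠ 0 := hNpos.ne'
    have hcp : ¬ p ∣ c := by
      rintro ⟨d, rfl⟩
      apply h2
      refine ⟨d, ?_⟩
      rw [hc, mul_left_comm, Nat.mul_div_cancel_left _ hpp.pos]
    have hcop : Nat.Coprime (p ^ B.factorization p) c :=
      Nat.Coprime.pow_left _ ((Nat.Prime.coprime_iff_not_dvd hpp).mpr hcp)
    have h5 := hdvd p hp
    rw [hc] at h5
    exact hcop.dvd_of_dvd_mul_right h5
  -- the product over the points
  have hprodx : ∀ x, ∏ p ∈ B.primeFactors.filter (fun p => x ∈ (g ^ (N / p)).support),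
      p ^ B.factorization p ≤ Fintype.card α := by
    intro x
    refine le_trans (Nat.le_of_dvd (hellpos x) ?_) (hellle x)
    apply Finset.prod_dvd_of_isRelPrime
    · intro p hp r hr hpr
      rw [Finset.mem_coe, Finset.mem_filter] at hp hr
      exact Nat.coprime_iff_isRelPrime.mp
        (Nat.Coprime.pow _ _ ((Nat.coprime_primes (Nat.prime_of_mem_primeFactors hp.1)
          (Nat.prime_of_mem_primeFactors hr.1)).mpr hpr))
    · intro p hp
      rw [Finset.mem_filter] at hp
      exact helldvd x p hp.1 hp.2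
  have hswap : ∏ x : α, ∏ p ∈ B.primeFactors.filter (fun p => x ∈ (g ^ (N / p)).support),
      p ^ B.factorization p
      = ∏ p ∈ B.primeFactors, (p ^ B.factorization p) ^ (g ^ (N / p)).support.card := by
    have h1 : ∀ x : α, ∏ p ∈ B.primeFactors.filter (fun p => x ∈ (g ^ (N / p)).support),
        p ^ B.factorization p = ∏ p ∈ B.primeFactors,
          if x ∈ (g ^ (N / p)).support then p ^ B.factorization p else 1 := by
      intro x
      rw [Finset.prod_filter]
    simp_rw [h1]
    rw [Finset.prod_comm]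
    apply Finset.prod_congr rfl
    intro p _
    rw [Finset.prod_ite_mem, Finset.univ_inter, Finset.prod_const]
  have hBs : B ^ (4 * m ^ 2 - 2) ≤ (Fintype.card α) ^ (Fintype.card α) := by
    calc B ^ (4 * m ^ 2 - 2)
        = (∏ p ∈ B.primeFactors, p ^ B.factorization p) ^ (4 * m ^ 2 - 2) := by
          congr 1
          exact (Nat.prod_factorization_pow_eq_self hBpos.ne').symm
      _ = ∏ p ∈ B.primeFactors, (p ^ B.factorization p) ^ (4 * m ^ 2 - 2) := by
          rw [Finset.prod_pow]
      _ ≤ ∏ p ∈ B.primeFactors, (p ^ B.factorization p) ^ (g ^ (N / p)).support.card := by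
          apply Finset.prod_le_prod'
          intro p hp
          exact Nat.pow_le_pow_right (pow_pos (Nat.prime_of_mem_primeFactors hp).pos _)
            (hsupp p hp)
      _ = ∏ x : α, ∏ p ∈ B.primeFactors.filter (fun p => x ∈ (g ^ (N / p)).support),
            p ^ B.factorization p := hswap.symm
      _ ≤ ∏ _x : α, Fintype.card α := Finset.prod_le_prod' fun x _ => hprodx x
      _ = (Fintype.card α) ^ (Fintype.card α) := by
          rw [Finset.prod_const, Finset.card_univ]
  exact hBs

end Cfsg.Agent.PermutationGroups.OrderBound.CycleWeights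
end

-- part: PermutationGroups/OrderBound/Bochert
section
set_option autoImplicit false

namespace Cfsg.Agent.PermutationGroups.OrderBound.Bochert

open MulAction

/-- Bochert's bound. -/
theorem bochert {α : Type*} [Fintype α] [DecidableEq α] (G : Subgroup (Equiv.Perm α))
    (hprim : IsPreprimitive G α) (hA : ¬ alternatingGroup α ≤ G) :
    Nat.card G * ((Fintype.card α + 1) / 2).factorial ≤ (Fintype.card α).factorial :=
  Cfsg.Agent.PermutationGroups.PSBochert.bochert G hprim hA

/-- The bound `4 ^ n` for `n ≤ 21`. -/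
theorem small {α : Type*} [Fintype α] [DecidableEq α] (G : Subgroup (Equiv.Perm α))
    (hprim : IsPreprimitive G α) (hA : ¬ alternatingGroup α ≤ G) (hn : Fintype.card α ≤ 21) :
    Nat.card G ≤ 4 ^ Fintype.card α :=
  Cfsg.Agent.PermutationGroups.PSBochert.card_le_four_pow G hprim hA (Or.inl hn)

end Cfsg.Agent.PermutationGroups.OrderBound.Bochert
end

-- part: PermutationGroups/OrderBound/NumSmall
section
/-!
# Order bound for primitive groups (S0725): the numerical statement for `22 ≤ n < 1024`
-/

set_option autoImplicit false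

namespace Cfsg.Agent.PermutationGroups.OrderBound.NumSmall

open Cfsg.Agent.PermutationGroups.OrderBound.Defs Finset

/-- Application with evaluated argument. -/
def force (n : ℕ) (k : ℕ → ℕ) : ℕ := Nat.rec (k 0) (fun n' _ => k (n'.succ)) n

theorem force_eq (n : ℕ) (k : ℕ → ℕ) : force n k = k n := by cases n <;> rfl

/-- The fixed point computation. -/
def loop (D : ℕ) (a : ℕ → ℕ) (r : ℕ) : ℕ → ℕ → ℕ :=
  Nat.rec (fun _ P => P)
    (fun r' ih v P =>
      force (Nat.add (Nat.div (Nat.mul v (a r')) (Nat.mul D r')) 1) fun v' =>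
        force (Nat.add (Nat.div (Nat.mul P (Nat.add 1048576 v)) 1048576) 1) fun P' => ih v' P') r

theorem loop_zero (D : ℕ) (a : ℕ → ℕ) (v P : ℕ) : loop D a 0 v P = P := rfl

theorem loop_succ (D : ℕ) (a : ℕ → ℕ) (r v P : ℕ) :
    loop D a (r + 1) v P =
      loop D a r (v * a r / (D * r) + 1) (P * (1048576 + v) / 1048576 + 1) := by
  change force (Nat.add (Nat.div (Nat.mul v (a r)) (Nat.mul D r)) 1) (fun v' =>
    force (Nat.add (Nat.div (Nat.mul P (Nat.add 1048576 v)) 1048576) 1)
      fun P' => loop D a r v' P') = _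
  rw [force_eq, force_eq]
  rfl

theorem lt_div_succ (a b : ℕ) (hb : 0 < b) : (a : ℝ) ≤ ((a / b + 1 : ℕ) : ℝ) * b := by
  have h : a < (a / b + 1) * b := by
    rw [Nat.add_mul, one_mul]
    have := Nat.div_add_mod a b
    have h2 := Nat.mod_lt a hb
    nlinarith [Nat.mul_comm b (a / b)]
  exact_mod_cast h.le

theorem loop_le (D : ℕ) (hD : 0 < D) (a : ℕ → ℕ) (r : ℕ) :
    ∀ (W B : ℕ → ℝ) (k : ℕ) (_ : k ≤ r) (v P : ℕ) (Q : ℝ), (∀ i, 0 ≤ W i) →
      (∀ i, i + 1 < k → 0 ≤ B i) →
      (∀ i, i + 1 < k → W (i + 1) = W i * B i) →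
      (∀ i, i + 1 < k → B i * (D * ((r - 1 - i : ℕ) : ℝ)) ≤ a (r - 1 - i)) →
      (0 < k → W 0 * 1048576 ≤ v) → 0 ≤ Q → Q ≤ P →
      Q * ∏ i ∈ range k, (1 + W i) ≤ loop D a r v P := by
  induction r with
  | zero =>
    intro W B k hk v P Q hW hB0 hWB hB h0 hQ hQP
    obtain rfl : k = 0 := by omega
    simpa [loop_zero] using hQP
  | succ r ih =>
    intro W B k hk v P Q hW hB0 hWB hB h0 hQ hQP
    rw [loop_succ]
    have hP' : (P : ℝ) * (1048576 + v) ≤
        ((P * (1048576 + v) / 1048576 + 1 : ℕ) : ℝ) * 1048576 := by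
      have := lt_div_succ (P * (1048576 + v)) 1048576 (by norm_num)
      push_cast at this ⊢
      exact this
    have hPv : (0 : ℝ) ≤ P * v := by positivity
    rcases k with _ | k
    · refine ih W B 0 (Nat.zero_le _) _ _ Q hW (by omega) (by omega) (by omega) (by omega) hQ ?_
      refine hQP.trans ?_
      have h1 : (P : ℝ) * 1048576 ≤ ((P * (1048576 + v) / 1048576 + 1 : ℕ) : ℝ) * 1048576 := by
        linarith
      exact le_of_mul_le_mul_right h1 (by norm_num)
    · rw [prod_range_succ', ← mul_assoc, mul_right_comm]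
      have h0' := h0 (Nat.succ_pos k)
      have hW0 := hW 0
      refine ih (fun i => W (i + 1)) (fun i => B (i + 1)) k (by omega) _ _ (Q * (1 + W 0))
        (fun i => hW _) (fun i hi => hB0 _ (by omega)) (fun i hi => hWB _ (by omega))
        (fun i hi => ?_) (fun hk0 => ?_) (by positivity) ?_
      · have h := hB (i + 1) (by omega)
        have e : r + 1 - 1 - (i + 1) = r - 1 - i := by omega
        rw [e] at h
        exact h
      · have h1 := hWB 0 (by omega)
        have h2 := hB 0 (by omega)
        have hb0 := hB0 0 (by omega)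
        have e : r + 1 - 1 - 0 = r := by omega
        rw [e] at h2
        have hr : 0 < r := by omega
        have h3 := lt_div_succ (v * a r) (D * r) (by positivity)
        change W (0 + 1) * 1048576 ≤ _
        rw [h1]
        have hDr : (0 : ℝ) < D * r := by positivity
        have h4 : W 0 * B 0 * 1048576 * (D * r) ≤
            ((v * a r / (D * r) + 1 : ℕ) : ℝ) * (D * r) := by
          push_cast at h3 ⊢
          calc W 0 * B 0 * 1048576 * (D * r) = (W 0 * 1048576) * (B 0 * (D * r)) := by ring
            _ ≤ v * (a r) := by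
              refine mul_le_mul h0' h2 (by positivity) (by positivity)
            _ ≤ _ := h3
        exact le_of_mul_le_mul_right h4 hDr
      · have h5 : Q * (1 + W 0) * 1048576 ≤
          ((P * (1048576 + v) / 1048576 + 1 : ℕ) : ℝ) * 1048576 := by
          refine le_trans ?_ hP'
          calc Q * (1 + W 0) * 1048576 = Q * (1048576 + W 0 * 1048576) := by ring
            _ ≤ P * (1048576 + v) := by
              refine mul_le_mul hQP (by linarith) (by positivity) (by positivity)
        exact le_of_mul_le_mul_right h5 (by norm_num)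

theorem vseq_nonneg (n : ℕ) (v0 : ℝ) (A : ℕ → ℝ) (h0 : 0 ≤ v0) (hA : ∀ t, 0 ≤ A t) (t : ℕ) :
    0 ≤ vseq n v0 A t := by
  induction t with
  | zero => exact h0
  | succ t ih =>
    rw [vseq_succ]
    have := hA t
    positivity

/-- The product bound through the fixed point computation. -/
theorem prod_vseq_le (D : ℕ) (hD : 0 < D) (a : ℕ → ℕ) (m M : ℕ) (hmM : m ≤ M) (v0 : ℝ)
    (A : ℕ → ℝ) (h0 : 0 ≤ v0) (hA : ∀ t, 0 ≤ A t) (v : ℕ) (hv : v0 * 1048576 ≤ v)
    (h : ∀ t, t + 1 < m →
      A t / ((m - t - 1 : ℕ) : ℝ) * (D * ((M - 1 - t : ℕ) : ℝ)) ≤ a (M - 1 - t)) :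
    (∏ t ∈ range m, (1 + vseq m v0 A t)) * 1048576 ≤ loop D a M v 1048576 := by
  have := loop_le D hD a M (vseq m v0 A) (fun t => A t / ((m - t - 1 : ℕ) : ℝ)) m hmM v 1048576
    1048576 (vseq_nonneg m v0 A h0 hA) (fun i _ => by have := hA i; positivity)
    (fun i _ => by rw [vseq_succ, mul_div_assoc]) h (fun _ => hv) (by norm_num) (by norm_num)
  linarith

/-- comparing the ratios in degrees `m ≤ M`. -/
theorem ratio_le (x X Y E : ℝ) (hX : 0 < X) (hXY : X ≤ Y) (hE : 0 ≤ E) (hx0 : 0 ≤ x)
    (hx : x = 0 ∨ x ≤ X - E) : x / X * Y ≤ max 0 (Y - E) := by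
  rcases hx with rfl | hx
  · simp
  · refine le_trans ?_ (le_max_right _ _)
    rw [div_mul_eq_mul_div, div_le_iff₀ hX]
    nlinarith

theorem UB_le (m M d e : ℕ) (hm : 1 ≤ m) (hmM : m ≤ M) (he : e + 1 ≤ d) :
    UB m d * 1048576 ≤ loop 1 (fun r => Nat.sub r e) M ((M - 1) * 1048576) 1048576 := by
  refine prod_vseq_le 1 one_pos _ m M hmM _ _ ?_ (fun t => by positivity) _ ?_ ?_
  · have : (1 : ℝ) ≤ m := by exact_mod_cast hm
    linarith
  · push_cast
    have h1 : ((M - 1 : ℕ) : ℝ) = M - 1 := by
      rw [Nat.cast_sub (by omega)]; norm_num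
    have h2 : (m : ℝ) ≤ M := by exact_mod_cast hmM
    rw [h1]
    linarith
  · intro t ht
    have hX : (0 : ℝ) < ((m - t - 1 : ℕ) : ℝ) := by
      exact_mod_cast (by omega : 0 < m - t - 1)
    have hXY : ((m - t - 1 : ℕ) : ℝ) ≤ ((M - 1 - t : ℕ) : ℝ) := by
      exact_mod_cast (by omega : m - t - 1 ≤ M - 1 - t)
    have key := ratio_le ((m - t - d : ℕ) : ℝ) _ _ (e : ℝ) hX hXY (by positivity) (by positivity)
      (by
        rcases Nat.lt_or_ge (m - t) d with h | h
        · left
          rw [Nat.sub_eq_zero_of_le h.le]; simp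
        · right
          rw [le_sub_iff_add_le]
          exact_mod_cast (by omega : m - t - d + e ≤ m - t - 1))
    rw [Nat.cast_one, one_mul]
    refine key.trans (max_le (by positivity) ?_)
    rw [sub_le_iff_le_add]
    exact_mod_cast (by change M - 1 - t ≤ (M - 1 - t - e) + e; omega)

/-- `c` times the first of the two quantities in `AI`. -/
def aF (m b c r : ℕ) : ℕ :=
  Nat.mul c (Nat.sub (Nat.add r 1) (Nat.add (Nat.mul 2 b)
    (Nat.sub (Nat.sub (Nat.add (Nat.sub (Nat.sub m 1) r) 3) b) (Nat.mul 2 b))))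

/-- `c` times the second of the two quantities in `AI`. -/
def aS (m b c r : ℕ) : ℕ :=
  Nat.add (Nat.mul c (Nat.sub (Nat.sub b 1) (Nat.sub (Nat.sub m 1) r)))
    (Nat.sub (Nat.sub m 1) b)

/-- numerators of the step factors, exact case. -/
def aI (m b c r : ℕ) : ℕ :=
  Nat.rec (aF m b c r)
    (fun _ _ => Nat.add (aF m b c r) (Nat.sub (aS m b c r) (aF m b c r)))
    (Nat.sub b (Nat.sub (Nat.sub m 1) r))

theorem AI_nonneg (m b c t : ℕ) : 0 ≤ AI m b c t := by
  unfold AI
  split_ifs
  · exact le_max_of_le_left (by positivity)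
  · positivity

theorem aF_eq (m b c t : ℕ) (ht : t + 1 ≤ m) :
    aF m b c (m - 1 - t) = c * (m - t - max (2 * b) (t + 3 - b)) := by
  change c * (m - 1 - t + 1 - (2 * b + (m - 1 - (m - 1 - t) + 3 - b - 2 * b))) = _
  congr 1
  omega

theorem aS_eq (m b c t : ℕ) (ht : t + 1 ≤ m) :
    aS m b c (m - 1 - t) = c * (b - 1 - t) + (m - 1 - b) := by
  change c * (b - 1 - (m - 1 - (m - 1 - t))) + (m - 1 - b) = _
  congr 3
  omega

theorem aI_lt (m b c t : ℕ) (ht : t + 1 ≤ m) (h : t < b) :
    aI m b c (m - 1 - t) = max (aF m b c (m - 1 - t)) (aS m b c (m - 1 - t)) := by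
  obtain ⟨k, hk⟩ : ∃ k, b - (m - 1 - (m - 1 - t)) = k + 1 := ⟨b - t - 1, by omega⟩
  change (Nat.rec _ _ (b - (m - 1 - (m - 1 - t))) : ℕ) = _
  rw [hk]
  change aF m b c (m - 1 - t) + (aS m b c (m - 1 - t) - aF m b c (m - 1 - t)) = _
  omega

theorem aI_ge (m b c t : ℕ) (ht : t + 1 ≤ m) (h : ¬ t < b) :
    aI m b c (m - 1 - t) = aF m b c (m - 1 - t) := by
  have hk : b - (m - 1 - (m - 1 - t)) = 0 := by omega
  change (Nat.rec _ _ (b - (m - 1 - (m - 1 - t))) : ℕ) = _
  rw [hk]
  rfl

theorem aI_eq (m b c t : ℕ) (hc : 0 < c) (ht : t + 1 ≤ m) :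
    (aI m b c (m - 1 - t) : ℝ) = c * AI m b c t := by
  have hc' : (0 : ℝ) < c := by exact_mod_cast hc
  unfold AI
  split_ifs with h
  · rw [aI_lt m b c t ht h, Nat.cast_max, aF_eq m b c t ht, aS_eq m b c t ht,
      mul_max_of_nonneg _ _ hc'.le]
    push_cast
    rw [mul_add, mul_div_cancel₀ _ hc'.ne']
  · rw [aI_ge m b c t ht h, aF_eq m b c t ht]
    push_cast
    rfl

theorem IB_le (m b c : ℕ) (hm : 1 ≤ m) (hc : 0 < c) :
    IB m b c * 1048576 ≤ loop c (aI m b c) m (c * (m - 1) * 1048576) 1048576 := by
  refine prod_vseq_le c hc _ m m le_rfl _ _ ?_ (AI_nonneg m b c) _ ?_ ?_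
  · have : (1 : ℝ) ≤ m := by exact_mod_cast hm
    have h2 : (0 : ℝ) ≤ c := by positivity
    exact mul_nonneg h2 (by linarith)
  · push_cast
    rw [Nat.cast_sub hm]
    norm_num
  · intro t ht
    have hX : (0 : ℝ) < ((m - t - 1 : ℕ) : ℝ) := by
      exact_mod_cast (by omega : 0 < m - t - 1)
    have e : m - 1 - t = m - t - 1 := by omega
    rw [aI_eq m b c t hc (by omega), e, div_mul_eq_mul_div, div_le_iff₀ hX]
    apply le_of_eq
    ring

theorem AI_two_le (m b t : ℕ) (hb2 : 2 * b ≤ m - 1) (ht : t + 1 < m) :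
    AI m b 2 t = 0 ∨ AI m b 2 t ≤ ((m - t - 1 : ℕ) : ℝ) - (min (8 * t + 12) (3 * m + 9) : ℕ) / 12 := by
  have h1 : ((m - t - max (2 * b) (t + 3 - b) : ℕ) : ℝ) = 0 ∨
      ((m - t - max (2 * b) (t + 3 - b) : ℕ) : ℝ) ≤
        ((m - t - 1 : ℕ) : ℝ) - (min (8 * t + 12) (3 * m + 9) : ℕ) / 12 := by
    rcases Nat.lt_or_ge (max (2 * b) (t + 3 - b)) (m - t) with h | h
    · right
      rw [le_sub_iff_add_le, ← le_sub_iff_add_le', div_le_iff₀ (by norm_num)]
      have h3 : (min (8 * t + 12) (3 * m + 9)) + 12 * (m - t - max (2 * b) (t + 3 - b)) ≤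
          12 * (m - t - 1) := by omega
      have h4 : ((min (8 * t + 12) (3 * m + 9) : ℕ) : ℝ) +
          12 * ((m - t - max (2 * b) (t + 3 - b) : ℕ) : ℝ) ≤ 12 * ((m - t - 1 : ℕ) : ℝ) := by
        exact_mod_cast h3
      linarith
    · left
      rw [Nat.sub_eq_zero_of_le h]; simp
  have h2 : t < b → ((b - 1 - t : ℕ) : ℝ) + ((m - 1 - b : ℕ) : ℝ) / ((2 : ℕ) : ℝ) ≤
      ((m - t - 1 : ℕ) : ℝ) - (min (8 * t + 12) (3 * m + 9) : ℕ) / 12 := by
    intro htb
    have h3 : (min (8 * t + 12) (3 * m + 9)) + 12 * (b - 1 - t) + 6 * (m - 1 - b) ≤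
        12 * (m - t - 1) := by omega
    have h4 : ((min (8 * t + 12) (3 * m + 9) : ℕ) : ℝ) + 12 * ((b - 1 - t : ℕ) : ℝ) +
        6 * ((m - 1 - b : ℕ) : ℝ) ≤ 12 * ((m - t - 1 : ℕ) : ℝ) := by
      exact_mod_cast h3
    push_cast at h4 ⊢
    linarith
  unfold AI
  split_ifs with h
  · rcases h1 with h1 | h1
    · right
      rw [h1]
      refine max_le ?_ (h2 h)
      refine le_trans ?_ (h2 h)
      positivity
    · right
      exact max_le h1 (h2 h)
  · exact h1

theorem IB_two_le (m M m1 b : ℕ) (hm : 1 ≤ m) (hmM : m ≤ M) (hm1 : m1 ≤ m) (hb2 : 2 * b ≤ m - 1) :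
    IB m b 2 * 1048576 ≤ loop 12
      (fun r => Nat.sub (Nat.mul 12 r) (Nat.sub (Nat.add (Nat.mul 8 (Nat.sub (Nat.sub M 1) r)) 12)
        (Nat.sub (Nat.add (Nat.mul 8 (Nat.sub (Nat.sub M 1) r)) 12) (Nat.add (Nat.mul 3 m1) 9))))
      M (2 * (M - 1) * 1048576) 1048576 := by
  refine prod_vseq_le 12 (by norm_num) _ m M hmM _ _ ?_ (AI_nonneg m b 2) _ ?_ ?_
  · have : (1 : ℝ) ≤ m := by exact_mod_cast hm
    push_cast
    linarith
  · push_cast
    have h1 : ((M - 1 : ℕ) : ℝ) = M - 1 := by
      rw [Nat.cast_sub (by omega)]; norm_num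
    have h2 : (m : ℝ) ≤ M := by exact_mod_cast hmM
    rw [h1]
    linarith
  · intro t ht
    have hX : (0 : ℝ) < ((m - t - 1 : ℕ) : ℝ) := by
      exact_mod_cast (by omega : 0 < m - t - 1)
    have hXY : ((m - t - 1 : ℕ) : ℝ) ≤ ((M - 1 - t : ℕ) : ℝ) := by
      exact_mod_cast (by omega : m - t - 1 ≤ M - 1 - t)
    have key := ratio_le (AI m b 2 t) _ _ (((min (8 * t + 12) (3 * m1 + 9) : ℕ) : ℝ) / 12) hX hXY
      (by positivity) (AI_nonneg m b 2 t)
      (by
        rcases AI_two_le m b t hb2 ht with h | h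
        · exact Or.inl h
        · right
          refine h.trans ?_
          have h5 : ((min (8 * t + 12) (3 * m1 + 9) : ℕ) : ℝ) ≤
              ((min (8 * t + 12) (3 * m + 9) : ℕ) : ℝ) := by
            exact_mod_cast (by omega)
          linarith)
    have key2 : AI m b 2 t / ((m - t - 1 : ℕ) : ℝ) * (((12 : ℕ) : ℝ) * ((M - 1 - t : ℕ) : ℝ)) =
        12 * (AI m b 2 t / ((m - t - 1 : ℕ) : ℝ) * ((M - 1 - t : ℕ) : ℝ)) := by
      push_cast; ring
    rw [key2]
    have hmax : 12 * (AI m b 2 t / ((m - t - 1 : ℕ) : ℝ) * ((M - 1 - t : ℕ) : ℝ)) ≤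
        12 * max 0 (((M - 1 - t : ℕ) : ℝ) - ((min (8 * t + 12) (3 * m1 + 9) : ℕ) : ℝ) / 12) := by
      linarith
    refine hmax.trans ?_
    rw [mul_max_of_nonneg _ _ (by norm_num)]
    refine max_le (by simp) ?_
    rw [mul_sub, mul_div_cancel₀ _ (by norm_num : (12 : ℝ) ≠ 0), sub_le_iff_le_add]
    have h6 : 12 * (M - 1 - t) ≤
        (12 * (M - 1 - t) - (8 * (M - 1 - (M - 1 - t)) + 12 -
          (8 * (M - 1 - (M - 1 - t)) + 12 - (3 * m1 + 9)))) + min (8 * t + 12) (3 * m1 + 9) := by
      omega
    exact_mod_cast h6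

/-- comparing `n! / m!` with `n₂! / m₁!` -/
theorem final_le (n n2 m1 k L : ℕ) (hn : 3 ≤ n) (hn2 : n ≤ n2) (hk : k ≤ n) (hm1 : m1 ≤ n - k)
    (x : ℝ) (hx : x * 1048576 ≤ L)
    (hchk : n2.descFactorial (n2 - m1) * L ≤ 4 ^ n2 * 1048576) :
    (n.descFactorial k : ℝ) * x ≤ 4 ^ n := by
  have h1 : n.descFactorial k * 4 ^ (n2 - n) ≤ n2.descFactorial (n2 - m1) := by
    have e1 : m1.factorial * n2.descFactorial (n2 - m1) = n2.factorial := by
      have := Nat.factorial_mul_descFactorial (n := n2) (k := n2 - m1) (by omega)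
      rwa [Nat.sub_sub_self (by omega)] at this
    have e2 := Nat.factorial_mul_descFactorial hk
    have e3 : n.factorial * (n + 1) ^ (n2 - n) ≤ n2.factorial := by
      have := Nat.factorial_mul_pow_le_factorial (m := n) (n := n2 - n)
      rwa [Nat.add_sub_cancel' hn2] at this
    have e4 : n.factorial * 4 ^ (n2 - n) ≤ n2.factorial :=
      le_trans (Nat.mul_le_mul_left _ (Nat.pow_le_pow_left (by omega) _)) e3
    have e5 : m1.factorial ≤ (n - k).factorial := Nat.factorial_le hm1
    have e6 : m1.factorial * (n.descFactorial k * 4 ^ (n2 - n)) ≤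
        m1.factorial * n2.descFactorial (n2 - m1) := by
      rw [e1, ← mul_assoc]
      refine le_trans (Nat.mul_le_mul_right _ (Nat.mul_le_mul_right _ e5)) ?_
      rw [e2]
      exact e4
    exact Nat.le_of_mul_le_mul_left e6 (Nat.factorial_pos _)
  have h2 : n.descFactorial k * 4 ^ (n2 - n) * L ≤ 4 ^ n2 * 1048576 :=
    le_trans (Nat.mul_le_mul_right _ h1) hchk
  have h3 : n.descFactorial k * L ≤ 4 ^ n * 1048576 := by
    have e : 4 ^ n2 = 4 ^ n * 4 ^ (n2 - n) := by
      rw [← pow_add, Nat.add_sub_cancel' hn2]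
    rw [e] at h2
    have e7 : 4 ^ (n2 - n) * (n.descFactorial k * L) ≤ 4 ^ (n2 - n) * (4 ^ n * 1048576) := by
      calc 4 ^ (n2 - n) * (n.descFactorial k * L) = n.descFactorial k * 4 ^ (n2 - n) * L := by ring
        _ ≤ _ := h2
        _ = _ := by ring
    exact Nat.le_of_mul_le_mul_left e7 (by positivity)
  have h4 : (n.descFactorial k : ℝ) * L ≤ 4 ^ n * 1048576 := by exact_mod_cast h3
  have h5 : (n.descFactorial k : ℝ) * (x * 1048576) ≤ n.descFactorial k * L :=
    mul_le_mul_of_nonneg_left hx (by positivity)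
  have h6 : (n.descFactorial k : ℝ) * x * 1048576 ≤ 4 ^ n * 1048576 := by
    rw [mul_assoc]; exact h5.trans h4
  exact le_of_mul_le_mul_right h6 (by norm_num)

theorem dmin_mono {m1 m : ℕ} (h : m1 ≤ m) : dmin m1 ≤ dmin m := by
  unfold dmin
  have := Nat.sqrt_le_sqrt (show 4 * m1 - 4 ≤ 4 * m - 4 by omega)
  omega

theorem dmin_pos (m : ℕ) : 1 ≤ dmin m := by
  unfold dmin
  omega

/-- Check of the first inequality, degrees `m1 ≤ m ≤ M`, `n ≤ n2`. -/
def chkU (m1 M n2 : ℕ) : Bool :=
  Nat.ble (Nat.mul (n2.descFactorial (n2 - m1))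
    (loop 1 (fun r => Nat.sub r (dmin m1 - 1)) M ((M - 1) * 1048576) 1048576)) (4 ^ n2 * 1048576)

/-- Check of the second inequality, uniform in `b`, degrees `m1 ≤ m ≤ M`, `n ≤ n2`. -/
def chkI (m1 M n2 : ℕ) : Bool :=
  Nat.ble (Nat.mul (n2.descFactorial (n2 - m1))
    (loop 12
      (fun r => Nat.sub (Nat.mul 12 r) (Nat.sub (Nat.add (Nat.mul 8 (Nat.sub (Nat.sub M 1) r)) 12)
        (Nat.sub (Nat.add (Nat.mul 8 (Nat.sub (Nat.sub M 1) r)) 12) (Nat.add (Nat.mul 3 m1) 9))))
      M (2 * (M - 1) * 1048576) 1048576)) (4 ^ n2 * 1048576)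

/-- Check of the second inequality for one value of `b` and `c`, degree `m`. -/
def chkJ (m b c n2 : ℕ) : Bool :=
  Nat.ble (Nat.mul (n2.descFactorial (n2 - m))
    (loop c (aI m b c) m (c * (m - 1) * 1048576) 1048576)) (4 ^ n2 * 1048576)

theorem UB_good (m1 M n2 n j : ℕ) (hc : chkU m1 M n2 = true) (hn : 3 ≤ n) (hn2 : n ≤ n2)
    (hj : 1 ≤ j) (hjn : j ≤ n) (h1 : m1 + j ≤ n + 1) (hM : n + 1 ≤ M + j) :
    (n.descFactorial (j - 1) : ℝ) * UB (n - j + 1) (dmin (n - j + 1)) ≤ 4 ^ n := by
  refine final_le n n2 m1 (j - 1) _ hn hn2 (by omega) (by omega) _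
    (UB_le (n - j + 1) M _ (dmin m1 - 1) (by omega) (by omega) ?_) (Nat.le_of_ble_eq_true hc)
  have := dmin_pos m1
  have := dmin_mono (show m1 ≤ n - j + 1 by omega)
  omega

theorem IB_good (m1 M n2 n j b : ℕ) (hc : chkI m1 M n2 = true) (hn : 3 ≤ n) (hn2 : n ≤ n2)
    (hj : 2 ≤ j) (hjn : j ≤ n) (h1 : m1 + j ≤ n + 2) (hM : n + 2 ≤ M + j)
    (hb : 2 * b ≤ n - j + 1) :
    (n.descFactorial (j - 2) : ℝ) * IB (n - j + 2) b 2 ≤ 4 ^ n :=
  final_le n n2 m1 (j - 2) _ hn hn2 (by omega) (by omega) _
    (IB_two_le (n - j + 2) M m1 b (by omega) (by omega) (by omega) (by omega))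
    (Nat.le_of_ble_eq_true hc)

theorem JB_good (n2 n j b c : ℕ) (h0 : 0 < c) (hc : chkJ (n - j + 2) b c n2 = true) (hn : 3 ≤ n)
    (hn2 : n ≤ n2) (hj : 2 ≤ j) (hjn : j ≤ n) :
    (n.descFactorial (j - 2) : ℝ) * IB (n - j + 2) b c ≤ 4 ^ n :=
  final_le n n2 (n - j + 2) (j - 2) _ hn hn2 (by omega) (by omega) _
    (IB_le (n - j + 2) b c (by omega) h0)
    (Nat.le_of_ble_eq_true hc)

/-- Blocks `n₁ ≤ n ≤ n₂`, checked at once. -/
theorem good_block (p q V n1 n2 : ℕ) (hp : p.Prime) (hp5 : 5 ≤ p) (hq : q = 1 ∨ q = 2)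
    (hV : V = q * p) (h1 : V + 3 ≤ n1) (h2 : n2 < (q + 1) * p)
    (hU : chkU (V + 1) n2 n2 = true) (hI : chkI (V + 2) n2 n2 = true)
    (n j : ℕ) (hn : n1 ≤ n) (hn' : n ≤ n2) (hj : 1 ≤ j) (hjn : j ≤ n) (hK : Kcond n j) :
    Good n j := by
  have hjV : j + V ≤ n := by
    rw [hV]
    exact hK p q hp hp5 hq (by omega) (by omega)
  refine ⟨UB_good (V + 1) n2 n2 n j hU (by omega) hn' hj hjn (by omega) (by omega),
    fun hj2 b _ hb _ => ⟨2, by norm_num, ?_⟩⟩
  exact IB_good (V + 2) n2 n2 n j b hI (by omega) hn' hj2 hjn (by omega) (by omega) hb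

/-- The checks of the second inequality in degree `m`. -/
def chkJall (m n2 : ℕ) : ℕ → Bool :=
  Nat.rec true fun b ih =>
    (Nat.ble b 1 || !(Nat.beq (Nat.mod (Nat.sub m 1) b) 0) || chkJ m b 1 n2 || chkJ m b 2 n2
      || chkJ m b 3 n2) && ih

theorem chkJall_spec (m n2 k : ℕ) (h : chkJall m n2 k = true) (b : ℕ) (hb2 : 2 ≤ b) (hb : b < k)
    (hd : b ∣ m - 1) : ∃ c : ℕ, 1 ≤ c ∧ chkJ m b c n2 = true := by
  induction k with
  | zero => omega
  | succ k ih =>
    have h' : ((Nat.ble k 1 || !(Nat.beq (Nat.mod (Nat.sub m 1) k) 0) || chkJ m k 1 n2 ||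
      chkJ m k 2 n2 || chkJ m k 3 n2) && chkJall m n2 k) = true := h
    rw [Bool.and_eq_true] at h'
    obtain ⟨h1, h2⟩ := h'
    rcases Nat.lt_or_ge b k with hbk | hbk
    · exact ih h2 hbk
    · obtain rfl : b = k := by omega
      simp only [Bool.or_eq_true] at h1
      rcases h1 with (((h1 | h1) | h1) | h1) | h1
      · have := Nat.le_of_ble_eq_true h1
        omega
      · exfalso
        have h3 : (m - 1) % b = 0 := Nat.mod_eq_zero_of_dvd hd
        have h4 : Nat.mod (Nat.sub m 1) b = 0 := h3
        rw [h4] at h1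
        exact absurd h1 (by decide)
      · exact ⟨1, le_rfl, h1⟩
      · exact ⟨2, by norm_num, h1⟩
      · exact ⟨3, by norm_num, h1⟩

/-- All checks in degrees `V + 1 ≤ m ≤ V + k`. -/
def chkAll (V n2 : ℕ) : ℕ → Bool :=
  Nat.rec true fun i ih =>
    ((Nat.beq i 0 || chkJall (Nat.add V (Nat.add i 1)) n2 (Nat.div (Nat.add V (Nat.add i 2)) 2)) &&
      chkU (Nat.add V (Nat.add i 1)) (Nat.add V (Nat.add i 1)) n2) && ih

theorem chkAll_spec (V n2 k : ℕ) (h : chkAll V n2 k = true) (i : ℕ) (hi : i < k) :
    (1 ≤ i → chkJall (V + (i + 1)) n2 ((V + (i + 2)) / 2) = true) ∧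
      chkU (V + (i + 1)) (V + (i + 1)) n2 = true := by
  induction k with
  | zero => omega
  | succ k ih =>
    have h' : (((Nat.beq k 0 || chkJall (V + (k + 1)) n2 ((V + (k + 2)) / 2)) &&
      chkU (V + (k + 1)) (V + (k + 1)) n2) && chkAll V n2 k) = true := h
    rw [Bool.and_eq_true, Bool.and_eq_true] at h'
    obtain ⟨⟨h1, h2⟩, h3⟩ := h'
    rcases Nat.lt_or_ge i k with hik | hik
    · exact ih h3 hik
    · obtain rfl : i = k := by omega
      refine ⟨fun h5 => ?_, h2⟩
      rw [Bool.or_eq_true] at h1
      rcases h1 with h1 | h1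
      · have := Nat.eq_of_beq_eq_true h1
        omega
      · exact h1

/-- Blocks `n₁ ≤ n ≤ n₂`, checked degree by degree. -/
theorem good_block' (p q V n1 n2 : ℕ) (hp : p.Prime) (hp5 : 5 ≤ p) (hq : q = 1 ∨ q = 2)
    (hV : V = q * p) (h1 : V + 3 ≤ n1) (h2 : n2 < (q + 1) * p)
    (hA : chkAll V n2 (n2 - V) = true)
    (n j : ℕ) (hn : n1 ≤ n) (hn' : n ≤ n2) (hj : 1 ≤ j) (hjn : j ≤ n) (hK : Kcond n j) :
    Good n j := by
  have hjV : j + V ≤ n := by
    rw [hV]
    exact hK p q hp hp5 hq (by omega) (by omega)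
  refine ⟨?_, fun hj2 b hb2 hb hbd => ?_⟩
  · have h := (chkAll_spec V n2 _ hA (n - j - V) (by omega)).2
    have e : V + (n - j - V + 1) = n - j + 1 := by omega
    rw [e] at h
    exact UB_good _ _ n2 n j h (by omega) hn' hj hjn (by omega) (by omega)
  · have h := (chkAll_spec V n2 _ hA (n - j + 1 - V) (by omega)).1 (by omega)
    have e : V + (n - j + 1 - V + 1) = n - j + 2 := by omega
    have e2 : V + (n - j + 1 - V + 2) = n - j + 3 := by omega
    rw [e, e2] at h
    obtain ⟨c, hc, hc2⟩ := chkJall_spec _ n2 _ h b hb2 (by omega) (by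
      have e3 : n - j + 2 - 1 = n - j + 1 := by omega
      rw [e3]; exact hbd)
    exact ⟨c, hc, JB_good n2 n j b c hc hc2 (by omega) hn' hj2 hjn⟩

theorem cS0 : chkAll 19 24 5 = true := by decide +kernel
theorem cS1 : chkAll 22 25 3 = true := by decide +kernel
theorem cS2 : chkAll 23 28 5 = true := by decide +kernel
theorem cS3 : chkAll 26 31 5 = true := by decide +kernel
theorem cS4 : chkAll 29 33 4 = true := by decide +kernel
theorem cS5 : chkAll 31 36 5 = true := by decide +kernel
theorem cS6 : chkAll 34 39 5 = true := by decide +kernel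
theorem cS7 : chkAll 37 40 3 = true := by decide +kernel
theorem cS8 : chkAll 38 43 5 = true := by decide +kernel
theorem cS9 : chkAll 41 45 4 = true := by decide +kernel
theorem cS10 : chkAll 43 48 5 = true := by decide +kernel
theorem cS11 : chkAll 46 49 3 = true := by decide +kernel
theorem cS12 : chkAll 47 55 8 = true := by decide +kernel
theorem cS13 : chkAll 53 60 7 = true := by decide +kernel
theorem cS14 : chkAll 58 61 3 = true := by decide +kernel
theorem cS15 : chkAll 59 63 4 = true := by decide +kernel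
theorem cS16 : chkAll 61 64 3 = true := by decide +kernel
theorem cS17 : chkAll 62 69 7 = true := by decide +kernel
theorem cS18 : chkAll 67 73 6 = true := by decide +kernel
theorem cS19 : chkAll 71 75 4 = true := by decide +kernel
theorem cS20 : chkAll 73 76 3 = true := by decide +kernel
theorem cS21 : chkAll 74 81 7 = true := by decide +kernel
theorem cS22 : chkAll 79 84 5 = true := by decide +kernel
theorem cS23 : chkAll 82 85 3 = true := by decide +kernel
theorem cS24 : chkAll 83 88 5 = true := by decide +kernel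
theorem cS25 : chkAll 86 91 5 = true := by decide +kernel
theorem cS26 : chkAll 89 96 7 = true := by decide +kernel
theorem cS27 : chkAll 94 99 5 = true := by decide +kernel
theorem cS28 : chkAll 97 103 6 = true := by decide +kernel
theorem cS29 : chkAll 101 105 4 = true := by decide +kernel
theorem cS30 : chkAll 103 108 5 = true := by decide +kernel
theorem cS31 : chkAll 106 109 3 = true := by decide +kernel
theorem cS32 : chkAll 107 111 4 = true := by decide +kernel
theorem cS33 : chkAll 109 115 6 = true := by decide +kernel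
theorem cS34 : chkAll 113 120 7 = true := by decide +kernel

theorem cU0 : chkU 119 124 124 = true := by decide +kernel
theorem cI0 : chkI 120 124 124 = true := by decide +kernel
theorem cU1 : chkU 123 129 129 = true := by decide +kernel
theorem cI1 : chkI 124 129 129 = true := by decide +kernel
theorem cU2 : chkU 128 134 134 = true := by decide +kernel
theorem cI2 : chkI 129 134 134 = true := by decide +kernel
theorem cU3 : chkU 132 138 138 = true := by decide +kernel
theorem cI3 : chkI 133 138 138 = true := by decide +kernel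
theorem cU4 : chkU 135 142 142 = true := by decide +kernel
theorem cI4 : chkI 136 142 142 = true := by decide +kernel
theorem cU5 : chkU 140 147 147 = true := by decide +kernel
theorem cI5 : chkI 141 147 147 = true := by decide +kernel
theorem cU6 : chkU 143 150 150 = true := by decide +kernel
theorem cI6 : chkI 144 150 150 = true := by decide +kernel
theorem cU7 : chkU 147 155 155 = true := by decide +kernel
theorem cI7 : chkI 148 155 155 = true := by decide +kernel
theorem cU8 : chkU 152 160 160 = true := by decide +kernel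
theorem cI8 : chkI 153 160 160 = true := by decide +kernel
theorem cU9 : chkU 159 168 168 = true := by decide +kernel
theorem cI9 : chkI 160 168 168 = true := by decide +kernel
theorem cU10 : chkU 167 176 176 = true := by decide +kernel
theorem cI10 : chkI 168 176 176 = true := by decide +kernel
theorem cU11 : chkU 174 184 184 = true := by decide +kernel
theorem cI11 : chkI 175 184 184 = true := by decide +kernel
theorem cU12 : chkU 182 193 193 = true := by decide +kernel
theorem cI12 : chkI 183 193 193 = true := by decide +kernel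
theorem cU13 : chkU 192 204 204 = true := by decide +kernel
theorem cI13 : chkI 193 204 204 = true := by decide +kernel
theorem cU14 : chkU 203 216 216 = true := by decide +kernel
theorem cI14 : chkI 204 216 216 = true := by decide +kernel
theorem cU15 : chkU 215 229 229 = true := by decide +kernel
theorem cI15 : chkI 216 229 229 = true := by decide +kernel
theorem cU16 : chkU 228 243 243 = true := by decide +kernel
theorem cI16 : chkI 229 243 243 = true := by decide +kernel
theorem cU17 : chkU 242 259 259 = true := by decide +kernel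
theorem cI17 : chkI 243 259 259 = true := by decide +kernel
theorem cU18 : chkU 258 276 276 = true := by decide +kernel
theorem cI18 : chkI 259 276 276 = true := by decide +kernel
theorem cU19 : chkU 275 295 295 = true := by decide +kernel
theorem cI19 : chkI 276 295 295 = true := by decide +kernel
theorem cU20 : chkU 294 316 316 = true := by decide +kernel
theorem cI20 : chkI 295 316 316 = true := by decide +kernel
theorem cU21 : chkU 315 339 339 = true := by decide +kernel
theorem cI21 : chkI 316 339 339 = true := by decide +kernel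
theorem cU22 : chkU 338 365 365 = true := by decide +kernel
theorem cI22 : chkI 339 365 365 = true := by decide +kernel
theorem cU23 : chkU 363 393 393 = true := by decide +kernel
theorem cI23 : chkI 364 393 393 = true := by decide +kernel
theorem cU24 : chkU 390 423 423 = true := by decide +kernel
theorem cI24 : chkI 391 423 423 = true := by decide +kernel
theorem cU25 : chkU 422 458 458 = true := by decide +kernel
theorem cI25 : chkI 423 458 458 = true := by decide +kernel
theorem cU26 : chkU 455 495 495 = true := by decide +kernel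
theorem cI26 : chkI 456 495 495 = true := by decide +kernel
theorem cU27 : chkU 492 537 537 = true := by decide +kernel
theorem cI27 : chkI 493 537 537 = true := by decide +kernel
theorem cU28 : chkU 527 576 576 = true := by decide +kernel
theorem cI28 : chkI 528 576 576 = true := by decide +kernel
theorem cU29 : chkU 572 626 626 = true := by decide +kernel
theorem cI29 : chkI 573 626 626 = true := by decide +kernel
theorem cU30 : chkU 623 682 682 = true := by decide +kernel
theorem cI30 : chkI 624 682 682 = true := by decide +kernel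
theorem cU31 : chkU 678 742 742 = true := by decide +kernel
theorem cI31 : chkI 679 742 742 = true := by decide +kernel
theorem cU32 : chkU 740 810 810 = true := by decide +kernel
theorem cI32 : chkI 741 810 810 = true := by decide +kernel
theorem cU33 : chkU 803 880 880 = true := by decide +kernel
theorem cI33 : chkI 804 880 880 = true := by decide +kernel
theorem cU34 : chkU 879 966 966 = true := by decide +kernel
theorem cI34 : chkI 880 966 966 = true := by decide +kernel
theorem cU35 : chkU 959 1054 1054 = true := by decide +kernel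
theorem cI35 : chkI 960 1054 1054 = true := by decide +kernel

theorem good_small (n j : ℕ) (hn : 22 ≤ n) (hn' : n < 1024) (hj : 1 ≤ j) (hjn : j ≤ n)
    (hK : Kcond n j) : Good n j := by
  rcases Nat.lt_or_ge 24 n with h0 | h0
  swap
  · exact good_block' 19 1 19 22 24 (by norm_num) (by norm_num) (by norm_num) (by norm_num) (by norm_num) (by norm_num) cS0 n j (by omega) h0 hj hjn hK
  rcases Nat.lt_or_ge 25 n with h1 | h1
  swap
  · exact good_block' 11 2 22 25 25 (by norm_num) (by norm_num) (by norm_num) (by norm_num) (by norm_num) (by norm_num) cS1 n j (by omega) h1 hj hjn hK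
  rcases Nat.lt_or_ge 28 n with h2 | h2
  swap
  · exact good_block' 23 1 23 26 28 (by norm_num) (by norm_num) (by norm_num) (by norm_num) (by norm_num) (by norm_num) cS2 n j (by omega) h2 hj hjn hK
  rcases Nat.lt_or_ge 31 n with h3 | h3
  swap
  · exact good_block' 13 2 26 29 31 (by norm_num) (by norm_num) (by norm_num) (by norm_num) (by norm_num) (by norm_num) cS3 n j (by omega) h3 hj hjn hK
  rcases Nat.lt_or_ge 33 n with h4 | h4
  swap
  · exact good_block' 29 1 29 32 33 (by norm_num) (by norm_num) (by norm_num) (by norm_num) (by norm_num) (by norm_num) cS4 n j (by omega) h4 hj hjn hK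
  rcases Nat.lt_or_ge 36 n with h5 | h5
  swap
  · exact good_block' 31 1 31 34 36 (by norm_num) (by norm_num) (by norm_num) (by norm_num) (by norm_num) (by norm_num) cS5 n j (by omega) h5 hj hjn hK
  rcases Nat.lt_or_ge 39 n with h6 | h6
  swap
  · exact good_block' 17 2 34 37 39 (by norm_num) (by norm_num) (by norm_num) (by norm_num) (by norm_num) (by norm_num) cS6 n j (by omega) h6 hj hjn hK
  rcases Nat.lt_or_ge 40 n with h7 | h7
  swap
  · exact good_block' 37 1 37 40 40 (by norm_num) (by norm_num) (by norm_num) (by norm_num) (by norm_num) (by norm_num) cS7 n j (by omega) h7 hj hjn hK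
  rcases Nat.lt_or_ge 43 n with h8 | h8
  swap
  · exact good_block' 19 2 38 41 43 (by norm_num) (by norm_num) (by norm_num) (by norm_num) (by norm_num) (by norm_num) cS8 n j (by omega) h8 hj hjn hK
  rcases Nat.lt_or_ge 45 n with h9 | h9
  swap
  · exact good_block' 41 1 41 44 45 (by norm_num) (by norm_num) (by norm_num) (by norm_num) (by norm_num) (by norm_num) cS9 n j (by omega) h9 hj hjn hK
  rcases Nat.lt_or_ge 48 n with h10 | h10
  swap
  · exact good_block' 43 1 43 46 48 (by norm_num) (by norm_num) (by norm_num) (by norm_num) (by norm_num) (by norm_num) cS10 n j (by omega) h10 hj hjn hK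
  rcases Nat.lt_or_ge 49 n with h11 | h11
  swap
  · exact good_block' 23 2 46 49 49 (by norm_num) (by norm_num) (by norm_num) (by norm_num) (by norm_num) (by norm_num) cS11 n j (by omega) h11 hj hjn hK
  rcases Nat.lt_or_ge 55 n with h12 | h12
  swap
  · exact good_block' 47 1 47 50 55 (by norm_num) (by norm_num) (by norm_num) (by norm_num) (by norm_num) (by norm_num) cS12 n j (by omega) h12 hj hjn hK
  rcases Nat.lt_or_ge 60 n with h13 | h13
  swap
  · exact good_block' 53 1 53 56 60 (by norm_num) (by norm_num) (by norm_num) (by norm_num) (by norm_num) (by norm_num) cS13 n j (by omega) h13 hj hjn hK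
  rcases Nat.lt_or_ge 61 n with h14 | h14
  swap
  · exact good_block' 29 2 58 61 61 (by norm_num) (by norm_num) (by norm_num) (by norm_num) (by norm_num) (by norm_num) cS14 n j (by omega) h14 hj hjn hK
  rcases Nat.lt_or_ge 63 n with h15 | h15
  swap
  · exact good_block' 59 1 59 62 63 (by norm_num) (by norm_num) (by norm_num) (by norm_num) (by norm_num) (by norm_num) cS15 n j (by omega) h15 hj hjn hK
  rcases Nat.lt_or_ge 64 n with h16 | h16
  swap
  · exact good_block' 61 1 61 64 64 (by norm_num) (by norm_num) (by norm_num) (by norm_num) (by norm_num) (by norm_num) cS16 n j (by omega) h16 hj hjn hK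
  rcases Nat.lt_or_ge 69 n with h17 | h17
  swap
  · exact good_block' 31 2 62 65 69 (by norm_num) (by norm_num) (by norm_num) (by norm_num) (by norm_num) (by norm_num) cS17 n j (by omega) h17 hj hjn hK
  rcases Nat.lt_or_ge 73 n with h18 | h18
  swap
  · exact good_block' 67 1 67 70 73 (by norm_num) (by norm_num) (by norm_num) (by norm_num) (by norm_num) (by norm_num) cS18 n j (by omega) h18 hj hjn hK
  rcases Nat.lt_or_ge 75 n with h19 | h19
  swap
  · exact good_block' 71 1 71 74 75 (by norm_num) (by norm_num) (by norm_num) (by norm_num) (by norm_num) (by norm_num) cS19 n j (by omega) h19 hj hjn hK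
  rcases Nat.lt_or_ge 76 n with h20 | h20
  swap
  · exact good_block' 73 1 73 76 76 (by norm_num) (by norm_num) (by norm_num) (by norm_num) (by norm_num) (by norm_num) cS20 n j (by omega) h20 hj hjn hK
  rcases Nat.lt_or_ge 81 n with h21 | h21
  swap
  · exact good_block' 37 2 74 77 81 (by norm_num) (by norm_num) (by norm_num) (by norm_num) (by norm_num) (by norm_num) cS21 n j (by omega) h21 hj hjn hK
  rcases Nat.lt_or_ge 84 n with h22 | h22
  swap
  · exact good_block' 79 1 79 82 84 (by norm_num) (by norm_num) (by norm_num) (by norm_num) (by norm_num) (by norm_num) cS22 n j (by omega) h22 hj hjn hK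
  rcases Nat.lt_or_ge 85 n with h23 | h23
  swap
  · exact good_block' 41 2 82 85 85 (by norm_num) (by norm_num) (by norm_num) (by norm_num) (by norm_num) (by norm_num) cS23 n j (by omega) h23 hj hjn hK
  rcases Nat.lt_or_ge 88 n with h24 | h24
  swap
  · exact good_block' 83 1 83 86 88 (by norm_num) (by norm_num) (by norm_num) (by norm_num) (by norm_num) (by norm_num) cS24 n j (by omega) h24 hj hjn hK
  rcases Nat.lt_or_ge 91 n with h25 | h25
  swap
  · exact good_block' 43 2 86 89 91 (by norm_num) (by norm_num) (by norm_num) (by norm_num) (by norm_num) (by norm_num) cS25 n j (by omega) h25 hj hjn hK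
  rcases Nat.lt_or_ge 96 n with h26 | h26
  swap
  · exact good_block' 89 1 89 92 96 (by norm_num) (by norm_num) (by norm_num) (by norm_num) (by norm_num) (by norm_num) cS26 n j (by omega) h26 hj hjn hK
  rcases Nat.lt_or_ge 99 n with h27 | h27
  swap
  · exact good_block' 47 2 94 97 99 (by norm_num) (by norm_num) (by norm_num) (by norm_num) (by norm_num) (by norm_num) cS27 n j (by omega) h27 hj hjn hK
  rcases Nat.lt_or_ge 103 n with h28 | h28
  swap
  · exact good_block' 97 1 97 100 103 (by norm_num) (by norm_num) (by norm_num) (by norm_num) (by norm_num) (by norm_num) cS28 n j (by omega) h28 hj hjn hK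
  rcases Nat.lt_or_ge 105 n with h29 | h29
  swap
  · exact good_block' 101 1 101 104 105 (by norm_num) (by norm_num) (by norm_num) (by norm_num) (by norm_num) (by norm_num) cS29 n j (by omega) h29 hj hjn hK
  rcases Nat.lt_or_ge 108 n with h30 | h30
  swap
  · exact good_block' 103 1 103 106 108 (by norm_num) (by norm_num) (by norm_num) (by norm_num) (by norm_num) (by norm_num) cS30 n j (by omega) h30 hj hjn hK
  rcases Nat.lt_or_ge 109 n with h31 | h31
  swap
  · exact good_block' 53 2 106 109 109 (by norm_num) (by norm_num) (by norm_num) (by norm_num) (by norm_num) (by norm_num) cS31 n j (by omega) h31 hj hjn hK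
  rcases Nat.lt_or_ge 111 n with h32 | h32
  swap
  · exact good_block' 107 1 107 110 111 (by norm_num) (by norm_num) (by norm_num) (by norm_num) (by norm_num) (by norm_num) cS32 n j (by omega) h32 hj hjn hK
  rcases Nat.lt_or_ge 115 n with h33 | h33
  swap
  · exact good_block' 109 1 109 112 115 (by norm_num) (by norm_num) (by norm_num) (by norm_num) (by norm_num) (by norm_num) cS33 n j (by omega) h33 hj hjn hK
  rcases Nat.lt_or_ge 120 n with h34 | h34
  swap
  · exact good_block' 113 1 113 116 120 (by norm_num) (by norm_num) (by norm_num) (by norm_num) (by norm_num) (by norm_num) cS34 n j (by omega) h34 hj hjn hK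
  rcases Nat.lt_or_ge 124 n with g0 | g0
  swap
  · exact good_block 59 2 118 121 124 (by norm_num) (by norm_num) (by norm_num) (by norm_num) (by norm_num) (by norm_num) cU0 cI0 n j (by omega) g0 hj hjn hK
  rcases Nat.lt_or_ge 129 n with g1 | g1
  swap
  · exact good_block 61 2 122 125 129 (by norm_num) (by norm_num) (by norm_num) (by norm_num) (by norm_num) (by norm_num) cU1 cI1 n j (by omega) g1 hj hjn hK
  rcases Nat.lt_or_ge 134 n with g2 | g2
  swap
  · exact good_block 127 1 127 130 134 (by norm_num) (by norm_num) (by norm_num) (by norm_num) (by norm_num) (by norm_num) cU2 cI2 n j (by omega) g2 hj hjn hK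
  rcases Nat.lt_or_ge 138 n with g3 | g3
  swap
  · exact good_block 131 1 131 135 138 (by norm_num) (by norm_num) (by norm_num) (by norm_num) (by norm_num) (by norm_num) cU3 cI3 n j (by omega) g3 hj hjn hK
  rcases Nat.lt_or_ge 142 n with g4 | g4
  swap
  · exact good_block 67 2 134 139 142 (by norm_num) (by norm_num) (by norm_num) (by norm_num) (by norm_num) (by norm_num) cU4 cI4 n j (by omega) g4 hj hjn hK
  rcases Nat.lt_or_ge 147 n with g5 | g5
  swap
  · exact good_block 139 1 139 143 147 (by norm_num) (by norm_num) (by norm_num) (by norm_num) (by norm_num) (by norm_num) cU5 cI5 n j (by omega) g5 hj hjn hK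
  rcases Nat.lt_or_ge 150 n with g6 | g6
  swap
  · exact good_block 71 2 142 148 150 (by norm_num) (by norm_num) (by norm_num) (by norm_num) (by norm_num) (by norm_num) cU6 cI6 n j (by omega) g6 hj hjn hK
  rcases Nat.lt_or_ge 155 n with g7 | g7
  swap
  · exact good_block 73 2 146 151 155 (by norm_num) (by norm_num) (by norm_num) (by norm_num) (by norm_num) (by norm_num) cU7 cI7 n j (by omega) g7 hj hjn hK
  rcases Nat.lt_or_ge 160 n with g8 | g8
  swap
  · exact good_block 151 1 151 156 160 (by norm_num) (by norm_num) (by norm_num) (by norm_num) (by norm_num) (by norm_num) cU8 cI8 n j (by omega) g8 hj hjn hK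
  rcases Nat.lt_or_ge 168 n with g9 | g9
  swap
  · exact good_block 79 2 158 161 168 (by norm_num) (by norm_num) (by norm_num) (by norm_num) (by norm_num) (by norm_num) cU9 cI9 n j (by omega) g9 hj hjn hK
  rcases Nat.lt_or_ge 176 n with g10 | g10
  swap
  · exact good_block 83 2 166 169 176 (by norm_num) (by norm_num) (by norm_num) (by norm_num) (by norm_num) (by norm_num) cU10 cI10 n j (by omega) g10 hj hjn hK
  rcases Nat.lt_or_ge 184 n with g11 | g11
  swap
  · exact good_block 173 1 173 177 184 (by norm_num) (by norm_num) (by norm_num) (by norm_num) (by norm_num) (by norm_num) cU11 cI11 n j (by omega) g11 hj hjn hK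
  rcases Nat.lt_or_ge 193 n with g12 | g12
  swap
  · exact good_block 181 1 181 185 193 (by norm_num) (by norm_num) (by norm_num) (by norm_num) (by norm_num) (by norm_num) cU12 cI12 n j (by omega) g12 hj hjn hK
  rcases Nat.lt_or_ge 204 n with g13 | g13
  swap
  · exact good_block 191 1 191 194 204 (by norm_num) (by norm_num) (by norm_num) (by norm_num) (by norm_num) (by norm_num) cU13 cI13 n j (by omega) g13 hj hjn hK
  rcases Nat.lt_or_ge 216 n with g14 | g14
  swap
  · exact good_block 101 2 202 205 216 (by norm_num) (by norm_num) (by norm_num) (by norm_num) (by norm_num) (by norm_num) cU14 cI14 n j (by omega) g14 hj hjn hK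
  rcases Nat.lt_or_ge 229 n with g15 | g15
  swap
  · exact good_block 107 2 214 217 229 (by norm_num) (by norm_num) (by norm_num) (by norm_num) (by norm_num) (by norm_num) cU15 cI15 n j (by omega) g15 hj hjn hK
  rcases Nat.lt_or_ge 243 n with g16 | g16
  swap
  · exact good_block 227 1 227 230 243 (by norm_num) (by norm_num) (by norm_num) (by norm_num) (by norm_num) (by norm_num) cU16 cI16 n j (by omega) g16 hj hjn hK
  rcases Nat.lt_or_ge 259 n with g17 | g17
  swap
  · exact good_block 241 1 241 244 259 (by norm_num) (by norm_num) (by norm_num) (by norm_num) (by norm_num) (by norm_num) cU17 cI17 n j (by omega) g17 hj hjn hK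
  rcases Nat.lt_or_ge 276 n with g18 | g18
  swap
  · exact good_block 257 1 257 260 276 (by norm_num) (by norm_num) (by norm_num) (by norm_num) (by norm_num) (by norm_num) cU18 cI18 n j (by omega) g18 hj hjn hK
  rcases Nat.lt_or_ge 295 n with g19 | g19
  swap
  · exact good_block 137 2 274 277 295 (by norm_num) (by norm_num) (by norm_num) (by norm_num) (by norm_num) (by norm_num) cU19 cI19 n j (by omega) g19 hj hjn hK
  rcases Nat.lt_or_ge 316 n with g20 | g20
  swap
  · exact good_block 293 1 293 296 316 (by norm_num) (by norm_num) (by norm_num) (by norm_num) (by norm_num) (by norm_num) cU20 cI20 n j (by omega) g20 hj hjn hK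
  rcases Nat.lt_or_ge 339 n with g21 | g21
  swap
  · exact good_block 157 2 314 317 339 (by norm_num) (by norm_num) (by norm_num) (by norm_num) (by norm_num) (by norm_num) cU21 cI21 n j (by omega) g21 hj hjn hK
  rcases Nat.lt_or_ge 365 n with g22 | g22
  swap
  · exact good_block 337 1 337 340 365 (by norm_num) (by norm_num) (by norm_num) (by norm_num) (by norm_num) (by norm_num) cU22 cI22 n j (by omega) g22 hj hjn hK
  rcases Nat.lt_or_ge 393 n with g23 | g23
  swap
  · exact good_block 181 2 362 366 393 (by norm_num) (by norm_num) (by norm_num) (by norm_num) (by norm_num) (by norm_num) cU23 cI23 n j (by omega) g23 hj hjn hK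
  rcases Nat.lt_or_ge 423 n with g24 | g24
  swap
  · exact good_block 389 1 389 394 423 (by norm_num) (by norm_num) (by norm_num) (by norm_num) (by norm_num) (by norm_num) cU24 cI24 n j (by omega) g24 hj hjn hK
  rcases Nat.lt_or_ge 458 n with g25 | g25
  swap
  · exact good_block 421 1 421 424 458 (by norm_num) (by norm_num) (by norm_num) (by norm_num) (by norm_num) (by norm_num) cU25 cI25 n j (by omega) g25 hj hjn hK
  rcases Nat.lt_or_ge 495 n with g26 | g26
  swap
  · exact good_block 227 2 454 459 495 (by norm_num) (by norm_num) (by norm_num) (by norm_num) (by norm_num) (by norm_num) cU26 cI26 n j (by omega) g26 hj hjn hK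
  rcases Nat.lt_or_ge 537 n with g27 | g27
  swap
  · exact good_block 491 1 491 496 537 (by norm_num) (by norm_num) (by norm_num) (by norm_num) (by norm_num) (by norm_num) cU27 cI27 n j (by omega) g27 hj hjn hK
  rcases Nat.lt_or_ge 576 n with g28 | g28
  swap
  · exact good_block 263 2 526 538 576 (by norm_num) (by norm_num) (by norm_num) (by norm_num) (by norm_num) (by norm_num) cU28 cI28 n j (by omega) g28 hj hjn hK
  rcases Nat.lt_or_ge 626 n with g29 | g29
  swap
  · exact good_block 571 1 571 577 626 (by norm_num) (by norm_num) (by norm_num) (by norm_num) (by norm_num) (by norm_num) cU29 cI29 n j (by omega) g29 hj hjn hK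
  rcases Nat.lt_or_ge 682 n with g30 | g30
  swap
  · exact good_block 311 2 622 627 682 (by norm_num) (by norm_num) (by norm_num) (by norm_num) (by norm_num) (by norm_num) cU30 cI30 n j (by omega) g30 hj hjn hK
  rcases Nat.lt_or_ge 742 n with g31 | g31
  swap
  · exact good_block 677 1 677 683 742 (by norm_num) (by norm_num) (by norm_num) (by norm_num) (by norm_num) (by norm_num) cU31 cI31 n j (by omega) g31 hj hjn hK
  rcases Nat.lt_or_ge 810 n with g32 | g32
  swap
  · exact good_block 739 1 739 743 810 (by norm_num) (by norm_num) (by norm_num) (by norm_num) (by norm_num) (by norm_num) cU32 cI32 n j (by omega) g32 hj hjn hK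
  rcases Nat.lt_or_ge 880 n with g33 | g33
  swap
  · exact good_block 401 2 802 811 880 (by norm_num) (by norm_num) (by norm_num) (by norm_num) (by norm_num) (by norm_num) cU33 cI33 n j (by omega) g33 hj hjn hK
  rcases Nat.lt_or_ge 966 n with g34 | g34
  swap
  · exact good_block 439 2 878 881 966 (by norm_num) (by norm_num) (by norm_num) (by norm_num) (by norm_num) (by norm_num) cU34 cI34 n j (by omega) g34 hj hjn hK
  rcases Nat.lt_or_ge 1054 n with g35 | g35
  swap
  · exact good_block 479 2 958 967 1054 (by norm_num) (by norm_num) (by norm_num) (by norm_num) (by norm_num) (by norm_num) cU35 cI35 n j (by omega) g35 hj hjn hK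
  omega

end Cfsg.Agent.PermutationGroups.OrderBound.NumSmall
end
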